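import Cfsg.Agent.KnownSimple.Steinberg.Gen.Base

/-!
An ordered list of roots whose relations are known gives a unipotent group on which the map to matrices
is injective (helper53).
-/

set_option autoImplicit false

namespace Cfsg.Agent.KnownSimple.Steinberg.Gen

open Cfsg.Lie Cfsg.Agent.ChevCore Cfsg.Agent.ChevGroup
open scoped commutatorElement

variable {D : ChevalleyDatum} {F : Type*} [Field F]

/-- Root elements over the matrix group with additivity. -/
structure Pre (D : ChevalleyDatum) (F : Type*) [Field F] (Γ : Type*) [Group Γ] where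
  π : Γ →* GL D.Idx F
  y : ℕ → F → Γ
  π_y : ∀ r, r < D.nroots → ∀ t, π (y r t) = xg D F r t
  y_add : ∀ r, r < D.nroots → ∀ t u, y r (t + u) = y r t * y r u

/-- membership -/
noncomputable def memK (L : List ℕ) (v : ℕ) : Bool := kany L fun w => Nat.beq w v

theorem memK_iff {L : List ℕ} {v : ℕ} : memK L v = true ↔ v ∈ L := by
  rw [memK, kany_iff]
  exact ⟨fun ⟨w, hw, e⟩ => Nat.eq_of_beq_eq_true e ▸ hw, fun h => ⟨v, h, Nat.beq_refl v⟩⟩

/-- the coordinates of `{a : -a ∉ T}` are kept by the root elements of `T` -/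
noncomputable def spanK (D : ChevalleyDatum) (A : Acc) (T : List ℕ) : Bool :=
  kall T fun v => kall (D.chain.getD v #[]).toList fun e =>
    memK T (A.negf e.1) || kall e.2.toList fun q => !(memK T (A.negf q.1))

/-- the order conditions on a list of roots -/
noncomputable def ordK (D : ChevalleyDatum) (A : Acc) (L : List ℕ) : Bool :=
  List.rec true (fun r T acc => acc && (Nat.blt r D.nroots && !(memK T r) && spanK D A T &&
    kall T fun v => !(Nat.beq v (A.negf r)) && kall (commW A r v) fun c => memK T c.1)) L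

theorem ordK_cons {r : ℕ} {T : List ℕ} :
    ordK D (std D) (r :: T) = true ↔ ordK D (std D) T = true ∧ r < D.nroots ∧ r ∉ T ∧
      spanK D (std D) T = true ∧ ∀ v ∈ T, v ≠ D.neg r ∧ ∀ c ∈ D.commTerms r v, c.1 ∈ T := by
  show (ordK D (std D) T && _) = true ↔ _
  simp only [Bool.and_eq_true, Nat.blt_eq, Bool.not_eq_true', kall_iff, memK_iff, std_negf,
    commW_std, ← Bool.not_eq_true, Nat.beq_eq]
  tauto

theorem ordK_lt : ∀ {L : List ℕ}, ordK D (std D) L = true → ∀ v ∈ L, v < D.nroots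
  | [], _, v, hv => by cases hv
  | r :: T, h, v, hv => by
    obtain ⟨h1, h2, -⟩ := ordK_cons.1 h
    rcases List.mem_cons.1 hv with rfl | hv
    exacts [h2, ordK_lt h1 v hv]

/-- matrices keeping the coordinates of `{a : -a ∉ T}` -/
def Keep (T : List ℕ) (g : GL D.Idx F) : Prop :=
  ∀ (col : Fin D.nroots) (row : D.Idx), D.neg col.val ∉ T →
    (g : Matrix D.Idx D.Idx F) row (Sum.inr col) ≠ 0 →
      ∃ u : Fin D.nroots, row = Sum.inr u ∧ D.neg u.val ∉ T

theorem Keep.mul {T : List ℕ} {g h : GL D.Idx F} (hg : Keep T g) (hh : Keep T h) : Keep T (g * h) := by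
  intro col row hcol hne
  rw [Units.val_mul, Matrix.mul_apply] at hne
  obtain ⟨x, -, hx⟩ := Finset.exists_ne_zero_of_sum_ne_zero hne
  obtain ⟨v, rfl, hv⟩ := hh col x hcol (right_ne_zero_of_mul hx)
  exact hg v row hv (left_ne_zero_of_mul hx)

theorem keep_one (T : List ℕ) : Keep T (1 : GL D.Idx F) := by
  intro col row hcol hne
  rw [Units.val_one, Matrix.one_apply] at hne
  split at hne
  · exact ⟨col, ‹_›, hcol⟩
  · exact absurd rfl hne

theorem keep_xg (hS : DOK D) {T : List ℕ} (hT : spanK D (std D) T = true) {v : ℕ} (hv : v ∈ T)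
    (hvl : v < D.nroots) (t : F) : Keep T (xg D F v t) := by
  have hD := hS.good
  intro col row hcol hne
  rw [hD.val_xg, ChevalleyDatum.x, dif_pos hvl] at hne
  by_cases hrc : row = Sum.inr col
  · exact ⟨col, hrc, hcol⟩
  simp only [spanK, kall_iff, Bool.or_eq_true, Bool.not_eq_true', std_negf, memK_iff,
    ← Bool.not_eq_true] at hT
  rcases Mat.xMat_off hrc hne with ⟨j, -, hj⟩ | ⟨s, hs, hsv, -⟩ |
    ⟨s, u, hs, rfl, -, e, he, he1, q, hq, hq1⟩
  · cases hj
  · cases hs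
    have hsv' : col.val = D.neg v := hsv
    exact absurd (by rw [hsv', hD.neg_neg hvl]; exact hv) hcol
  · cases hs
    refine ⟨u, rfl, ?_⟩
    have h := (hT v hv e he).resolve_left (by rw [he1]; exact hcol) q hq
    rwa [hq1] at h

theorem eq_zero_of_keep (hS : DOK D) {T : List ℕ} {k : ℕ} (hk : k < D.nroots) (hkT : k ∉ T) {t : F}
    (h : Keep T (xg D F k t)) : t = 0 := by
  have hD := hS.good
  have hs := hD.neg_lt hk
  have key : ∀ j : Fin D.rank, (((D.coroot.getD k #[]).getD j.val 0 : ℤ) : F) * t = 0 := by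
    intro j
    by_contra hne
    have hval : (xg D F k t : Matrix D.Idx D.Idx F) (Sum.inl j) (Sum.inr ⟨D.neg k, hs⟩) =
        (((D.coroot.getD k #[]).getD j.val 0 : ℤ) : F) * t := by
      rw [hD.val_xg, ChevalleyDatum.x, dif_pos hk]
      simp only [ChevalleyDatum.xMat, Matrix.of_apply, Fin.ext_iff]
      rw [show D.negIdx.getD k 0 = D.neg k from rfl, if_neg (hD.neg_ne hk), if_pos rfl]
    obtain ⟨u, hu, -⟩ := h ⟨D.neg k, hs⟩ (Sum.inl j)
      (by show D.neg (D.neg k) ∉ T; rwa [hD.neg_neg hk]) (by rw [hval]; exact hne)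
    cases hu
  have hsh := hS.shape
  simp only [Mat.shapeB, Bool.and_eq_true, List.all_eq_true, List.mem_range, decide_eq_true_eq,
    Mat.primB, List.any_eq_true, beq_iff_eq] at hsh
  obtain ⟨i, hi, j, hj, hg⟩ := (hsh.2 k hk).1.2
  have h1 := key ⟨i, hi⟩
  have h2 := key ⟨j, hj⟩
  have hget : ∀ (a : Array ℤ) (n : ℕ), a.getD n 0 = a.toList.getD n 0 := by
    intro a n
    simp [Array.getD_eq_getD_getElem?, List.getD_eq_getElem?_getD]
  simp only [hget] at h1 h2
  set a := (D.coroot.getD k #[]).toList.getD i 0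
  set b := (D.coroot.getD k #[]).toList.getD j 0
  have hb := Int.gcd_eq_gcd_ab a b
  rw [hg] at hb
  have hb' : (1 : F) = (a : F) * (Int.gcdA a b : F) + (b : F) * (Int.gcdB a b : F) := by
    have := congrArg (Int.cast : ℤ → F) hb
    simpa using this
  calc t = 1 * t := (one_mul t).symm
    _ = (a : F) * t * (Int.gcdA a b : F) + (b : F) * t * (Int.gcdB a b : F) := by rw [hb']; ring
    _ = 0 := by rw [h1, h2]; ring

namespace Pre

variable {Γ : Type*} [Group Γ] (R : Pre D F Γ)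

/-- the value of a word of root elements -/
def word (w : List (ℕ × F)) : Γ := (w.map fun p => R.y p.1 p.2).prod

/-- the commutator formula holds for `(r, s)` -/
def Rel (r s : ℕ) : Prop :=
  ∀ t u, ⁅R.y s u, R.y r t⁆ = R.word (D.commWord F r s (-t) (-u))

/-- the group generated by the root elements of a list of roots -/
def W (L : List ℕ) : Subgroup Γ := Subgroup.closure {g | ∃ v a, v ∈ L ∧ g = R.y v a}

theorem y_mem_W {L : List ℕ} {v : ℕ} (hv : v ∈ L) (a : F) : R.y v a ∈ R.W L :=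
  Subgroup.subset_closure ⟨v, a, hv, rfl⟩

theorem word_mem_W {L : List ℕ} {w : List (ℕ × F)} (h : ∀ p ∈ w, p.1 ∈ L) : R.word w ∈ R.W L := by
  refine Subgroup.list_prod_mem _ fun g hg => ?_
  obtain ⟨p, hp, rfl⟩ := List.mem_map.1 hg
  exact R.y_mem_W (h p hp) _

theorem W_mono {L L' : List ℕ} (h : ∀ v ∈ L, v ∈ L') : R.W L ≤ R.W L' :=
  Subgroup.closure_mono fun _ ⟨v, a, hv, e⟩ => ⟨v, a, h v hv, e⟩

theorem y_zero {r : ℕ} (hr : r < D.nroots) : R.y r 0 = 1 := by
  have := R.y_add r hr 0 0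
  rw [add_zero] at this
  exact left_eq_mul.1 this

theorem y_neg {r : ℕ} (hr : r < D.nroots) (t : F) : R.y r (-t) = (R.y r t)⁻¹ := by
  apply eq_inv_of_mul_eq_one_left
  rw [← R.y_add r hr, neg_add_cancel, R.y_zero hr]

theorem word_letters {r s : ℕ} {L : List ℕ} (h : ∀ c ∈ D.commTerms r s, c.1 ∈ L) (t u : F) :
    ∀ p ∈ D.commWord F r s t u, p.1 ∈ L := by
  intro p hp
  obtain ⟨c, hc, rfl⟩ := List.mem_map.1 hp
  exact h c hc

/-- conjugation by a root element keeps a group with closed relations -/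
theorem conj_mem_W {L : List ℕ} {r : ℕ}
    (hrel : ∀ v ∈ L, v = r ∨ (R.Rel r v ∧ ∀ c ∈ D.commTerms r v, c.1 ∈ L)) (a : F) {g : Γ}
    (hg : g ∈ R.W L) : R.y r a * g * (R.y r a)⁻¹ ∈ R.W L := by
  induction hg using Subgroup.closure_induction with
  | mem x hx =>
    obtain ⟨v, b, hv, rfl⟩ := hx
    rcases hrel v hv with rfl | ⟨h1, h2⟩
    · exact mul_mem (mul_mem (R.y_mem_W hv a) (R.y_mem_W hv b)) (inv_mem (R.y_mem_W hv a))
    · rw [show R.y r a * R.y v b * (R.y r a)⁻¹ = ⁅R.y v b, R.y r a⁆⁻¹ * R.y v b by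
        simp only [commutatorElement_def]; group, h1]
      exact mul_mem (inv_mem (R.word_mem_W (Pre.word_letters h2 _ _))) (R.y_mem_W hv b)
  | one => simp
  | mul x y _ _ hx hy => simpa [mul_assoc] using mul_mem hx hy
  | inv x _ hx => simpa [mul_assoc] using inv_mem hx

theorem keep_of_W (hS : DOK D) {T : List ℕ} (hT : spanK D (std D) T = true)
    (hlt : ∀ v ∈ T, v < D.nroots) {g : Γ} (hg : g ∈ R.W T) : Keep T (R.π g) := by
  induction hg using Subgroup.closure_induction'' with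
  | mem x hx =>
    obtain ⟨r, t, hr, rfl⟩ := hx
    rw [R.π_y r (hlt r hr)]
    exact keep_xg hS hT hr (hlt r hr) t
  | inv_mem x hx =>
    obtain ⟨r, t, hr, rfl⟩ := hx
    rw [← R.y_neg (hlt r hr), R.π_y r (hlt r hr)]
    exact keep_xg hS hT hr (hlt r hr) _
  | one => rw [map_one]; exact keep_one T
  | mul a b _ _ ha hb => rw [map_mul]; exact ha.mul hb

theorem decomp {r : ℕ} (hr : r < D.nroots) {T : List ℕ}
    (hrel : ∀ v ∈ T, R.Rel r v ∧ ∀ c ∈ D.commTerms r v, c.1 ∈ T) {g : Γ}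
    (hg : g ∈ R.W (r :: T)) : ∃ a, ∃ g' ∈ R.W T, g = R.y r a * g' := by
  have hlift : ∀ {v : ℕ}, v ∈ r :: T → ∀ b, ∃ a, ∃ g' ∈ R.W T, R.y v b = R.y r a * g' := by
    intro v hv b
    rcases List.mem_cons.1 hv with rfl | hv
    · exact ⟨b, 1, one_mem _, (mul_one _).symm⟩
    · exact ⟨0, _, R.y_mem_W hv b, by rw [R.y_zero hr, one_mul]⟩
  have hmul : ∀ a b, ∀ x' ∈ R.W T, ∀ y' ∈ R.W T,
      ∃ c, ∃ g' ∈ R.W T, R.y r a * x' * (R.y r b * y') = R.y r c * g' := by
    intro a b x' hx' y' hy'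
    refine ⟨a + b, (R.y r (-b) * x' * (R.y r (-b))⁻¹) * y',
      mul_mem (R.conj_mem_W (fun v hv => Or.inr (hrel v hv)) _ hx') hy', ?_⟩
    rw [R.y_add r hr, R.y_neg hr]
    group
  induction hg using Subgroup.closure_induction with
  | mem x hx =>
    obtain ⟨v, b, hv, rfl⟩ := hx
    exact hlift hv b
  | one => exact ⟨0, 1, one_mem _, by rw [R.y_zero hr, one_mul]⟩
  | mul x y _ _ hx hy =>
    obtain ⟨a, x', hx', rfl⟩ := hx
    obtain ⟨b, y', hy', rfl⟩ := hy
    exact hmul a b x' hx' y' hy'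
  | inv x _ hx =>
    obtain ⟨a, x', hx', rfl⟩ := hx
    refine ⟨-a, R.y r a * x'⁻¹ * (R.y r a)⁻¹,
      R.conj_mem_W (fun v hv => Or.inr (hrel v hv)) _ (inv_mem hx'), ?_⟩
    rw [R.y_neg hr]
    group

/-- `π` is injective on the group of an ordered list with known relations -/
theorem W_injective (hS : DOK D) : ∀ {L : List ℕ}, ordK D (std D) L = true →
    (∀ r ∈ L, ∀ v ∈ L, v ≠ r → v ≠ D.neg r → R.Rel r v) →
    ∀ {g : Γ}, g ∈ R.W L → R.π g = 1 → g = 1
  | [], _, _, g, hg, _ => by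
    have : R.W ([] : List ℕ) = ⊥ := by
      rw [W, Subgroup.closure_eq_bot_iff]
      rintro x ⟨r, t, hr, rfl⟩
      cases hr
    rw [this] at hg
    exact Subgroup.mem_bot.1 hg
  | r :: T, hL, hrel, g, hg, h => by
    obtain ⟨hT, hr, hrT, hspan, hv⟩ := ordK_cons.1 hL
    have hrel' : ∀ v ∈ T, R.Rel r v ∧ ∀ c ∈ D.commTerms r v, c.1 ∈ T := fun v hv' =>
      ⟨hrel r (List.mem_cons_self ..) v (List.mem_cons_of_mem _ hv') (fun e => hrT (e ▸ hv'))
        (hv v hv').1, (hv v hv').2⟩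
    obtain ⟨a, g', hg', rfl⟩ := R.decomp hr hrel' hg
    have hlt := fun v hv' => ordK_lt hL v (List.mem_cons_of_mem _ hv')
    rw [map_mul, R.π_y r hr, mul_eq_one_iff_inv_eq, hS.good.xg_inv] at h
    have ha := eq_zero_of_keep hS hr hrT (h ▸ R.keep_of_W hS hspan hlt hg')
    rw [neg_eq_zero] at ha
    subst ha
    rw [R.y_zero hr, one_mul]
    rw [neg_zero, hS.good.xg_zero] at h
    exact W_injective hS hT (fun a ha b hb => hrel a (List.mem_cons_of_mem _ ha) b
      (List.mem_cons_of_mem _ hb)) hg' h.symm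

theorem eq_of_W (hS : DOK D) {L : List ℕ} (hL : ordK D (std D) L = true)
    (hrel : ∀ r ∈ L, ∀ v ∈ L, v ≠ r → v ≠ D.neg r → R.Rel r v) {a b : Γ} (ha : a ∈ R.W L)
    (hb : b ∈ R.W L) (h : R.π a = R.π b) : a = b :=
  mul_inv_eq_one.1 <| R.W_injective hS hL hrel (mul_mem ha (inv_mem hb))
    (by rw [map_mul, map_inv, h, mul_inv_cancel])

end Pre

end Cfsg.Agent.KnownSimple.Steinberg.Gen
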