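import Cfsg.Agent.KnownSimple.Steinberg.Gen.Large
import Cfsg.Agent.Lib.ChevCore.CertF4Table
import Cfsg.Agent.Lib.ChevCore.PackedF4

/-!
The certificate of lifts over large fields for type F4 (helper53).
-/

set_option autoImplicit false

namespace Cfsg.Agent.KnownSimple.Steinberg.Gen

open Cfsg.Lie Cfsg.Agent.ChevCore

theorem bigKF4 : bigK chevF4 (std chevF4) = true := by
  rw [← (fast_eq_std chkLinkF4).1]
  decide +kernel

end Cfsg.Agent.KnownSimple.Steinberg.Gen
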