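import Cfsg.Agent.KnownSimple.Steinberg.Gen.Symbol
import Cfsg.Prelude.Def_ChevG2
import Cfsg.Prelude.Def_ChevB2
import Cfsg.Prelude.Def_ChevD4
import Cfsg.Prelude.Def_ChevF4
import Cfsg.Prelude.Def_ChevE6
import Cfsg.Prelude.Def_ChevE7
import Cfsg.Prelude.Def_ChevE8

/-!
The neighbour condition for the seven types (helper53).
-/

set_option autoImplicit false

namespace Cfsg.Agent.KnownSimple.Steinberg.Gen

open Cfsg.Lie Cfsg.Agent.ChevCore

/-- the neighbour condition as a check -/
noncomputable def nbrK (D : ChevalleyDatum) : Bool :=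
  kallUpTo D.rank fun i => forceN (D.simple i) fun p =>
    (kanyUpTo D.nroots fun j => zEq (D.pairing j p) (-1)) ||
      (kanyUpTo D.rank fun k => zEq (D.cartan k p) (-2) &&
        forceN (D.simple k) fun q => kanyUpTo D.nroots fun j => zEq (D.pairing j q) (-1))

theorem nbrOK_of_check {D : ChevalleyDatum} (h : nbrK D = true) : NbrOK D := by
  simp only [nbrK, kallUpTo_iff, forceN_eq, Bool.or_eq_true, kanyUpTo_iff, Bool.and_eq_true,
    zEq_iff] at h
  exact h

theorem nbrOK_of_mem {D : ChevalleyDatum}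
    (hD : D ∈ [chevG2, chevB2, chevD4, chevF4, chevE6, chevE7, chevE8]) : NbrOK D := by
  simp only [List.mem_cons, List.not_mem_nil, or_false] at hD
  rcases hD with rfl | rfl | rfl | rfl | rfl | rfl | rfl <;>
    exact nbrOK_of_check (by decide +kernel)

end Cfsg.Agent.KnownSimple.Steinberg.Gen
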