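import Cfsg.Agent.KnownSimple.Steinberg.Gen.ConjTab
import Cfsg.Agent.Lib.ChevCore.CertF4Table
import Cfsg.Agent.Lib.ChevCore.PackedF4

/-!
The conjugation certificates of type F4 (helper53).
-/

set_option autoImplicit false

namespace Cfsg.Agent.KnownSimple.Steinberg.Gen

open Cfsg.Lie Cfsg.Agent.ChevCore

/-- lists of roots -/
def conjTabF4 : List (List (List ℕ)) :=
  [[[0], [1], [2], [3, 7], [4, 8, 15], [5, 9, 16], [6, 10, 17], [3, 7], [4, 8, 15], [5, 9, 16], [6, 10, 17], [11, 18], [12, 19], [13, 20], [], [4, 8, 15], [5, 9, 16], [6, 10, 17], [11, 18], [12, 19], [13, 20], [21], [22], [23], [24], [25], [26], [27, 34], [28, 35], [29, 36], [30, 37, 41], [31, 38, 42], [32, 39, 43], [], [27, 34], [28, 35], [29, 36], [30, 37, 41], [31, 38, 42], [32, 39, 43], [40, 44], [30, 37, 41], [31, 38, 42], [32, 39, 43], [40, 44], [45], [46], [47]],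
   [[0], [1], [2, 3, 4], [2, 3, 4], [2, 3, 4], [5], [6], [7, 8], [7, 8], [9, 11], [10, 12], [9, 11], [10, 12], [13, 14], [13, 14], [15], [16, 18, 21], [17, 19, 22], [16, 18, 21], [17, 19, 22], [], [16, 18, 21], [17, 19, 22], [23], [24], [25, 28, 30], [26, 29, 31], [], [25, 28, 30], [26, 29, 31], [25, 28, 30], [26, 29, 31], [32], [33, 34], [33, 34], [35, 37], [36, 38], [35, 37], [36, 38], [39, 40], [39, 40], [41], [42], [43, 44, 45], [43, 44, 45], [43, 44, 45], [46], [47]],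
   [[0], [1, 2], [1, 2], [3], [4, 5], [4, 5], [6], [7], [8, 9, 0], [8, 9, 0], [10], [11], [12, 13, 6], [12, 13, 6], [14], [15, 16], [15, 16], [17], [18], [19, 20, 17], [19, 20, 17], [21, 23], [], [21, 23], [24, 26], [], [24, 26], [27, 28, 30], [27, 28, 30], [29], [30], [31, 32], [31, 32], [33], [34, 35, 41], [34, 35, 41], [36], [37], [38, 39, 47], [38, 39, 47], [40], [41], [42, 43], [42, 43], [44], [45, 46], [45, 46], [47]],
   [[0, 1], [0, 1], [2], [3], [4], [5, 6], [5, 6], [7], [8], [9, 10, 2], [9, 10, 2], [11, 12, 4], [11, 12, 4], [13], [14], [15], [16, 17], [16, 17], [18, 19, 15], [18, 19, 15], [20], [21, 22], [21, 22], [], [], [25, 26], [25, 26], [27], [28, 29, 32], [28, 29, 32], [30, 31], [30, 31], [32], [33], [34], [35, 36, 43], [35, 36, 43], [37, 38, 45], [37, 38, 45], [39], [40], [41, 42], [41, 42], [43], [44], [45], [46, 47], [46, 47]]]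

/-- decompositions -/
def decTabF4 : List ((ℕ × ℕ × List ℕ) × (ℕ × ℕ × List ℕ)) :=
  [((7, 44, [40, 3, 14]), (3, 40, [44, 7, 33])),
   ((8, 40, [39, 7, 20]), (7, 39, [40, 8, 27])),
   ((2, 46, [45, 1, 22]), (1, 45, [46, 2, 25])),
   ((1, 47, [46, 0, 23]), (0, 46, [47, 1, 24]))]

theorem conjCertF4 : ConjCert chevF4 :=
  conjCert_of_tab chkLinkF4 (show chkAll chevF4 (fast chevF4 packedF4) conjTabF4 decTabF4 = true by
    decide +kernel)

end Cfsg.Agent.KnownSimple.Steinberg.Gen
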