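import Cfsg.Agent.KnownSimple.Steinberg.Gen.Small
import Cfsg.Agent.Lib.ChevCore.CertF4Table
import Cfsg.Agent.Lib.ChevCore.PackedF4

/-!
The certificates of lifts over the fields with three and four elements for type F4 (helper53).
-/

set_option autoImplicit false

namespace Cfsg.Agent.KnownSimple.Steinberg.Gen

open Cfsg.Lie Cfsg.Agent.ChevCore

theorem smallK2F4 : smallK chevF4 (std chevF4) 2 = true := by
  rw [← (fast_eq_std chkLinkF4).1]
  decide +kernel

theorem smallK3F4 : smallK chevF4 (std chevF4) 3 = true := by
  rw [← (fast_eq_std chkLinkF4).1]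
  decide +kernel

end Cfsg.Agent.KnownSimple.Steinberg.Gen
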