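import Cfsg.Agent.KnownSimple.Steinberg.Gen.Bound
import Cfsg.Agent.KnownSimple.Steinberg.Gen.Nbr
import Cfsg.Agent.KnownSimple.Steinberg.Gen.PackF4
import Cfsg.Agent.KnownSimple.Steinberg.Gen.BigF4
import Cfsg.Agent.KnownSimple.Steinberg.Gen.SmallF4

/-!
The Schur multiplier of type F4 over fields with more than four elements (helper53).
-/

set_option autoImplicit false

namespace Cfsg.Agent.KnownSimple.Steinberg.Gen

open Cfsg Cfsg.Lie Cfsg.Agent.ChevCore Cfsg.Agent.ChevGroup

theorem elimF4 : elimB chevF4 0 1 [1, 0, 0, 0] [[2, 3, 2, 1], [3, 6, 4, 2], [4, 8, 6, 3], [2, 4, 3, 2]] = true := by decide +kernel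

theorem multiplierF4 {F : Type*} [Field F] [Fintype F] (hF : 3 ≤ Fintype.card F) :
    HasCyclicSchurMultiplier ↥(chevF4.group F) 1 :=
  hasCyclicSchurMultiplier_one packF4.dok packF4.cert (nbrOK_of_mem (by simp)) TypeF4.model elimF4
    fun _ _ _ E => by
      rcases (show Fintype.card F = 2 + 1 ∨ Fintype.card F = 3 + 1 ∨ 4 < Fintype.card F by omega) with
        h | h | h
      · exact exists_pre_of_smallK h packF4.dok packF4.comm smallK2F4 E
      · exact exists_pre_of_smallK h packF4.dok packF4.comm smallK3F4 E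
      · exact exists_pre_of_bigK packF4.dok packF4.comm bigKF4 E
          ⟨Finset.univ, by rwa [Finset.card_univ]⟩

end Cfsg.Agent.KnownSimple.Steinberg.Gen
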