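import Cfsg.Agent.KnownSimple.Steinberg.Gen.Large

/-!
Small fields: lifts with Steinberg's relations from a separation modulo the order of the multiplicative
group and from bracket witnesses (helper53).
-/

set_option autoImplicit false

namespace Cfsg.Agent.KnownSimple.Steinberg.Gen

open Cfsg.Lie Cfsg.Agent.ChevCore Cfsg.Agent.ChevGroup
open scoped commutatorElement

variable {D : ChevalleyDatum} {F : Type*} [Field F] {Γ : Type*} [Group Γ]

/-- two simple torus elements separate `r` and `s` modulo `m` -/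
noncomputable def sepM (D : ChevalleyDatum) (m r s : ℕ) : Bool :=
  kanyUpTo D.rank fun i => kanyUpTo D.rank fun j => kanyUpTo m fun x => kanyUpTo m fun y =>
    xor (zEq (((x : ℤ) * D.cartan i r + (y : ℤ) * D.cartan j r) % (m : ℤ)) 0)
      (zEq (((x : ℤ) * D.cartan i s + (y : ℤ) * D.cartan j s) % (m : ℤ)) 0)

/-- some simple torus element moves `x_r` -/
noncomputable def scalM (D : ChevalleyDatum) (m r : ℕ) : Bool :=
  kanyUpTo D.rank fun i => !(zEq (D.cartan i r % (m : ℤ)) 0)

/-- every root is moved and has a witness, every pair is separated or has a witness -/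
noncomputable def smallK (D : ChevalleyDatum) (A : Acc) (m : ℕ) : Bool :=
  kallUpTo D.nroots fun r => forceN r fun r =>
    scalM D m r &&
    (kanyUpTo D.nroots fun a => kanyUpTo D.nroots fun b => witK D A (fun c => sepM D m r c) r r a b) &&
    kallUpTo D.nroots fun s => forceN s fun s =>
      Nat.beq s r || Nat.beq s (A.negf r) ||
        (pairK D A r s && (sepM D m r s || ((commW A r s).isEmpty &&
          kanyUpTo D.nroots fun a => kanyUpTo D.nroots fun b =>
            witK D A (fun c => sepM D m r c) r s a b)))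

theorem exists_prim [Fintype F] {m : ℕ} (hm : Fintype.card F = m + 1) :
    ∃ a : F, a ≠ 0 ∧ ∀ n : ℤ, a ^ n = 1 ↔ n % (m : ℤ) = 0 := by
  classical
  obtain ⟨a, ha⟩ := IsCyclic.exists_ofOrder_eq_natCard (α := Fˣ)
  rw [Nat.card_eq_fintype_card, Fintype.card_units, hm, Nat.add_sub_cancel] at ha
  refine ⟨a, a.ne_zero, fun n => ?_⟩
  rw [← Units.val_zpow_eq_zpow_val, Units.val_eq_one, ← orderOf_dvd_iff_zpow_eq_one, ha]
  exact Int.dvd_iff_emod_eq_zero

theorem scal_of_scalM [Fintype F] {m : ℕ} (hm : Fintype.card F = m + 1) (hD : Good D)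
    (E : CExt D F Γ) {r : ℕ} (h : scalM D m r = true) : Scal E r := by
  obtain ⟨a, ha, hdvd⟩ := exists_prim hm
  simp only [scalM, kanyUpTo_iff, Bool.not_eq_true'] at h
  obtain ⟨i, hi, hne⟩ := h
  refine ⟨_, _, isTor_hl E hD (hD.simple_lt hi) ha, ?_⟩
  show a ^ D.pairing (D.simple i) r ≠ 1
  rw [hD.pairing_simple hi, Ne, hdvd, ← zEq_iff, hne]
  exact Bool.false_ne_true

theorem sep_of_sepM [Fintype F] {m : ℕ} (hm : Fintype.card F = m + 1) (hD : Good D)
    (E : CExt D F Γ) {r s : ℕ} (h : sepM D m r s = true) : Sep E r s := by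
  obtain ⟨a, ha, hdvd⟩ := exists_prim hm
  simp only [sepM, kanyUpTo_iff] at h
  obtain ⟨i, hi, j, hj, x, -, y, -, hxy⟩ := h
  have hg := isTor_mul E
    (isTor_hl E hD (hD.simple_lt hi) (zpow_ne_zero (x : ℤ) ha))
    (isTor_hl E hD (hD.simple_lt hj) (zpow_ne_zero (y : ℤ) ha))
  have e : ∀ v, (a ^ (x : ℤ)) ^ D.pairing (D.simple i) v * (a ^ (y : ℤ)) ^ D.pairing (D.simple j) v =
      a ^ ((x : ℤ) * D.cartan i v + (y : ℤ) * D.cartan j v) := fun v => by
    rw [← zpow_mul, ← zpow_mul, hD.pairing_simple hi, hD.pairing_simple hj, zpow_add₀ ha]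
  rcases hb : zEq (((x : ℤ) * D.cartan i r + (y : ℤ) * D.cartan j r) % (m : ℤ)) 0 with _ | _
  · rw [hb, Bool.false_xor, zEq_iff] at hxy
    refine ⟨_, _, hg, Or.inr ⟨?_, ?_⟩⟩
    · show _ * _ ≠ (1 : F)
      rw [e, Ne, hdvd, ← zEq_iff, hb]
      exact Bool.false_ne_true
    · show _ * _ = (1 : F)
      rw [e, hdvd, hxy]
  · rw [hb, Bool.true_xor, Bool.not_eq_true'] at hxy
    refine ⟨_, _, hg, Or.inl ⟨?_, ?_⟩⟩
    · show _ * _ = (1 : F)
      rw [e, hdvd, ← zEq_iff, hb]
    · show _ * _ ≠ (1 : F)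
      rw [e, Ne, hdvd, ← zEq_iff, hxy]
      exact Bool.false_ne_true

/-- Over the field with `m + 1` elements there are lifts with all relations. -/
theorem exists_pre_of_smallK [Fintype F] {m : ℕ} (hm : Fintype.card F = m + 1) (hS : DOK D)
    (hC : CommGood D) (h : smallK D (std D) m = true) (E : CExt D F Γ) :
    ∃ R : Pre D F Γ, R.π = E.π ∧ R.AllRel := by
  have hD := hS.good
  simp only [smallK, kallUpTo_iff, forceN_eq, Bool.and_eq_true, Bool.or_eq_true, kanyUpTo_iff,
    List.isEmpty_iff, std_negf, commW_std, Nat.beq_eq] at h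
  have hscal : ∀ r < D.nroots, Scal E r := fun r hr => scal_of_scalM hm hD E (h r hr).1.1
  have hsepM : ∀ r s, sepM D m r s = true → Sep E r s := fun r s h1 => sep_of_sepM hm hD E h1
  have hok : ∀ r < D.nroots, ∀ c < D.nroots, c ≠ r → c ≠ D.neg r → D.commTerms r c = [] →
      sepM D m r c = true → ∀ u v, Commute (E.ℓ r u) (E.ℓ c v) := fun r hr c hc n1 n2 he hs u v =>
    commute_of_sep hr hc (commute_xg hC hr hc (Or.inr ⟨n2, he⟩)) hD (hsepM r c hs) u v
  have hcomm : ∀ r < D.nroots, ∀ s < D.nroots,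
      (s = r ∨ (s ≠ D.neg r ∧ D.commTerms r s = [])) → ∀ u v, Commute (E.ℓ r u) (E.ℓ s v) := by
    intro r hr s hs hrs u v
    by_cases h1 : s = r
    · subst h1
      obtain ⟨b, hb, c, hc, hw⟩ := (h s hs).1.2
      exact commute_of_witK hC E hs hs hb hc hw (hok s hs) u v
    · obtain ⟨h2, he⟩ := hrs.resolve_left h1
      obtain ⟨-, hsw⟩ := ((h r hr).2 s hs).resolve_left fun e => e.elim h1 h2
      rcases hsw with hsw | ⟨-, b, hb, c, hc, hw⟩
      · exact hok r hr s hs h1 h2 he hsw u v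
      · exact commute_of_witK hC E hr hs hb hc hw (hok r hr) u v
  refine ⟨canPre E hS hscal hcomm, rfl, canPre_allRel E hS hC hscal hcomm
    (fun r hr s hs h1 h2 he => ?_)
    (fun r hr s hs h1 h2 => (((h r hr).2 s hs).resolve_left fun e => e.elim h1 h2).1)⟩
  obtain ⟨-, hsw⟩ := ((h r hr).2 s hs).resolve_left fun e => e.elim h1 h2
  exact hsepM r s (hsw.resolve_right fun h' => he h'.1)

end Cfsg.Agent.KnownSimple.Steinberg.Gen
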