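import Cfsg.Agent.KnownSimple.Steinberg.RelSys

/-!
Groups over a Chevalley matrix group in which the root elements are conjugated correctly by the `n_p(c)`:
the root relations of the Bruhat engine (helper53).
-/

set_option autoImplicit false

namespace Cfsg.Agent.KnownSimple.Steinberg.Gen

open Cfsg.Lie Cfsg.Agent.ChevCore Cfsg.Agent.ChevGroup
open scoped commutatorElement

variable {D : ChevalleyDatum} {F : Type*} [Field F]

/-- A datum with its facts and the shape of its matrices. -/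
structure DOK (D : ChevalleyDatum) : Prop where
  good : Good D
  shape : Mat.shapeB D = true

namespace DOK

variable (hS : DOK D)
include hS

theorem neg_eq {r : ℕ} (hr : r < D.nroots) : D.neg r = D.nroots - 1 - r := by
  have h := hS.shape
  simp only [Mat.shapeB, Bool.and_eq_true, List.all_eq_true, List.mem_range, decide_eq_true_eq] at h
  exact (h.2 r hr).1.1

theorem nroots_even : D.nroots % 2 = 0 := by
  have h := hS.shape
  simp only [Mat.shapeB, Bool.and_eq_true, decide_eq_true_eq] at h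
  exact h.1

theorem pairing_neg {r s : ℕ} (hs : s < D.nroots) :
    D.pairing r (D.neg s) = - D.pairing r s := by
  rw [pairing_eq, pairing_eq, ← Finset.sum_neg_distrib]
  refine Finset.sum_congr rfl fun k hk => ?_
  rw [hS.good.cartan_neg hs (Finset.mem_range.1 hk), mul_neg]

theorem ng_conj_self {i : ℕ} (hi : i < D.rank) {v : F} (hv : v ≠ 0) (a : F) :
    ng D F (D.simple i) v * xg D F (D.simple i) a * (ng D F (D.simple i) v)⁻¹ =
        xg D F (D.neg (D.simple i)) (-(a / v ^ 2)) ∧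
      ng D F (D.simple i) v * xg D F (D.neg (D.simple i)) a * (ng D F (D.simple i) v)⁻¹ =
        xg D F (D.simple i) (-(v ^ 2 * a)) := by
  have hD := hS.good
  have hp := hD.simple_lt hi
  have hself : D.pairing (D.simple i) (D.simple i) = 2 := hD.pairing_self hp
  have split : ∀ g : GL D.Idx F, ng D F (D.simple i) v * g * (ng D F (D.simple i) v)⁻¹ =
      hg D F (D.simple i) v * (ng D F (D.simple i) 1 * g * (ng D F (D.simple i) 1)⁻¹) *
        (hg D F (D.simple i) v)⁻¹ := fun g => by rw [hD.ng_eq_hg_mul]; group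
  obtain ⟨e1, e2⟩ := hD.eta_simple hi
  constructor
  · rw [split, hD.ng_conj_x hi hp, hD.refl_simple hi, hD.hg_conj_x hp (hD.neg_lt hp) hv,
      hS.pairing_neg hp, hself, e1]
    congr 1
    rw [zpow_neg, Int.cast_neg, Int.cast_one, show (2 : ℤ) = ((2 : ℕ) : ℤ) from rfl, zpow_natCast]
    ring
  · rw [split, hD.ng_conj_x hi (hD.neg_lt hp), hD.refl_neg_simple hi, hD.hg_conj_x hp hp hv,
      hself, e2]
    congr 1
    rw [Int.cast_neg, Int.cast_one, show (2 : ℤ) = ((2 : ℕ) : ℤ) from rfl, zpow_natCast]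
    ring

end DOK

/-- Root elements over the matrix group with additivity and exact conjugation by the `n_p(c)`. -/
structure Base (D : ChevalleyDatum) (F : Type*) [Field F] (Γ : Type*) [Group Γ] where
  π : Γ →* GL D.Idx F
  y : ℕ → F → Γ
  π_y : ∀ r, r < D.nroots → ∀ t, π (y r t) = xg D F r t
  y_add : ∀ r, r < D.nroots → ∀ t u, y r (t + u) = y r t * y r u
  nn_conj : ∀ i s, i < D.rank → s < D.nroots → ∀ c : F, c ≠ 0 → ∀ t,
    y (D.simple i) c * y (D.neg (D.simple i)) (-c⁻¹) * y (D.simple i) c * y s t *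
      (y (D.simple i) c * y (D.neg (D.simple i)) (-c⁻¹) * y (D.simple i) c)⁻¹ =
    y (D.reflectRoot i s) (c ^ D.pairing (D.simple i) (D.reflectRoot i s) * ((eta D i s : F) * t))
  comm_mem : ∀ i s, i < D.rank → s < D.nroots → D.nroots ≤ 2 * s → s ≠ D.simple i → ∀ t u,
    y (D.simple i) t * y s u * (y (D.simple i) t)⁻¹ ∈
      Subgroup.closure {g | ∃ v a, v < D.nroots ∧ D.nroots ≤ 2 * v ∧ v ≠ D.simple i ∧ g = y v a}
  upper_inj : ∀ g ∈ Subgroup.closure {g | ∃ v a, v < D.nroots ∧ D.nroots ≤ 2 * v ∧ g = y v a},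
    π g = 1 → g = 1

namespace Base

variable {Γ : Type*} [Group Γ] (R : Base D F Γ)

/-- `n_r(c)` -/
def nn (r : ℕ) (c : F) : Γ := R.y r c * R.y (D.neg r) (-c⁻¹) * R.y r c

/-- `h_r(c)` -/
def hh (r : ℕ) (c : F) : Γ := R.nn r c * R.nn r (-1)

/-- the product of `n_p(1)` along a word -/
def nW (w : List ℕ) : Γ := (w.map fun i => R.nn (D.simple i) 1).prod

theorem y_zero {r : ℕ} (hr : r < D.nroots) : R.y r 0 = 1 := by
  have := R.y_add r hr 0 0
  rw [add_zero] at this
  exact left_eq_mul.1 this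

theorem y_neg {r : ℕ} (hr : r < D.nroots) (t : F) : R.y r (-t) = (R.y r t)⁻¹ := by
  apply eq_inv_of_mul_eq_one_left
  rw [← R.y_add r hr, neg_add_cancel, R.y_zero hr]


variable (hS : DOK D)
include hS

theorem π_nn {r : ℕ} (hr : r < D.nroots) (c : F) : R.π (R.nn r c) = ng D F r c := by
  rw [nn, ng, map_mul, map_mul, R.π_y r hr, R.π_y _ (hS.good.neg_lt hr)]

theorem π_hh {r : ℕ} (hr : r < D.nroots) (c : F) : R.π (R.hh r c) = hg D F r c := by
  rw [hh, hg, map_mul, R.π_nn hS hr, R.π_nn hS hr]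

theorem nn_inv {r : ℕ} (hr : r < D.nroots) (c : F) : (R.nn r c)⁻¹ = R.nn r (-c) := by
  simp only [nn, _root_.mul_inv_rev, ← R.y_neg hr, ← R.y_neg (hS.good.neg_lt hr), inv_neg,
    neg_neg, mul_assoc]

theorem π_nn_conj {i s : ℕ} (hi : i < D.rank) (hs : s < D.nroots) {c : F} (hc : c ≠ 0) (t : F) :
    R.π (R.nn (D.simple i) c * R.y s t * (R.nn (D.simple i) c)⁻¹) =
      xg D F (D.reflectRoot i s)
        (c ^ D.pairing (D.simple i) (D.reflectRoot i s) * ((eta D i s : F) * t)) := by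
  have hD := hS.good
  rw [map_mul, map_mul, map_inv, R.π_nn hS (hD.simple_lt hi), R.π_y s hs, hD.ng_eq_hg_mul,
    ← hD.hg_conj_x (hD.simple_lt hi) (hD.refl_lt hi hs) hc, ← hD.ng_conj_x hi hs]
  group

/-- `n_p(c)` maps root groups to root groups -/
theorem nn_conj_eq {i s : ℕ} (hi : i < D.rank) (hs : s < D.nroots) {c : F} (hc : c ≠ 0) (t : F) :
    R.nn (D.simple i) c * R.y s t * (R.nn (D.simple i) c)⁻¹ =
      R.y (D.reflectRoot i s)
        (c ^ D.pairing (D.simple i) (D.reflectRoot i s) * ((eta D i s : F) * t)) :=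
  R.nn_conj i s hi hs c hc t

theorem n_conj {i s : ℕ} (hi : i < D.rank) (hs : s < D.nroots) (t : F) :
    R.nn (D.simple i) 1 * R.y s t * (R.nn (D.simple i) 1)⁻¹ =
      R.y (D.reflectRoot i s) ((eta D i s : F) * t) := by
  rw [R.nn_conj_eq hS hi hs one_ne_zero, one_zpow, one_mul]

theorem nW_conj {w : List ℕ} (hw : ∀ i ∈ w, i < D.rank) {s : ℕ} (hs : s < D.nroots) (t : F) :
    R.nW w * R.y s t * (R.nW w)⁻¹ = R.y (actW D w s) ((etaWord D w s : F) * t) := by
  have hD := hS.good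
  induction w with
  | nil => simp [nW, etaWord]
  | cons i w ih =>
    have hw' : ∀ j ∈ w, j < D.rank := fun j hj => hw j (by simp [hj])
    rw [show R.nW (i :: w) = R.nn (D.simple i) 1 * R.nW w by simp [nW], actW_cons, etaWord,
      show R.nn (D.simple i) 1 * R.nW w * R.y s t * (R.nn (D.simple i) 1 * R.nW w)⁻¹ =
        R.nn (D.simple i) 1 * (R.nW w * R.y s t * (R.nW w)⁻¹) * (R.nn (D.simple i) 1)⁻¹ by group,
      ih hw', R.n_conj hS (hw i (by simp)) (hD.actW_lt hw' hs), Int.cast_mul, mul_assoc]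

theorem hh_simple_conj {i s : ℕ} (hi : i < D.rank) (hs : s < D.nroots) {a c : F} (ha : a ≠ 0)
    (hc : c ≠ 0) (t : F) : ∃ γ, R.nn (D.simple i) a * R.nn (D.simple i) c * R.y s t *
      (R.nn (D.simple i) a * R.nn (D.simple i) c)⁻¹ = R.y s γ := by
  have hD := hS.good
  refine ⟨?_, ?_⟩
  · exact a ^ D.pairing (D.simple i) (D.reflectRoot i (D.reflectRoot i s)) *
      ((eta D i (D.reflectRoot i s) : F) *
        (c ^ D.pairing (D.simple i) (D.reflectRoot i s) * ((eta D i s : F) * t)))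
  rw [show R.nn (D.simple i) a * R.nn (D.simple i) c * R.y s t *
      (R.nn (D.simple i) a * R.nn (D.simple i) c)⁻¹ = R.nn (D.simple i) a *
        (R.nn (D.simple i) c * R.y s t * (R.nn (D.simple i) c)⁻¹) * (R.nn (D.simple i) a)⁻¹ by group,
    R.nn_conj_eq hS hi hs hc, R.nn_conj_eq hS hi (hD.refl_lt hi hs) ha, hD.refl_refl hi hs]

theorem hh_conj {r s : ℕ} (hr : r < D.nroots) (hs : s < D.nroots) {c : F} (hc : c ≠ 0) (t : F) :
    R.hh r c * R.y s t * (R.hh r c)⁻¹ = R.y s (c ^ D.pairing r s * t) := by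
  have hD := hS.good
  suffices h : ∃ γ, R.hh r c * R.y s t * (R.hh r c)⁻¹ = R.y s γ by
    obtain ⟨γ, e⟩ := h
    have h' := congrArg R.π e
    rw [map_mul, map_mul, map_inv, R.π_hh hS hr, R.π_y s hs, R.π_y s hs,
      hD.hg_conj_x hr hs hc] at h'
    rw [e, ← hD.xg_injective hs h']
  obtain ⟨w, hw, i, hi, rfl⟩ := hD.exists_word hr
  have hp := hD.simple_lt hi
  have hw' : ∀ j ∈ w.reverse, j < D.rank := fun j hj => hw j (List.mem_reverse.1 hj)
  set e : F := (etaWord D w (D.simple i) : F) with he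
  have he2 : e * e = 1 := etaWord_mul_self w _
  have he0 : e ≠ 0 := left_ne_zero_of_mul_eq_one he2
  have hnn : ∀ x, R.nn (actW D w (D.simple i)) x = R.nW w * R.nn (D.simple i) (e * x) * (R.nW w)⁻¹ := by
    intro x
    rw [← MulAut.conj_apply]
    simp only [nn, map_mul, MulAut.conj_apply]
    rw [R.nW_conj hS hw hp, R.nW_conj hS hw (hD.neg_lt hp), hD.actW_neg hw hp,
      hD.etaWord_neg hw hp, ← he, _root_.mul_inv, inv_eq_of_mul_eq_one_left he2,
      ← mul_assoc e e x, he2, one_mul, mul_neg, ← mul_assoc, he2, one_mul]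
  set s' := actW D w.reverse s
  have hs' : s' < D.nroots := hD.actW_lt hw' hs
  have hback : actW D w s' = s := by
    have := actW_reverse hD hw' hs
    rwa [List.reverse_reverse] at this
  set e' : F := (etaWord D w s' : F) with he'
  have hy : R.y s t = R.nW w * R.y s' (e' * t) * (R.nW w)⁻¹ := by
    rw [R.nW_conj hS hw hs', hback, ← mul_assoc, ← he', etaWord_mul_self, one_mul]
  obtain ⟨γ, hγ⟩ := R.hh_simple_conj hS hi hs' (mul_ne_zero he0 hc)
    (mul_ne_zero he0 (neg_ne_zero.2 one_ne_zero)) (e' * t)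
  refine ⟨e' * γ, ?_⟩
  rw [hh, hnn, hnn, hy,
    show R.nW w * R.nn (D.simple i) (e * c) * (R.nW w)⁻¹ *
        (R.nW w * R.nn (D.simple i) (e * -1) * (R.nW w)⁻¹) * (R.nW w * R.y s' (e' * t) * (R.nW w)⁻¹) *
        (R.nW w * R.nn (D.simple i) (e * c) * (R.nW w)⁻¹ *
          (R.nW w * R.nn (D.simple i) (e * -1) * (R.nW w)⁻¹))⁻¹ =
      R.nW w * (R.nn (D.simple i) (e * c) * R.nn (D.simple i) (e * -1) * R.y s' (e' * t) *
        (R.nn (D.simple i) (e * c) * R.nn (D.simple i) (e * -1))⁻¹) * (R.nW w)⁻¹ by group,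
    hγ, R.nW_conj hS hw hs', hback]

/-- The root relations of the Bruhat engine. -/
noncomputable def rootRel (T : Model D) : RootRel Γ F T.S where
  x r t := R.y r.val t
  x_add r a b := R.y_add _ (T.lt r) a b
  sgn i r := (eta D i.val r.val : F)
  sgn_sq i r := by rw [← Int.cast_mul, eta_mul_self, Int.cast_one]
  sgn_neg i r := by rw [T.neg_eq, hS.good.eta_neg (T.lt_l i) (T.lt r)]
  n_conj i r t := by
    simp only [nOf, T.neg_eq, T.simple_eq, T.refl_eq]
    exact R.n_conj hS (T.lt_l i) (T.lt r) t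
  h_conj r c s hc := ⟨c ^ D.pairing r.val s.val, zpow_ne_zero _ hc, fun t => by
    simp only [hOf, nOf, T.neg_eq]
    exact R.hh_conj hS (T.lt r) (T.lt s) hc t⟩
  comm_mem i s t u hs hne := by
    have hD := hS.good
    have hn := T.n_eq
    have hp := hD.simple_lt (T.lt_l i)
    have hsp : D.nroots ≤ 2 * s.val := by
      have h : T.tab.n ≤ 2 * s.val := hs
      omega
    have hsne : s.val ≠ D.simple i.val := fun e => hne (Fin.ext (by rw [e, T.simple_eq]))
    simp only [T.simple_eq, R.y_neg hp]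
    refine (Subgroup.closure_mono ?_) (R.comm_mem i.val s.val (T.lt_l i) (T.lt s) hsp hsne t u)
    rintro g ⟨v, a, hv, hvp, hvne, rfl⟩
    refine ⟨⟨v, hn.symm ▸ hv⟩, a, ?_, fun e => hvne ?_, rfl⟩
    · show T.tab.n ≤ 2 * v
      omega
    · have := congrArg Fin.val e
      rwa [T.simple_eq] at this

theorem rootRel_hr (T : Model D) (r : Fin T.tab.n) (c : F) :
    (R.rootRel hS T).hr r c = R.hh r.val c := by
  simp only [RootRel.hr, hOf, nOf, hh, nn, rootRel, T.neg_eq]

theorem rootRel_nw (T : Model D) (w : List (Fin T.tab.l)) :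
    (R.rootRel hS T).nw w = R.nW (w.map Fin.val) := by
  simp only [RootRel.nw, nW, List.map_map]
  congr 1
  refine List.map_congr_left fun i _ => ?_
  simp only [RootRel.n, RootRel.nr, nOf, Function.comp_apply, nn, rootRel, T.neg_eq, T.simple_eq]

omit hS in
theorem actw_val (T : Model D) (w : List (Fin T.tab.l)) (r : Fin T.tab.n) :
    (T.S.actw w r).val = actW D (w.map Fin.val) r.val := by
  induction w with
  | nil => rfl
  | cons i w ih => rw [RootIdx.actw_cons, T.refl_eq, List.map_cons, actW_cons, ih]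
theorem U_injective (T : Model D) {g : Γ} (hg : g ∈ (R.rootRel hS T).U) (h : R.π g = 1) : g = 1 := by
  have hn := T.n_eq
  refine R.upper_inj g ((Subgroup.closure_mono ?_) hg) h
  rintro x ⟨r, t, hr, rfl⟩
  have hr' : T.tab.n ≤ 2 * r.val := hr
  exact ⟨r.val, t, T.lt r, by omega, rfl⟩

/-! ### The kernel -/

omit hS in
theorem tri_diagonal {χ : D.Idx → F} (hχ : ∀ a, χ a ≠ 0) : Tri (keyOf D) (Matrix.diagonal χ) :=
  ⟨fun a b hab _ => Matrix.diagonal_apply_ne _ hab, fun a => by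
    rw [Matrix.diagonal_apply_eq]; exact hχ a⟩

theorem uni_of_U (T : Model D) {g : Γ} (hg : g ∈ (R.rootRel hS T).U) :
    Uni (keyOf D) (R.π g : Matrix D.Idx D.Idx F) := by
  have hD := hS.good
  have key : ∀ (r : Fin T.tab.n) (t : F), T.S.pos r →
      Uni (keyOf D) (R.π (R.y r.val t) : Matrix D.Idx D.Idx F) := by
    intro r t hr a b hab
    have hr' : T.tab.n ≤ 2 * r.val := hr
    rw [R.π_y _ (T.lt r), hD.val_xg, ChevalleyDatum.x, dif_pos (T.lt r)]
    refine Mat.xMat_uni hS.shape _ t a b ?_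
    rw [if_pos (by have := T.n_eq; simp only; omega)]
    exact hab
  induction hg using Subgroup.closure_induction'' with
  | mem x hx => obtain ⟨r, t, hr, rfl⟩ := hx; exact key r t hr
  | inv_mem x hx =>
    obtain ⟨r, t, hr, rfl⟩ := hx
    show Uni (keyOf D) (R.π (R.y r.val t)⁻¹ : Matrix D.Idx D.Idx F)
    rw [← R.y_neg (T.lt r)]
    exact key r _ hr
  | one => intro a b _; simp [Matrix.one_apply]
  | mul x y _ _ hx hy => rw [map_mul, Units.val_mul]; exact hx.mul hy

theorem diag_of_H (T : Model D) {g : Γ} (hg : g ∈ (R.rootRel hS T).H) :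
    ∃ χ : D.Idx → F, (∀ a, χ a ≠ 0) ∧ (R.π g : Matrix D.Idx D.Idx F) = Matrix.diagonal χ := by
  have hD := hS.good
  have key : ∀ (r : Fin T.tab.n) (c : F), c ≠ 0 → ∃ χ : D.Idx → F, (∀ a, χ a ≠ 0) ∧
      (ChevCore.hg D F r.val c : Matrix D.Idx D.Idx F) = Matrix.diagonal χ := fun r c hc =>
    ⟨hDiag D r.val c, fun a => zpow_ne_zero _ hc, hD.hg_eq_diag (T.lt r) hc⟩
  induction hg using Subgroup.closure_induction'' with
  | mem x hx =>
    obtain ⟨r, c, hc, rfl⟩ := hx
    rw [R.rootRel_hr hS, R.π_hh hS (T.lt r)]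
    exact key r c hc
  | inv_mem x hx =>
    obtain ⟨r, c, hc, rfl⟩ := hx
    have h1 : (ChevCore.hg D F r.val c)⁻¹ = ChevCore.hg D F r.val c⁻¹ := by
      refine inv_eq_of_mul_eq_one_right ?_
      rw [hD.hg_mul (T.lt r) hc (inv_ne_zero hc), mul_inv_cancel₀ hc, ChevCore.hg, ← hD.ng_inv,
        mul_inv_cancel]
    rw [map_inv, R.rootRel_hr hS, R.π_hh hS (T.lt r), h1]
    exact key r _ (inv_ne_zero hc)
  | one => exact ⟨fun _ => 1, fun _ => one_ne_zero, by simp⟩
  | mul x y _ _ hx hy =>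
    obtain ⟨χ, hχ, e⟩ := hx
    obtain ⟨χ', hχ', e'⟩ := hy
    exact ⟨fun a => χ a * χ' a, fun a => mul_ne_zero (hχ a) (hχ' a), by
      rw [map_mul, Units.val_mul, e, e', Matrix.diagonal_mul_diagonal]⟩

theorem tri_of_B (T : Model D) {g : Γ} (hg : g ∈ (R.rootRel hS T).B) :
    Tri (keyOf D) (R.π g : Matrix D.Idx D.Idx F) := by
  obtain ⟨u, hu, h, hh, rfl⟩ := (R.rootRel hS T).mem_B_iff.1 hg
  obtain ⟨χ, hχ, e⟩ := R.diag_of_H hS T hh
  rw [map_mul, Units.val_mul, e]
  exact (R.uni_of_U hS T hu).tri.mul (tri_diagonal hχ)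

theorem not_tri_neg_simple (T : Model D) (i : Fin T.tab.l) {γ : F} (hγ : γ ≠ 0) :
    ¬ Tri (keyOf D) (xg D F (D.neg (D.simple i.val)) γ : Matrix D.Idx D.Idx F) := by
  have hD := hS.good
  have hp := hD.simple_lt (T.lt_l i)
  have hnp := hD.neg_lt hp
  intro h
  have hpp : T.tab.n ≤ 2 * (T.S.simple i).val := T.S.simple_pos i
  rw [T.simple_eq] at hpp
  have hn := T.n_eq
  have hne := hD.neg_ne hp
  have h1 := h.1 (Sum.inr ⟨D.neg (D.simple i.val), hnp⟩) (Sum.inr ⟨D.simple i.val, hp⟩)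
    (fun e => hne (by simpa using e)) (by
      simp only [keyOf]
      have := hS.neg_eq hp
      omega)
  rw [hD.val_xg, ChevalleyDatum.x, dif_pos hnp] at h1
  simp only [ChevalleyDatum.xMat, Matrix.of_apply, Fin.ext_iff] at h1
  have hnn : D.negIdx.getD (D.neg (D.simple i.val)) 0 = D.simple i.val := hD.neg_neg hp
  rw [if_neg hne.symm, if_pos hnn.symm, if_neg hne] at h1
  simp only [if_true] at h1
  exact hγ (pow_eq_zero_iff (n := 2) (by norm_num) |>.1 (neg_eq_zero.1 h1))

theorem mem_top_of_gen (T : Model D)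
    (hgen : Subgroup.closure {g | ∃ r t, r < D.nroots ∧ g = R.y r t} = ⊤) (g : Γ) :
    g ∈ (R.rootRel hS T).B ⊔ Subgroup.closure (Set.range (R.rootRel hS T).n) := by
  have hD := hS.good
  have hwit : ∀ r, ∃ w j, T.S.actw w (T.S.simple j) = r := by
    intro r
    obtain ⟨w, hw, i, hi, he⟩ := hD.exists_word (T.lt r)
    have hl := T.l_eq
    refine ⟨w.pmap (fun k hk => (⟨k, hl.symm ▸ hk⟩ : Fin T.tab.l)) hw, ⟨i, hl.symm ▸ hi⟩, ?_⟩
    apply Fin.ext
    rw [actw_val, T.simple_eq, List.map_pmap]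
    simpa using he
  have hle : Subgroup.closure {g | ∃ r t, r < D.nroots ∧ g = R.y r t} ≤
      (R.rootRel hS T).B ⊔ Subgroup.closure (Set.range (R.rootRel hS T).n) := by
    rw [Subgroup.closure_le]
    rintro x ⟨r, t, hr, rfl⟩
    exact (R.rootRel hS T).x_mem_gen hwit ⟨r, T.n_eq.symm ▸ hr⟩ t
  exact hle (hgen ▸ Subgroup.mem_top g)

/-- The kernel lies in the torus. -/
theorem ker_le_H (T : Model D)
    (hgen : Subgroup.closure {g | ∃ r t, r < D.nroots ∧ g = R.y r t} = ⊤) :
    R.π.ker ≤ (R.rootRel hS T).H := by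
  have hD := hS.good
  intro k hk
  obtain ⟨b, hb, v, hv, b', hb', e⟩ :=
    (R.rootRel hS T).exists_bruhat (R.mem_top_of_gen hS T hgen k)
  rw [MonoidHom.mem_ker] at hk
  cases v with
  | nil =>
    rw [RootRel.nw_nil, mul_one] at e
    obtain ⟨u, hu, h, hh, e'⟩ := (R.rootRel hS T).mem_B_iff.1 (e ▸ mul_mem hb hb')
    obtain ⟨χ, hχ, hd⟩ := R.diag_of_H hS T hh
    have hu1 : R.π u = 1 := by
      have h1 : R.π u * R.π h = 1 := by rw [← map_mul, e']; exact hk
      refine Units.ext ?_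
      rw [Units.val_one]
      ext a c
      rcases eq_or_ne a c with rfl | hac
      · rw [R.uni_of_U hS T hu a a le_rfl, if_pos rfl, Matrix.one_apply_eq]
      · rw [Matrix.one_apply_ne hac]
        have h2 := congrArg (fun g : GL D.Idx F => (g : Matrix D.Idx D.Idx F) a c) h1
        simp only [Units.val_mul, hd, Matrix.mul_diagonal, Units.val_one, Matrix.one_apply_ne hac] at h2
        exact (mul_eq_zero.1 h2).resolve_right (hχ c)
    rw [← e', R.U_injective hS T hu hu1, one_mul]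
    exact hh
  | cons i w =>
    exfalso
    obtain ⟨hpos, hact⟩ := T.S.red_cons_root hv
    set r := T.S.actw w.reverse (T.S.simple i) with hr
    have hv' : ∀ j ∈ (i :: w).map Fin.val, j < D.rank := fun j hj => by
      obtain ⟨j', -, rfl⟩ := List.mem_map.1 hj
      exact T.lt_l j'
    have hB : b⁻¹ * k * b'⁻¹ = (R.rootRel hS T).nw (i :: w) := by rw [e]; group
    have h1 := R.nW_conj hS hv' (T.lt r) (1 : F)
    rw [← R.rootRel_nw hS T, ← actw_val, hact, T.neg_eq, T.simple_eq, mul_one] at h1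
    set q := b⁻¹ * b'⁻¹
    have hq : q ∈ (R.rootRel hS T).B := mul_mem (inv_mem hb) (inv_mem hb')
    have hπ : R.π ((R.rootRel hS T).nw (i :: w)) = R.π q := by
      rw [← hB, map_mul, map_mul, hk, mul_one, map_mul]
    have h2 := congrArg R.π h1
    rw [map_mul, map_mul, map_inv, hπ, ← map_inv, ← map_mul, ← map_mul,
      R.π_y (D.neg (D.simple i.val)) (hD.neg_lt (hD.simple_lt (T.lt_l i)))] at h2
    have h3 : q * R.y r.val 1 * q⁻¹ ∈ (R.rootRel hS T).B :=
      mul_mem (mul_mem hq ((R.rootRel hS T).x_mem_B hpos 1)) (inv_mem hq)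
    refine not_tri_neg_simple hS T i ?_ (h2 ▸ R.tri_of_B hS T h3)
    exact left_ne_zero_of_mul_eq_one (etaWord_mul_self _ _)

/-- An element of the torus over `1` is central. -/
theorem mem_center_of_H (T : Model D)
    (hgen : Subgroup.closure {g | ∃ r t, r < D.nroots ∧ g = R.y r t} = ⊤) {k : Γ}
    (hk : k ∈ (R.rootRel hS T).H) (h1 : R.π k = 1) : k ∈ Subgroup.center Γ := by
  have hD := hS.good
  rw [← Subgroup.centralizer_univ, Subgroup.mem_centralizer_iff]
  intro g _
  have hg : g ∈ Subgroup.centralizer {k} := by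
    have hle : Subgroup.closure {g | ∃ r t, r < D.nroots ∧ g = R.y r t} ≤
        Subgroup.centralizer {k} := by
      rw [Subgroup.closure_le]
      rintro x ⟨r, t, hr, rfl⟩
      rw [SetLike.mem_coe, Subgroup.mem_centralizer_singleton_iff]
      obtain ⟨a, -, ha⟩ := (R.rootRel hS T).H_scales hk ⟨r, T.n_eq.symm ▸ hr⟩
      have h2 : k * R.y r t * k⁻¹ = R.y r (a * t) := ha t
      have h3 := congrArg R.π h2
      rw [map_mul, map_mul, map_inv, h1, one_mul, inv_one, mul_one, R.π_y r hr, R.π_y r hr] at h3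
      rw [← hD.xg_injective hr h3] at h2
      exact (mul_inv_eq_iff_eq_mul.1 h2).symm
    exact hle (hgen ▸ Subgroup.mem_top g)
  exact Subgroup.mem_centralizer_singleton_iff.1 hg

/-- The kernel is central. -/
theorem ker_le_center (T : Model D)
    (hgen : Subgroup.closure {g | ∃ r t, r < D.nroots ∧ g = R.y r t} = ⊤) :
    R.π.ker ≤ Subgroup.center Γ := fun _ hk =>
  R.mem_center_of_H hS T hgen (R.ker_le_H hS T hgen hk) hk

end Base

end Cfsg.Agent.KnownSimple.Steinberg.Gen
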