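import Cfsg.Agent.KnownSimple.Steinberg.Gen.Large
import Cfsg.Agent.Lib.ChevCore.CertD4Table
import Cfsg.Agent.Lib.ChevCore.PackedD4

/-!
The certificate of lifts over large fields for type D4 (helper53).
-/

set_option autoImplicit false

namespace Cfsg.Agent.KnownSimple.Steinberg.Gen

open Cfsg.Lie Cfsg.Agent.ChevCore

theorem bigKD4 : bigK chevD4 (std chevD4) = true := by
  rw [← (fast_eq_std chkLinkD4).1]
  decide +kernel

end Cfsg.Agent.KnownSimple.Steinberg.Gen
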