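import Cfsg.Agent.KnownSimple.Steinberg.Gen.Inj

/-!
The commutator formula implies that `n_p(c)` conjugates root elements correctly (helper53).
-/

set_option autoImplicit false

namespace Cfsg.Agent.KnownSimple.Steinberg.Gen

open Cfsg.Lie Cfsg.Agent.ChevCore Cfsg.Agent.ChevGroup
open scoped commutatorElement

variable {D : ChevalleyDatum} {F : Type*} [Field F]

/-- `±p` keep the group of `L`, which holds `s` and its image under the reflection -/
noncomputable def conjK (D : ChevalleyDatum) (A : Acc) (i s : ℕ) (L : List ℕ) : Bool :=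
  forceN (D.simple i) fun p => forceN (A.negf p) fun np =>
    memK L s && memK L (reflW D A i s) && ordK D A L &&
      kall [p, np] fun q => kall L fun v =>
        !(Nat.beq v q) && !(Nat.beq v (A.negf q)) && kall (commW A q v) fun c => memK L c.1

/-- `q ∈ {p, -p}` occurs once, with a unit coefficient and linearly, in the formula of `(a, b)`, and the
images of all letters lie in the group of `L` -/
noncomputable def decK (D : ChevalleyDatum) (A : Acc) (i q a b : ℕ) (L : List ℕ) : Bool :=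
  forceN (D.simple i) fun p => forceN (A.negf p) fun np =>
    Nat.blt a D.nroots && Nat.blt b D.nroots && !(Nat.beq b a) && !(Nat.beq b (A.negf a)) &&
    !(Nat.beq a p) && !(Nat.beq a np) && !(Nat.beq b p) && !(Nat.beq b np) &&
    ordK D A L && memK L (reflW D A i a) && memK L (reflW D A i b) && memK L (reflW D A i q) &&
    Nat.beq ((commW A a b).filter fun c => Nat.beq c.1 q).length 1 &&
    kall (commW A a b) fun c =>
      bif Nat.beq c.1 q then (zEq c.2.1 1 || zEq c.2.1 (-1)) && (Nat.beq c.2.2.1 1 || Nat.beq c.2.2.2 1)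
      else !(Nat.beq c.1 p) && !(Nat.beq c.1 np) && memK L (reflW D A i c.1)

/-- positive roots other than `p` are kept by `x_p` -/
noncomputable def upK (D : ChevalleyDatum) (A : Acc) (i : ℕ) : Bool :=
  forceN (D.simple i) fun p => kallUpTo D.nroots fun s =>
    !(Nat.ble D.nroots (2 * s)) || Nat.beq s p || (!(Nat.beq s (A.negf p)) &&
      kall (commW A p s) fun c => Nat.ble D.nroots (2 * c.1) && !(Nat.beq c.1 p))

/-- The certificates for the conjugation. -/
structure ConjCert (D : ChevalleyDatum) : Prop where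
  conj : ∀ i < D.rank, ∀ s < D.nroots, s ≠ D.simple i → s ≠ D.neg (D.simple i) →
    ∃ L, conjK D (std D) i s L = true
  dec : ∀ i < D.rank, ∀ q, q = D.simple i ∨ q = D.neg (D.simple i) →
    ∃ a b L, decK D (std D) i q a b L = true
  up : ∀ i < D.rank, upK D (std D) i = true
  pos : ordK D (std D) (List.range' (D.nroots / 2) (D.nroots / 2)) = true

namespace Pre

variable {Γ : Type*} [Group Γ] (R : Pre D F Γ)

/-- all relations hold -/
def AllRel : Prop := ∀ r < D.nroots, ∀ s < D.nroots, s ≠ r → s ≠ D.neg r → R.Rel r s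

variable (hS : DOK D) (hR : R.AllRel) (hc : ConjCert D)
include hS hR

theorem rel_of_ord {L : List ℕ} (hL : ordK D (std D) L = true) :
    ∀ r ∈ L, ∀ v ∈ L, v ≠ r → v ≠ D.neg r → R.Rel r v :=
  fun r hr v hv h1 h2 => hR r (ordK_lt hL r hr) v (ordK_lt hL v hv) h1 h2

include hc

/-- `n_p(c)` -/
local notation "N(" i "," c ")" =>
  R.y (D.simple i) c * R.y (D.neg (D.simple i)) (-c⁻¹) * R.y (D.simple i) c

theorem π_conj {i s : ℕ} (hi : i < D.rank) (hs : s < D.nroots) {c : F} (hc0 : c ≠ 0) (t : F) :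
    R.π (N(i, c) * R.y s t * (N(i, c))⁻¹) =
      xg D F (D.reflectRoot i s)
        (c ^ D.pairing (D.simple i) (D.reflectRoot i s) * ((eta D i s : F) * t)) := by
  have hD := hS.good
  have hp := hD.simple_lt hi
  have e : R.π N(i, c) = ng D F (D.simple i) c := by
    rw [map_mul, map_mul, R.π_y _ hp, R.π_y _ (hD.neg_lt hp), ng]
  rw [map_mul, map_mul, map_inv, e, R.π_y s hs, hD.ng_eq_hg_mul,
    ← hD.hg_conj_x hp (hD.refl_lt hi hs) hc0, ← hD.ng_conj_x hi hs]
  group

theorem conj_general {i s : ℕ} (hi : i < D.rank) (hs : s < D.nroots) (h1 : s ≠ D.simple i)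
    (h2 : s ≠ D.neg (D.simple i)) {c : F} (hc0 : c ≠ 0) (t : F) :
    N(i, c) * R.y s t * (N(i, c))⁻¹ = R.y (D.reflectRoot i s)
      (c ^ D.pairing (D.simple i) (D.reflectRoot i s) * ((eta D i s : F) * t)) := by
  have hD := hS.good
  have hp := hD.simple_lt hi
  obtain ⟨L, hL⟩ := hc.conj i hi s hs h1 h2
  simp only [conjK, forceN_eq, Bool.and_eq_true, memK_iff, reflW_std, kall_iff, std_negf,
    commW_std, Bool.not_eq_true', ← Bool.not_eq_true, Nat.beq_eq] at hL
  obtain ⟨⟨⟨hsL, hdL⟩, hord⟩, hq⟩ := hL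
  have hstep : ∀ q, q = D.simple i ∨ q = D.neg (D.simple i) → ∀ a g, g ∈ R.W L →
      R.y q a * g * (R.y q a)⁻¹ ∈ R.W L := by
    intro q hqq a g hg
    have hql : q < D.nroots := by
      rcases hqq with rfl | rfl
      exacts [hp, hD.neg_lt hp]
    refine R.conj_mem_W (fun v hv => ?_) a hg
    obtain ⟨⟨hv1, hv2⟩, hv3⟩ := hq q (by rcases hqq with rfl | rfl <;> simp) v hv
    exact Or.inr ⟨hR q hql v (ordK_lt hord v hv) hv1 hv2, hv3⟩
  refine R.eq_of_W hS hord (R.rel_of_ord hS hR hord) ?_ (R.y_mem_W hdL _) ?_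
  · rw [show N(i, c) * R.y s t * (N(i, c))⁻¹ = R.y (D.simple i) c * (R.y (D.neg (D.simple i)) (-c⁻¹) *
        (R.y (D.simple i) c * R.y s t * (R.y (D.simple i) c)⁻¹) *
        (R.y (D.neg (D.simple i)) (-c⁻¹))⁻¹) * (R.y (D.simple i) c)⁻¹ by group]
    exact hstep _ (Or.inl rfl) _ _ (hstep _ (Or.inr rfl) _ _ (hstep _ (Or.inl rfl) _ _
      (R.y_mem_W hsL t)))
  · rw [R.π_conj hS hR hc hi hs hc0, R.π_y _ (hD.refl_lt hi hs)]

theorem conj_self {i q : ℕ} (hi : i < D.rank) (hqq : q = D.simple i ∨ q = D.neg (D.simple i))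
    {c : F} (hc0 : c ≠ 0) (t : F) :
    N(i, c) * R.y q t * (N(i, c))⁻¹ = R.y (D.reflectRoot i q)
      (c ^ D.pairing (D.simple i) (D.reflectRoot i q) * ((eta D i q : F) * t)) := by
  have hD := hS.good
  have hp := hD.simple_lt hi
  have hql : q < D.nroots := by
    rcases hqq with rfl | rfl
    exacts [hp, hD.neg_lt hp]
  obtain ⟨a, b, L, hL⟩ := hc.dec i hi q hqq
  simp only [decK, forceN_eq, Bool.and_eq_true, memK_iff, reflW_std, kall_iff, std_negf, Nat.blt_eq,
    commW_std, Bool.not_eq_true', ← Bool.not_eq_true, Nat.beq_eq] at hL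
  obtain ⟨⟨⟨⟨⟨⟨⟨⟨⟨⟨⟨⟨⟨ha, hb⟩, hba⟩, hbna⟩, hap⟩, hanp⟩, hbp⟩, hbnp⟩, hord⟩, haL⟩, hbL⟩, hqL⟩, hcnt⟩,
    hall⟩ := hL
  obtain ⟨c0, hc0m⟩ : ∃ c0, c0 ∈ (D.commTerms a b).filter fun c => Nat.beq c.1 q := by
    refine List.exists_mem_of_ne_nil _ fun e => ?_
    rw [e] at hcnt
    simp at hcnt
  rw [List.mem_filter] at hc0m
  obtain ⟨pre, post, hsplit⟩ := List.append_of_mem hc0m.1
  have hc0q : c0.1 = q := Nat.eq_of_beq_eq_true hc0m.2
  have hother : ∀ e ∈ pre ++ post, e.1 ≠ q := by
    intro e he heq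
    rw [hsplit, List.filter_append, List.filter_cons_of_pos (by simpa using hc0m.2)] at hcnt
    have : e ∈ (pre.filter fun c => Nat.beq c.1 q) ++ (post.filter fun c => Nat.beq c.1 q) := by
      rw [← List.filter_append, List.mem_filter]
      exact ⟨he, by rw [heq]; exact Nat.beq_refl q⟩
    have := List.length_pos_of_mem this
    simp only [List.length_append, List.length_cons] at this hcnt
    omega
  have hco := hall c0 hc0m.1
  rw [hc0m.2, cond_true] at hco
  simp only [Bool.and_eq_true, Bool.or_eq_true, zEq_iff, Nat.beq_eq] at hco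
  obtain ⟨hz, hij⟩ := hco
  have hz2 : (c0.2.1 : F) * c0.2.1 = 1 := by
    rcases hz with e | e <;> simp [e]
  obtain ⟨t', u', ht⟩ : ∃ t' u' : F,
      (c0.2.1 : F) * (- -t') ^ c0.2.2.1 * (-u') ^ c0.2.2.2 = t := by
    rcases hij with e | e
    · exact ⟨(c0.2.1 : F) * t, -1, by rw [e]; simp [← mul_assoc, hz2]⟩
    · exact ⟨1, -((c0.2.1 : F) * t), by rw [e]; simp [← mul_assoc, hz2]⟩
  have hrel := hR a ha b hb hba hbna t' u'
  let f : ℕ × ℤ × ℕ × ℕ → Γ := fun e =>
    R.y e.1 ((e.2.1 : F) * (- -t') ^ e.2.2.1 * (-u') ^ e.2.2.2)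
  have hword : R.word (D.commWord F a b (-t') (-u')) =
      (pre.map f).prod * R.y q t * (post.map f).prod := by
    rw [word, ChevalleyDatum.commWord, List.map_map, hsplit, List.map_append, List.map_cons,
      List.prod_append, List.prod_cons, ← mul_assoc]
    simp only [Function.comp_def]
    rw [hc0q, ht]
  rw [hword] at hrel
  have hy : R.y q t = (pre.map f).prod⁻¹ * ⁅R.y b u', R.y a t'⁆ * (post.map f).prod⁻¹ := by
    rw [hrel]; group
  let M : Subgroup Γ := (R.W L).comap (MulAut.conj N(i, c)).toMonoidHom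
  have hgen : ∀ v, v < D.nroots → v ≠ D.simple i → v ≠ D.neg (D.simple i) →
      D.reflectRoot i v ∈ L → ∀ x, R.y v x ∈ M := fun v hv h1 h2 hvL x => by
    show N(i, c) * R.y v x * (N(i, c))⁻¹ ∈ R.W L
    rw [R.conj_general hS hR hc hi hv h1 h2 hc0]
    exact R.y_mem_W hvL _
  have hlet : ∀ e ∈ pre ++ post, f e ∈ M := by
    intro e he
    have hem : e ∈ D.commTerms a b := by
      rw [hsplit]; simp only [List.mem_append, List.mem_cons] at he ⊢; tauto
    have h := hall e hem
    have hne : Nat.beq e.1 q = false := by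
      rw [← Bool.not_eq_true, Nat.beq_eq]; exact hother e he
    rw [hne, cond_false] at h
    simp only [Bool.and_eq_true, memK_iff, Bool.not_eq_true', ← Bool.not_eq_true, Nat.beq_eq] at h
    exact hgen e.1 ((hD.commTerms_coef ha hb hem).1) h.1.1 h.1.2 h.2 _
  have hM : R.y q t ∈ M := by
    rw [hy]
    refine mul_mem (mul_mem (inv_mem (Subgroup.list_prod_mem _ ?_)) ?_)
      (inv_mem (Subgroup.list_prod_mem _ ?_))
    · intro g hg
      obtain ⟨e, he, rfl⟩ := List.mem_map.1 hg
      exact hlet e (List.mem_append_left _ he)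
    · have h1 := hgen b hb hbp hbnp hbL u'
      have h2 := hgen a ha hap hanp haL t'
      exact mul_mem (mul_mem (mul_mem h1 h2) (inv_mem h1)) (inv_mem h2)
    · intro g hg
      obtain ⟨e, he, rfl⟩ := List.mem_map.1 hg
      exact hlet e (List.mem_append_right _ he)
  refine R.eq_of_W hS hord (R.rel_of_ord hS hR hord) hM (R.y_mem_W hqL _) ?_
  rw [R.π_conj hS hR hc hi hql hc0, R.π_y _ (hD.refl_lt hi hql)]

/-- All relations and the certificates give the base structure. -/
noncomputable def toBase : Base D F Γ where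
  π := R.π
  y := R.y
  π_y := R.π_y
  y_add := R.y_add
  nn_conj i s hi hs c hc0 t := by
    by_cases h1 : s = D.simple i
    · exact R.conj_self hS hR hc hi (Or.inl h1) hc0 t
    by_cases h2 : s = D.neg (D.simple i)
    · exact R.conj_self hS hR hc hi (Or.inr h2) hc0 t
    exact R.conj_general hS hR hc hi hs h1 h2 hc0 t
  comm_mem i s hi hs hsp hne t u := by
    have hD := hS.good
    have hp := hD.simple_lt hi
    have h := hc.up i hi
    simp only [upK, forceN_eq, kallUpTo_iff, Bool.or_eq_true, Bool.and_eq_true, kall_iff, std_negf,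
      commW_std, Bool.not_eq_true', ← Bool.not_eq_true, Nat.ble_eq, Nat.beq_eq] at h
    obtain ⟨h1, h2⟩ := ((h s hs).resolve_left fun h => h.elim (fun e => e hsp) hne)
    rw [show R.y (D.simple i) t * R.y s u * (R.y (D.simple i) t)⁻¹ =
      ⁅R.y s u, R.y (D.simple i) t⁆⁻¹ * R.y s u by simp only [commutatorElement_def]; group,
      hR _ hp s hs hne h1]
    refine mul_mem (inv_mem (Subgroup.list_prod_mem _ fun g hg => ?_))
      (Subgroup.subset_closure ⟨s, u, hs, hsp, hne, rfl⟩)
    obtain ⟨p, hp', rfl⟩ := List.mem_map.1 hg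
    obtain ⟨e, he, rfl⟩ := List.mem_map.1 hp'
    exact Subgroup.subset_closure ⟨e.1, _, (hD.commTerms_coef hp hs he).1, (h2 e he).1, (h2 e he).2, rfl⟩
  upper_inj g hg h1 := by
    refine R.W_injective hS hc.pos (R.rel_of_ord hS hR hc.pos) ((Subgroup.closure_mono ?_) hg) h1
    rintro x ⟨v, a, hv, hvp, rfl⟩
    refine ⟨v, a, ?_, rfl⟩
    rw [List.mem_range'_1]
    have := hS.nroots_even
    omega

end Pre

end Cfsg.Agent.KnownSimple.Steinberg.Gen
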