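import Cfsg.Agent.KnownSimple.Steinberg.Gen.Kernel

/-!
Over a finite field every `h_r` is multiplicative, also for long roots without a neighbour of the same
length (helper53).
-/

set_option autoImplicit false

namespace Cfsg.Agent.KnownSimple.Steinberg.Gen

open Cfsg.Lie Cfsg.Agent.ChevCore Cfsg.Agent.ChevGroup
open scoped commutatorElement

variable {D : ChevalleyDatum} {F : Type*} [Field F]

/-- every simple root has Cartan integer `-1` with some root, or `-2` with a simple root that has one -/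
def NbrOK (D : ChevalleyDatum) : Prop :=
  ∀ i < D.rank, (∃ j < D.nroots, D.pairing j (D.simple i) = -1) ∨
    ∃ k < D.rank, D.cartan k (D.simple i) = -2 ∧ ∃ j < D.nroots, D.pairing j (D.simple k) = -1

namespace Base

variable {Γ : Type*} [Group Γ] (R : Base D F Γ) (hS : DOK D) (T : Model D)
  (hgen : Subgroup.closure {g | ∃ r t, r < D.nroots ∧ g = R.y r t} = ⊤)

include hS

theorem hh_mul_all (hmul : ∀ i < D.rank, ∀ a b : Fˣ,
    R.hh (D.simple i) (a : F) * R.hh (D.simple i) (b : F) = R.hh (D.simple i) ((a : F) * b))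
    {r : ℕ} (hr : r < D.nroots) (a b : Fˣ) :
    R.hh r (a : F) * R.hh r (b : F) = R.hh r ((a : F) * b) := by
  have hD := hS.good
  obtain ⟨w, hw, i, hi, rfl⟩ := hD.exists_word hr
  have hp := hD.simple_lt hi
  set e : F := (etaWord D w (D.simple i) : F) with he
  have he2 : e * e = 1 := etaWord_mul_self w _
  have he0 : e ≠ 0 := left_ne_zero_of_mul_eq_one he2
  have hnn : ∀ x, R.nn (actW D w (D.simple i)) x =
      R.nW w * R.nn (D.simple i) (e * x) * (R.nW w)⁻¹ := by
    intro x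
    rw [← MulAut.conj_apply]
    simp only [nn, map_mul, MulAut.conj_apply]
    rw [R.nW_conj hS hw hp, R.nW_conj hS hw (hD.neg_lt hp), hD.actW_neg hw hp,
      hD.etaWord_neg hw hp, ← he, _root_.mul_inv, inv_eq_of_mul_eq_one_left he2,
      ← mul_assoc e e x, he2, one_mul, mul_neg, ← mul_assoc, he2, one_mul]
  set u : Fˣ := Units.mk0 e he0 with hu
  have hh' : ∀ c : Fˣ, R.hh (actW D w (D.simple i)) (c : F) =
      R.nW w * R.hh (D.simple i) (c : F) * (R.nW w)⁻¹ := by
    intro c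
    have h1 : R.hh (D.simple i) (e * (c : F)) = R.hh (D.simple i) e * R.hh (D.simple i) (c : F) := by
      have := hmul i hi u c
      rwa [hu, Units.val_mk0, eq_comm] at this
    have h2 : R.hh (D.simple i) e * R.hh (D.simple i) (c : F) =
        R.hh (D.simple i) (c : F) * R.hh (D.simple i) e := by
      have e1 := hmul i hi u c
      have e2 := hmul i hi c u
      rw [hu, Units.val_mk0] at e1 e2
      rw [e1, e2, mul_comm]
    rw [hh, hnn, hnn,
      show R.nW w * R.nn (D.simple i) (e * c) * (R.nW w)⁻¹ *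
          (R.nW w * R.nn (D.simple i) (e * -1) * (R.nW w)⁻¹) =
        R.nW w * (R.hh (D.simple i) (e * c) * (R.hh (D.simple i) e)⁻¹) * (R.nW w)⁻¹ by
        rw [hh, hh, mul_neg_one, ← R.nn_inv hS hp]; group]
    rw [h1, h2, mul_inv_cancel_right]
  rw [hh' a, hh' b, ← Units.val_mul, hh' (a * b), Units.val_mul, ← hmul i hi a b]
  group

include T hgen

theorem delta_long [Finite F] {i k : ℕ} (hi : i < D.rank) (hk : k < D.rank)
    (hki : D.cartan k (D.simple i) = -2) (hmk : ∀ a b : Fˣ,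
      R.hh (D.simple k) (a : F) * R.hh (D.simple k) (b : F) = R.hh (D.simple k) ((a : F) * b))
    (a b : Fˣ) :
    R.hh (D.simple i) (a : F) * R.hh (D.simple i) (b : F) = R.hh (D.simple i) ((a : F) * b) := by
  have hD := hS.good
  haveI := Fintype.ofFinite F
  classical
  have hp := hD.simple_lt hi
  have hq := hD.simple_lt hk
  set h : Fˣ → Γ := fun t => R.hh (D.simple i) (t : F) with hh'
  have hki' : D.pairing (D.simple k) (D.simple i) = -2 := by rw [hD.pairing_simple hk, hki]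
  have hcki : ∀ (u t : Fˣ), Commute (h u) (R.hh (D.simple k) (t : F)) := by
    intro u t
    have e := R.hh_conj_hh hS hk hp u.ne_zero t.ne_zero
    set v : Fˣ := u ^ D.pairing (D.simple i) (D.simple k)
    rw [← Units.val_zpow_eq_zpow_val, mul_comm, ← hmk, mul_inv_cancel_right] at e
    exact mul_inv_eq_iff_eq_mul.1 e
  have hsqmul : ∀ v t : Fˣ, h (v ^ 2 * t) = h t * h (v ^ 2) := by
    intro v t
    have e := R.hh_conj_hh hS hi hq (u := ((v⁻¹ : Fˣ) : F)) (Units.ne_zero _) t.ne_zero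
    rw [hki', ← Units.val_zpow_eq_zpow_val, ← Units.val_mul,
      show (v⁻¹ : Fˣ) ^ (-2 : ℤ) = v ^ 2 by
        rw [inv_zpow', neg_neg, show (2 : ℤ) = ((2 : ℕ) : ℤ) from rfl, zpow_natCast],
      ← (hcki t v⁻¹).eq, mul_inv_cancel_right] at e
    show R.hh (D.simple i) ((v ^ 2 * t : Fˣ) : F) = _
    exact eq_mul_inv_iff_mul_eq.1 e |>.symm
  have hcomm : ∀ u t : Fˣ, Commute (h u) (h t) := by
    intro u t
    have e := R.hh_conj_hh hS hi hp u.ne_zero t.ne_zero
    rw [hD.pairing_simple hi, hD.cartan_self hi, ← Units.val_zpow_eq_zpow_val, ← Units.val_mul,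
      show u ^ (2 : ℤ) = u ^ 2 from zpow_natCast u 2] at e
    have e' := hsqmul u t
    simp only [hh'] at e'
    rw [e', mul_inv_cancel_right] at e
    exact mul_inv_eq_iff_eq_mul.1 e
  obtain ⟨g, hg⟩ := IsCyclic.exists_monoid_generator (α := Fˣ)
  have hgg : h (g * g) = h g * h g := by
    by_cases hev : Even (Fintype.card F)
    · have hsq : IsSquare (g : F) := FiniteField.isSquare_of_char_two
        (FiniteField.even_card_iff_char_two.2 (Nat.even_iff.1 hev)) _
      obtain ⟨y, hy⟩ := hsq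
      have hy0 : y ≠ 0 := fun h0 => g.ne_zero (by rw [hy, h0, mul_zero])
      have hgy : g = Units.mk0 y hy0 ^ 2 := Units.ext (by simp [hy, sq])
      conv_lhs => arg 1; arg 1; rw [hgy]
      rw [hsqmul, ← hgy]
    · have h2 : ringChar F ≠ 2 := fun h2 =>
        hev (Nat.even_iff.2 (FiniteField.even_card_iff_char_two.1 h2))
      obtain ⟨t, ht, hu⟩ := exists_nonsquare_pair h2
      have ht0 : t ≠ 0 := fun h => ht (h ▸ IsSquare.zero)
      have hu0 : 1 - t ≠ 0 := fun h => hu (h ▸ IsSquare.zero)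
      have hrel : h (Units.mk0 t ht0) * h (Units.mk0 (1 - t) hu0) =
          h (Units.mk0 t ht0 * Units.mk0 (1 - t) hu0) := by
        simp only [hh', Units.val_mul, Units.val_mk0]
        exact R.hh_mul_of_add hS hi ht0 hu0 (by ring)
      have hodd : ∀ x : Fˣ, ¬ IsSquare (x : F) → ∃ s : Fˣ, x = s ^ 2 * g := by
        intro x hx
        obtain ⟨n, rfl⟩ := hg x
        rcases Nat.even_or_odd n with ⟨a, rfl⟩ | ⟨a, rfl⟩
        · exact absurd ⟨((g ^ a : Fˣ) : F), by simp [pow_add]⟩ hx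
        · exact ⟨g ^ a, by show g ^ (2 * a + 1) = (g ^ a) ^ 2 * g; rw [pow_succ, ← pow_mul, mul_comm 2 a]⟩
      obtain ⟨s, hs⟩ := hodd (Units.mk0 t ht0) ht
      obtain ⟨s', hs'⟩ := hodd (Units.mk0 (1 - t) hu0) hu
      rw [hs, hs', hsqmul, hsqmul, show s ^ 2 * g * (s' ^ 2 * g) = s ^ 2 * (s' ^ 2 * (g * g)) by ac_rfl,
        hsqmul, hsqmul] at hrel
      have e : h g * h g * (h (s' ^ 2) * h (s ^ 2)) = h (g * g) * (h (s' ^ 2) * h (s ^ 2)) := by
        rw [← mul_assoc (h (g * g)), ← hrel, (hcomm (s ^ 2) g).mul_mul_mul_comm,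
          (hcomm (s ^ 2) (s' ^ 2)).eq]
      exact (mul_right_cancel e).symm
  have hpar : ∀ x : Fˣ, (∃ s : Fˣ, x = s ^ 2) ∨ ∃ s : Fˣ, x = s ^ 2 * g := by
    intro x
    obtain ⟨n, rfl⟩ := hg x
    rcases Nat.even_or_odd n with ⟨m, rfl⟩ | ⟨m, rfl⟩
    · exact Or.inl ⟨g ^ m, by show g ^ (m + m) = (g ^ m) ^ 2; rw [← pow_mul, mul_two]⟩
    · exact Or.inr ⟨g ^ m, by show g ^ (2 * m + 1) = (g ^ m) ^ 2 * g; rw [pow_succ, ← pow_mul, mul_comm 2 m]⟩
  show h a * h b = R.hh (D.simple i) ((a : F) * b)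
  rw [← Units.val_mul]
  show h a * h b = h (a * b)
  rcases hpar a with ⟨s, rfl⟩ | ⟨s, rfl⟩
  · rw [hsqmul, (hcomm b (s ^ 2)).eq]
  rcases hpar b with ⟨s', rfl⟩ | ⟨s', rfl⟩
  · rw [mul_comm (s ^ 2 * g) (s' ^ 2), hsqmul s']
  · rw [hsqmul, hsqmul, show s ^ 2 * g * (s' ^ 2 * g) = s ^ 2 * (s' ^ 2 * (g * g)) by ac_rfl,
      hsqmul, hsqmul, hgg, (hcomm (s ^ 2) g).mul_mul_mul_comm, (hcomm (s ^ 2) (s' ^ 2)).eq]
    simp only [mul_assoc]

theorem hh_mul [Finite F] (hN : NbrOK D) : ∀ i < D.rank, ∀ a b : Fˣ,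
    R.hh (D.simple i) (a : F) * R.hh (D.simple i) (b : F) = R.hh (D.simple i) ((a : F) * b) := by
  intro i hi a b
  rcases hN i hi with h | ⟨k, hk, hki, h⟩
  · exact R.delta_eq_one hS T hgen hi h a b
  · exact R.delta_long hS T hgen hi hk hki (R.delta_eq_one hS T hgen hk h) a b

end Base

end Cfsg.Agent.KnownSimple.Steinberg.Gen
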