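import Cfsg.Agent.KnownSimple.Steinberg.Bound
import Cfsg.Agent.KnownSimple.Steinberg.Gen.Symbol
import Cfsg.Agent.KnownSimple.Steinberg.Gen.Conj

/-!
The bound on stem extensions, from lifts with Steinberg's relations (helper53).
-/

set_option autoImplicit false

namespace Cfsg.Agent.KnownSimple.Steinberg.Gen

open Cfsg Cfsg.Lie Cfsg.Agent.ChevCore Cfsg.Agent.ChevGroup
open scoped commutatorElement

universe u

variable {D : ChevalleyDatum} {F : Type*} [Field F]

theorem card_stem_ker_le [Fintype F] (hS : DOK D) (hc : ConjCert D) (hN : NbrOK D) (T : Model D) {k m : ℕ} {e : List ℕ}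
    {W : List (List ℤ)} (h : elimB D k m e W = true) (hm : 0 < m)
    (Γ : Type*) [Group Γ] (σ : Γ →* ↥(D.group F)) (hσ : IsStemExtension σ)
    (hlift : ∀ E : CExt D F Γ, ∃ R : Pre D F Γ, R.π = E.π ∧ R.AllRel) :
    Nat.card σ.ker ≤ Nat.gcd m (Fintype.card F - 1) := by
  have hD := hS.good
  obtain ⟨hsurj, hcen, hcom⟩ := hσ
  classical
  have hker : ((D.group F).subtype.comp σ).ker = σ.ker :=
    MonoidHom.ker_comp_of_injective σ _ (Subgroup.subtype_injective _)
  let E : CExt D F Γ :=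
    { π := (D.group F).subtype.comp σ
      central := hker.le.trans hcen
      ℓ := fun r t => if hr : r < D.nroots then
        Function.surjInv hsurj ⟨xg D F r t, xg_mem_group hD hr t⟩ else 1
      π_ℓ := fun r hr t => by
        rw [MonoidHom.comp_apply, dif_pos hr, Function.surjInv_eq hsurj]
        rfl }
  obtain ⟨R₀, hR₀, hrel⟩ := hlift E
  let R := R₀.toBase hS hrel hc
  set K := Subgroup.closure {g | ∃ r t, r < D.nroots ∧ g = R.y r t} with hK
  have hRπ : R.π = (D.group F).subtype.comp σ := hR₀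
  have hKmap : K.map σ = ⊤ := by
    refine Subgroup.map_injective (Subgroup.subtype_injective (D.group F)) ?_
    rw [Subgroup.map_map, ← hRπ, hK, MonoidHom.map_closure, ← MonoidHom.range_eq_map,
      Subgroup.range_subtype]
    conv_rhs => rw [group_eq_closure_xg hD]
    congr 1
    ext g
    constructor
    · rintro ⟨_, ⟨r, t, hr, rfl⟩, rfl⟩
      exact ⟨r, t, hr, R.π_y r hr t⟩
    · rintro ⟨r, t, hr, rfl⟩
      exact ⟨_, ⟨r, t, hr, rfl⟩, R.π_y r hr t⟩
  have htop : K = ⊤ := by
    have hdec : ∀ g : Γ, ∃ a ∈ K, ∃ z ∈ σ.ker, g = a * z := by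
      intro g
      obtain ⟨a, ha, e⟩ : σ g ∈ K.map σ := hKmap ▸ Subgroup.mem_top _
      exact ⟨a, ha, a⁻¹ * g, by simp [MonoidHom.mem_ker, e], by group⟩
    have hKc : commutator Γ ≤ K := by
      rw [commutator_def, Subgroup.commutator_le]
      intro g _ g' _
      obtain ⟨a, ha, z, hz, rfl⟩ := hdec g
      obtain ⟨b, hb, w, hw, rfl⟩ := hdec g'
      rw [E.comm_congr (v' := a) (w' := b) (by rw [map_mul]; simp [E, MonoidHom.mem_ker.1 hz])
        (by rw [map_mul]; simp [E, MonoidHom.mem_ker.1 hw])]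
      exact mul_mem (mul_mem (mul_mem ha hb) (inv_mem ha)) (inv_mem hb)
    rw [eq_top_iff]
    intro g _
    obtain ⟨a, ha, z, hz, rfl⟩ := hdec g
    exact mul_mem ha (hKc (hcom hz))
  have := (R.card_ker_le hS T htop (R.hh_mul hS T htop hN) h hm).2
  rwa [hRπ, hker] at this

theorem hasCyclicSchurMultiplier_one {D : ChevalleyDatum} {F : Type u} [Field F] [Fintype F]
    (hS : DOK D) (hc : ConjCert D) (hN : NbrOK D) (T : Model D) {k : ℕ} {e : List ℕ}
    {W : List (List ℤ)} (h : elimB D k 1 e W = true)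
    (hlift : ∀ (Γ : Type u) [Group Γ] [Finite Γ] (E : CExt D F Γ),
      ∃ R : Pre D F Γ, R.π = E.π ∧ R.AllRel) :
    HasCyclicSchurMultiplier ↥(D.group F) 1 :=
  Schur.hasCyclicSchurMultiplier_one_of_forall fun Γ _ _ σ hσ => by
    have h1 := card_stem_ker_le hS hc hN T h one_pos Γ σ hσ (hlift Γ)
    rw [Nat.gcd_one_left] at h1
    exact Subgroup.eq_bot_of_card_le _ h1

end Cfsg.Agent.KnownSimple.Steinberg.Gen
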