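import Cfsg.Agent.KnownSimple.Steinberg.Gen.Small

/-!
Central extensions of Chevalley groups over the field with three elements: the bracket of two lifts is a
power of the bracket at `1`, and a bracket identity moves it between commuting pairs of roots (helper53).
-/

set_option autoImplicit false

namespace Cfsg.Agent.KnownSimple.Steinberg.Gen

open Cfsg.Lie Cfsg.Agent.ChevCore Cfsg.Agent.ChevGroup
open scoped commutatorElement

variable {D : ChevalleyDatum} {F : Type*} [Field F] {Γ : Type*} [Group Γ]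

theorem three_cases [Fintype F] (hF : Fintype.card F = 3) :
    (3 : F) = 0 ∧ ∀ x : F, x = 0 ∨ x = 1 ∨ x = -1 := by
  refine ⟨by have h := Nat.cast_card_eq_zero F; rwa [hF, Nat.cast_ofNat] at h,
    fun x => (eq_or_ne x 0).imp_right fun hx => ?_⟩
  have h := FiniteField.pow_card_sub_one_eq_one x hx
  rw [hF] at h
  exact sq_eq_one_iff.1 h

/-- every lift of `x_r(t)` is a power of that of `x_r(1)`, up to the centre -/
theorem exists_zpow_π (E : CExt D F Γ) (hD : Good D) (hF : ∀ x : F, x = 0 ∨ x = 1 ∨ x = -1) {r : ℕ}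
    (hr : r < D.nroots) (t : F) : ∃ k : ℤ, E.π (E.ℓ r t) = E.π (E.ℓ r 1 ^ k) := by
  rcases hF t with rfl | rfl | rfl
  · exact ⟨0, by rw [zpow_zero, map_one, E.π_ℓ r hr, hD.xg_zero]⟩
  · exact ⟨1, by rw [zpow_one]⟩
  · exact ⟨-1, by rw [zpow_neg_one, map_inv, E.π_ℓ r hr, E.π_ℓ r hr, hD.xg_inv]⟩

theorem commute_of_one (E : CExt D F Γ) (hD : Good D) (hF : ∀ x : F, x = 0 ∨ x = 1 ∨ x = -1)
    {r s : ℕ} (hr : r < D.nroots) (hs : s < D.nroots) (h : Commute (E.ℓ r 1) (E.ℓ s 1)) (u v : F) :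
    Commute (E.ℓ r u) (E.ℓ s v) := by
  obtain ⟨i, hi⟩ := exists_zpow_π E hD hF hr u
  obtain ⟨j, hj⟩ := exists_zpow_π E hD hF hs v
  exact E.commute_congr hi hj (h.zpow_zpow i j)

theorem bracket_cube (E : CExt D F Γ) (hD : Good D) (h3 : (3 : F) = 0) {r s : ℕ} (hr : r < D.nroots)
    (hs : s < D.nroots) (hG : ∀ u v, Commute (xg D F r u) (xg D F s v)) :
    ⁅E.ℓ r 1, E.ℓ s 1⁆ ^ 3 = 1 := by
  have hl := bracket_add_left (E := E) hr hs hG hD
  rw [pow_three', ← hl, ← hl, show (1 : F) + 1 + 1 = 0 by rw [← h3]; norm_num,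
    commutatorElement_eq_one_iff_commute]
  exact E.π_eq_zero_commute hr hD (E.π_ℓ r hr 0) _

theorem bracket_unit (E : CExt D F Γ) (hD : Good D) {r s : ℕ} (hr : r < D.nroots)
    (hs : s < D.nroots) (hG : ∀ u v, Commute (xg D F r u) (xg D F s v)) {z : ℤ}
    (hz : z = 1 ∨ z = -1) : ⁅E.ℓ r 1, E.ℓ s (z : F)⁆ = ⁅E.ℓ r 1, E.ℓ s 1⁆ ^ z := by
  rcases hz with rfl | rfl
  · rw [Int.cast_one, zpow_one]
  · rw [Int.cast_neg, Int.cast_one, zpow_neg_one]
    refine eq_inv_of_mul_eq_one_left ?_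
    rw [← bracket_add_right (E := E) hr hs hG hD, neg_add_cancel,
      commutatorElement_eq_one_iff_commute]
    exact (E.π_eq_zero_commute hs hD (E.π_ℓ s hs 0) _).symm

/-- the matrix of a bracket with a single term -/
theorem π_bracket_single (hC : CommGood D) (E : CExt D F Γ) {a b s : ℕ} (ha : a < D.nroots)
    (hb : b < D.nroots) (hba : b ≠ a) (hbna : b ≠ D.neg a) {z : ℤ}
    (h : D.commTerms a b = [(s, z, 1, 1)]) (t u : F) :
    E.π ⁅E.ℓ a t, E.ℓ b u⁆ = xg D F s ((z : F) * t * u) := by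
  have hD := hC.toGood
  have hg := hC.xg_comm (F := F) ha hb hba hbna (-t) (-u)
  rw [ChevalleyDatum.commWord, h] at hg
  simp only [wordG, List.map_cons, List.map_nil, List.prod_cons, List.prod_nil, mul_one, neg_neg,
    pow_one] at hg
  rw [mul_assoc] at hg
  rw [← commutatorElement_inv, map_inv, map_commutatorElement, E.π_ℓ a ha, E.π_ℓ b hb,
    commutatorElement_def, hD.xg_inv, hD.xg_inv, mul_assoc _ (xg D F b (-u)), hg,
    show ∀ w, xg D F b u * xg D F a t * (xg D F a (-t) * (xg D F b (-u) * w)) = w from fun w => by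
      rw [← hD.xg_inv a t, ← hD.xg_inv b u]; group,
    hD.xg_inv, mul_neg, neg_neg]

/-- The bracket identity: `⁅x_r, ⁅x_a, x_b⁆⁆ = ⁅x_a, ⁅x_r, x_b⁆⁆` in a central extension. -/
theorem bracket_step (hC : CommGood D) (E : CExt D F Γ) {r s a b w : ℕ} (hr : r < D.nroots)
    (hs : s < D.nroots) (ha : a < D.nroots) (hb : b < D.nroots) (hw : w < D.nroots)
    (hba : b ≠ a) (hbna : b ≠ D.neg a) (hbr : b ≠ r) (hbnr : b ≠ D.neg r)
    (hrs : ∀ u v, Commute (xg D F r u) (xg D F s v)) (hra : ∀ u v, Commute (xg D F r u) (xg D F a v))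
    (haw : ∀ u v, Commute (xg D F a u) (xg D F w v)) {z₁ z₂ : ℤ}
    (hz₁ : z₁ = 1 ∨ z₁ = -1) (hz₂ : z₂ = 1 ∨ z₂ = -1)
    (h₁ : D.commTerms a b = [(s, z₁, 1, 1)]) (h₂ : D.commTerms r b = [(w, z₂, 1, 1)])
    (hws : ∀ u v, Commute (E.ℓ w u) (E.ℓ s v)) :
    ⁅E.ℓ r 1, E.ℓ s 1⁆ = ⁅E.ℓ a 1, E.ℓ w 1⁆ ^ (z₁ * z₂) := by
  have hD := hC.toGood
  set A := E.ℓ a 1
  set B := E.ℓ b 1
  set R := E.ℓ r 1
  have hS : E.π ⁅A, B⁆ = E.π (E.ℓ s z₁) := by
    rw [π_bracket_single hC E ha hb hba hbna h₁, mul_one, mul_one, E.π_ℓ s hs]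
  have hW : E.π ⁅R, B⁆ = E.π (E.ℓ w z₂) := by
    rw [π_bracket_single hC E hr hb hbr hbnr h₂, mul_one, mul_one, E.π_ℓ w hw]
  have hRA : E.π (R * A * R⁻¹) = E.π A := by
    rw [map_mul, map_mul, map_inv, E.π_ℓ r hr, E.π_ℓ a ha, (hra 1 1).eq, mul_inv_cancel_right]
  have hc : Commute ⁅R, B⁆ ⁅A, B⁆ := E.commute_congr hW hS (hws _ _)
  have key : ⁅R, ⁅A, B⁆⁆ = ⁅A, ⁅R, B⁆⁆ := by
    have h := E.comm_congr (v := R * A * R⁻¹) (w := R * B * R⁻¹) (v' := A) (w' := ⁅R, B⁆ * B) hRA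
      (by simp only [commutatorElement_def]; group)
    rw [← MulAut.conj_apply, ← MulAut.conj_apply, ← map_commutatorElement, MulAut.conj_apply,
      show ⁅A, ⁅R, B⁆ * B⁆ = ⁅A, ⁅R, B⁆⁆ * (⁅R, B⁆ * ⁅A, B⁆ * ⁅R, B⁆⁻¹) by
        simp only [commutatorElement_def]; group, hc.eq, mul_inv_cancel_right] at h
    calc ⁅R, ⁅A, B⁆⁆ = R * ⁅A, B⁆ * R⁻¹ * ⁅A, B⁆⁻¹ := commutatorElement_def _ _
      _ = _ := by rw [h, mul_inv_cancel_right]
  rw [E.comm_congr (v' := R) (w' := E.ℓ s (z₁ : F)) rfl hS,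
    E.comm_congr (v := A) (v' := A) (w' := E.ℓ w (z₂ : F)) rfl hW,
    bracket_unit E hD hr hs hrs hz₁, bracket_unit E hD ha hw haw hz₂] at key
  rw [mul_comm, zpow_mul, ← key, ← zpow_mul,
    show z₁ * z₁ = 1 by rcases hz₁ with rfl | rfl <;> rfl, zpow_one]

/-- the root elements commute as the roots say -/
noncomputable def comK (A : Acc) (r s : ℕ) : Bool :=
  !(Nat.beq s r) && !(Nat.beq s (A.negf r)) && (commW A r s).isEmpty

/-- root, coefficient of the only term -/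
noncomputable def headW (A : Acc) (r b : ℕ) : ℕ × ℤ × ℕ × ℕ := (commW A r b).headD (0, 0, 0, 0)

/-- one step of the bracket identity -/
noncomputable def stepOK (D : ChevalleyDatum) (A : Acc) (r s a b : ℕ) : Bool :=
  !(Nat.beq b a) && !(Nat.beq b (A.negf a)) && !(Nat.beq b r) && !(Nat.beq b (A.negf r)) &&
    Nat.beq (commW A a b).length 1 && Nat.beq (headW A a b).1 s &&
    Nat.beq (commW A r b).length 1 &&
    zEq ((headW A a b).2.1 * (headW A a b).2.1) 1 && zEq ((headW A r b).2.1 * (headW A r b).2.1) 1 &&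
    Nat.beq (headW A a b).2.2.1 1 && Nat.beq (headW A a b).2.2.2 1 &&
    Nat.beq (headW A r b).2.2.1 1 && Nat.beq (headW A r b).2.2.2 1 &&
    comK A r s && comK A r a && comK A a (headW A r b).1 && comK A (headW A r b).1 s &&
    sepM D 2 (headW A r b).1 s

/-- two steps lead back with the opposite sign -/
noncomputable def cycK (D : ChevalleyDatum) (A : Acc) (r s : ℕ) : Bool :=
  kanyUpTo D.nroots fun a => kanyUpTo D.nroots fun b => stepOK D A r s a b &&
    forceN (headW A r b).1 fun w => kanyUpTo D.nroots fun a' => kanyUpTo D.nroots fun b' =>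
      stepOK D A a w a' b' &&
        ((Nat.beq a' r && Nat.beq (headW A a b').1 s &&
            zEq ((headW A a b).2.1 * (headW A r b).2.1 * ((headW A a' b').2.1 * (headW A a b').2.1))
              (-1)) ||
          (Nat.beq a' s && Nat.beq (headW A a b').1 r &&
            zEq ((headW A a b).2.1 * (headW A r b).2.1 * ((headW A a' b').2.1 * (headW A a b').2.1)) 1))

theorem bracket_stepOK (hC : CommGood D) (E : CExt D F Γ) [Fintype F] (hF : Fintype.card F = 3)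
    {r s a b : ℕ} (hr : r < D.nroots) (hs : s < D.nroots) (ha : a < D.nroots) (hb : b < D.nroots)
    (h : stepOK D (std D) r s a b = true) :
    (headW (std D) r b).1 < D.nroots ∧
      ⁅E.ℓ r 1, E.ℓ s 1⁆ = ⁅E.ℓ a 1, E.ℓ (headW (std D) r b).1 1⁆ ^
        ((headW (std D) a b).2.1 * (headW (std D) r b).2.1) := by
  have hD := hC.toGood
  simp only [stepOK, headW, comK, Bool.and_eq_true, Bool.not_eq_true', std_negf, commW_std,
    List.isEmpty_iff, zEq_iff, ← Bool.not_eq_true, Nat.beq_eq] at h ⊢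
  obtain ⟨c₁, e₁⟩ := List.length_eq_one_iff.1 h.1.1.1.1.1.1.1.1.1.1.1.1.1.2
  obtain ⟨c₂, e₂⟩ := List.length_eq_one_iff.1 h.1.1.1.1.1.1.1.1.1.1.1.2
  obtain ⟨s₁, z₁, i₁, j₁⟩ := c₁
  obtain ⟨w, z₂, i₂, j₂⟩ := c₂
  simp only [e₁, e₂, List.headD_cons] at h ⊢
  obtain ⟨⟨⟨⟨⟨⟨⟨⟨⟨⟨⟨⟨⟨⟨⟨⟨⟨hba, hbna⟩, hbr⟩, hbnr⟩, -⟩, rfl⟩, -⟩, hz₁⟩, hz₂⟩, rfl⟩, rfl⟩, rfl⟩,
    rfl⟩, hrs⟩, hra⟩, haw⟩, hws⟩, hsep⟩ := h
  have hw : w < D.nroots := (hD.commTerms_coef hr hb (c := (w, z₂, 1, 1)) (by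
    show _ ∈ D.commTerms r b
    rw [e₂]; exact List.mem_cons_self ..)).1
  exact ⟨hw, bracket_step hC E hr hs ha hb hw hba hbna hbr hbnr
    (commute_xg hC hr hs (Or.inr ⟨hrs.1.2, hrs.2⟩)) (commute_xg hC hr ha (Or.inr ⟨hra.1.2, hra.2⟩))
    (commute_xg hC ha hw (Or.inr ⟨haw.1.2, haw.2⟩)) (Int.eq_one_or_neg_one_of_mul_eq_one hz₁)
    (Int.eq_one_or_neg_one_of_mul_eq_one hz₂) e₁ e₂
    (commute_of_sep hw hs (commute_xg hC hw hs (Or.inr ⟨hws.1.2, hws.2⟩)) hD
      (sep_of_sepM (m := 2) hF hD E hsep))⟩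

theorem commute_of_cycK (hC : CommGood D) (E : CExt D F Γ) [Fintype F] (hF : Fintype.card F = 3)
    {r s : ℕ} (hr : r < D.nroots) (hs : s < D.nroots)
    (hG : ∀ u v, Commute (xg D F r u) (xg D F s v))
    (h : cycK D (std D) r s = true) (u v : F) : Commute (E.ℓ r u) (E.ℓ s v) := by
  have hD := hC.toGood
  obtain ⟨h3, hcases⟩ := three_cases hF
  refine commute_of_one E hD hcases hr hs ?_ u v
  simp only [cycK, kanyUpTo_iff, forceN_eq, Bool.and_eq_true, Bool.or_eq_true, zEq_iff,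
    Nat.beq_eq] at h
  obtain ⟨a, ha, b, hb, hst, a', ha', b', hb', hst', hh⟩ := h
  obtain ⟨hw, e⟩ := bracket_stepOK hC E hF hr hs ha hb hst
  obtain ⟨-, e'⟩ := bracket_stepOK hC E hF ha hw ha' hb' hst'
  rw [e', ← zpow_mul, mul_comm] at e
  have hc : ⁅E.ℓ r 1, E.ℓ s 1⁆ = ⁅E.ℓ r 1, E.ℓ s 1⁆⁻¹ := by
    rcases hh with ⟨⟨rfl, hh2⟩, hz⟩ | ⟨⟨rfl, hh2⟩, hz⟩
    · rw [hz, zpow_neg_one, hh2] at e
      exact e
    · rw [hz, zpow_one, hh2] at e
      rw [commutatorElement_inv]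
      exact e
  rw [← commutatorElement_eq_one_iff_commute]
  set c := ⁅E.ℓ r 1, E.ℓ s 1⁆
  have h2 : c * c = 1 := mul_eq_one_iff_eq_inv.2 hc
  have h3' := bracket_cube E hD h3 hr hs hG
  rwa [pow_three, h2, mul_one] at h3'

/-- every root is moved; pairs are separated or commute by a cycle of steps -/
noncomputable def threeK (D : ChevalleyDatum) (A : Acc) : Bool :=
  kallUpTo D.nroots fun r => forceN r fun r =>
    scalM D 2 r && kallUpTo D.nroots fun s => forceN s fun s =>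
      Nat.beq s r || Nat.beq s (A.negf r) ||
        (pairK D A r s && (sepM D 2 r s || ((commW A r s).isEmpty && cycK D A r s)))

/-- Over the field with three elements there are lifts with all relations. -/
theorem exists_pre_of_threeK [Fintype F] (hF : Fintype.card F = 3) (hS : DOK D) (hC : CommGood D)
    (h : threeK D (std D) = true) (E : CExt D F Γ) : ∃ R : Pre D F Γ, R.π = E.π ∧ R.AllRel := by
  have hD := hS.good
  simp only [threeK, kallUpTo_iff, forceN_eq, Bool.and_eq_true, Bool.or_eq_true, List.isEmpty_iff,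
    std_negf, commW_std, Nat.beq_eq] at h
  have hscal : ∀ r < D.nroots, Scal E r := fun r hr => scal_of_scalM (m := 2) hF hD E (h r hr).1
  have hcomm : ∀ r < D.nroots, ∀ s < D.nroots,
      (s = r ∨ (s ≠ D.neg r ∧ D.commTerms r s = [])) → ∀ u v, Commute (E.ℓ r u) (E.ℓ s v) := by
    intro r hr s hs hrs u v
    have hG := commute_xg (F := F) hC hr hs hrs
    by_cases h1 : s = r
    · subst h1
      exact commute_of_one E hD (three_cases hF).2 hs hs (Commute.refl _) u v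
    · obtain ⟨h2, -⟩ := hrs.resolve_left h1
      obtain ⟨-, hsw⟩ := ((h r hr).2 s hs).resolve_left fun e => e.elim h1 h2
      rcases hsw with hsw | ⟨-, hcy⟩
      · exact commute_of_sep hr hs hG hD (sep_of_sepM (m := 2) hF hD E hsw) u v
      · exact commute_of_cycK hC E hF hr hs hG hcy u v
  refine ⟨canPre E hS hscal hcomm, rfl, canPre_allRel E hS hC hscal hcomm
    (fun r hr s hs h1 h2 he => ?_)
    (fun r hr s hs h1 h2 => (((h r hr).2 s hs).resolve_left fun e => e.elim h1 h2).1)⟩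
  obtain ⟨-, hsw⟩ := ((h r hr).2 s hs).resolve_left fun e => e.elim h1 h2
  exact sep_of_sepM (m := 2) hF hD E (hsw.resolve_right fun h' => he h'.1)

end Cfsg.Agent.KnownSimple.Steinberg.Gen
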