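import Cfsg.Agent.KnownSimple.Steinberg.Gen.Witness
import Cfsg.Agent.KnownSimple.Steinberg.Gen.Three

/-!
Canonical lifts when some roots are fixed by the torus: over the field with three elements such a root
is lifted by the bracket of two moved roots. Over the field with four elements only witnesses are needed
(helper53).
-/

set_option autoImplicit false

namespace Cfsg.Agent.KnownSimple.Steinberg.Gen

open Cfsg.Lie Cfsg.Agent.ChevCore Cfsg.Agent.ChevGroup
open scoped commutatorElement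

variable {D : ChevalleyDatum} {F : Type*} [Field F] {Γ : Type*} [Group Γ]

/-- all roots moved, commuting pairs by witnesses, the other pairs separated -/
noncomputable def witSmallK (D : ChevalleyDatum) (A : Acc) (m p : ℕ) : Bool :=
  commK D A m p false && kallUpTo D.nroots fun r => forceN r fun r =>
    scalM D m r && kallUpTo D.nroots fun s => forceN s fun s =>
      Nat.beq s r || Nat.beq s (A.negf r) ||
        (pairK D A r s && ((commW A r s).isEmpty || sepM D m r s))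

theorem exists_pre_of_witSmallK [Fintype F] {m p : ℕ} (hm : Fintype.card F = m + 1)
    (hp : ∀ z : ℤ, z % (p : ℤ) ≠ 0 → (z : F) ≠ 0) (hS : DOK D) (hC : CommGood D)
    (h : witSmallK D (std D) m p = true) (E : CExt D F Γ) :
    ∃ R : Pre D F Γ, R.π = E.π ∧ R.AllRel := by
  have hD := hS.good
  simp only [witSmallK, kallUpTo_iff, forceN_eq, Bool.and_eq_true, Bool.or_eq_true,
    List.isEmpty_iff, std_negf, commW_std, Nat.beq_eq] at h
  have hscal : ∀ r < D.nroots, Scal E r := fun r hr => scal_of_scalM hm hD E (h.2 r hr).1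
  have hcomm := comm_of_commK hm hC hp E (fun e => Bool.noConfusion e) h.1
  exact ⟨canPre E hS hscal hcomm, rfl, canPre_allRel E hS hC hscal hcomm
    (fun r hr s hs h1 h2 he => sep_of_sepM hm hD E
      ((((h.2 r hr).2 s hs).resolve_left fun e => e.elim h1 h2).2.resolve_left he))
    (fun r hr s hs h1 h2 => (((h.2 r hr).2 s hs).resolve_left fun e => e.elim h1 h2).1)⟩

theorem xg_inj (hS : DOK D) {k : ℕ} (hk : k < D.nroots) {t u : F}
    (h : xg D F k t = xg D F k u) : t = u := by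
  refine sub_eq_zero.1 (eq_zero_of_keep (T := []) hS hk (by simp) ?_)
  rw [sub_eq_add_neg, hS.good.xg_add, h, ← hS.good.xg_add, add_neg_cancel, hS.good.xg_zero]
  exact keep_one []

/-- `y` lifts `x_r` additively and equivariantly -/
def IsLift (E : CExt D F Γ) (r : ℕ) (y : F → Γ) : Prop :=
  (∀ t, E.π (y t) = xg D F r t) ∧ (∀ t u, y (t + u) = y t * y u) ∧
    ∀ g χ, IsTor E g χ → ∀ t, g * y t * g⁻¹ = y (χ r * t)

theorem exists_lift_of_scal (E : CExt D F Γ) (hD : Good D) {r : ℕ} (hr : r < D.nroots)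
    (hsc : Scal E r) (hself : ∀ u v, Commute (E.ℓ r u) (E.ℓ r v)) : ∃ y, IsLift E r y := by
  obtain ⟨g, χ, hg, h1⟩ := hsc
  have hne : χ r - 1 ≠ 0 := sub_ne_zero.2 h1
  have hπ : ∀ t, E.π ⁅g, E.ℓ r (t / (χ r - 1))⁆ = xg D F r t := fun t => by
    rw [map_commutatorElement, commutatorElement_def, E.π_ℓ r hr, hg.conj r hr, hD.xg_inv,
      ← hD.xg_add]
    congr 1
    field_simp
    ring
  refine ⟨_, hπ, fun t u => ?_, fun h ψ hh t => ?_⟩
  · set c := χ r - 1
    rw [E.comm_congr (v' := g) (w' := E.ℓ r (t / c) * E.ℓ r (u / c)) rfl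
      (by rw [map_mul, E.π_ℓ r hr, E.π_ℓ r hr, E.π_ℓ r hr, ← hD.xg_add, add_div])]
    have hc : Commute (E.ℓ r (t / c)) ⁅g, E.ℓ r (u / c)⁆ :=
      E.commute_congr rfl (by rw [hπ, E.π_ℓ r hr]) (hself (t / c) u)
    calc ⁅g, E.ℓ r (t / c) * E.ℓ r (u / c)⁆
        = ⁅g, E.ℓ r (t / c)⁆ * (E.ℓ r (t / c) * ⁅g, E.ℓ r (u / c)⁆ * (E.ℓ r (t / c))⁻¹) := by
          simp only [commutatorElement_def]; group
      _ = _ := by rw [hc.eq, mul_inv_cancel_right]
  · rw [← MulAut.conj_apply, map_commutatorElement, MulAut.conj_apply, MulAut.conj_apply]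
    exact E.comm_congr (hh.commute hg) (by rw [hh.conj_ℓ hr, mul_div_assoc])

theorem exists_lift_of_bracket (hS : DOK D) (hC : CommGood D) (E : CExt D F Γ)
    (hF : ∀ x : F, x = 0 ∨ x = 1 ∨ x = -1) {a b r : ℕ} (ha : a < D.nroots) (hb : b < D.nroots)
    (hr : r < D.nroots) (hba : b ≠ a) (hbna : b ≠ D.neg a) {z : ℤ}
    (h : D.commTerms a b = [(r, z, 1, 1)]) (hz : (z : F) ≠ 0)
    (hca : ∀ u v, Commute (E.ℓ a u) (E.ℓ r v)) (hcb : ∀ u v, Commute (E.ℓ b u) (E.ℓ r v)) :
    ∃ y, IsLift E r y ∧ ∀ t u, ⁅E.ℓ a t, E.ℓ b u⁆ = y (z * t * u) := by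
  have hD := hC.toGood
  let B : F → F → Γ := fun t u => ⁅E.ℓ a t, E.ℓ b u⁆
  have hπ : ∀ t u, E.π (B t u) = xg D F r (z * t * u) :=
    π_bracket_single hC E ha hb hba hbna h
  have hmid : ∀ t u, E.π (B t u) = E.π (E.ℓ r (z * t * u)) := fun t u => by rw [hπ, E.π_ℓ r hr]
  have hl : ∀ t t' u, B (t + t') u = B t' u * B t u := by
    intro t t' u
    show ⁅_, _⁆ = _
    rw [E.comm_congr (v' := E.ℓ a t * E.ℓ a t') (w' := E.ℓ b u)
      (by rw [map_mul, E.π_ℓ a ha, E.π_ℓ a ha, E.π_ℓ a ha, hD.xg_add]) rfl,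
      show ⁅E.ℓ a t * E.ℓ a t', E.ℓ b u⁆ = E.ℓ a t * B t' u * (E.ℓ a t)⁻¹ * B t u by
        simp only [B, commutatorElement_def]; group,
      (E.commute_congr (v := E.ℓ a t) rfl (hmid t' u) (hca _ _)).eq, mul_inv_cancel_right]
  have hrr : ∀ t u u', B t (u + u') = B t u * B t u' := by
    intro t u u'
    show ⁅_, _⁆ = _
    rw [E.comm_congr (v' := E.ℓ a t) (w' := E.ℓ b u * E.ℓ b u') rfl
      (by rw [map_mul, E.π_ℓ b hb, E.π_ℓ b hb, E.π_ℓ b hb, hD.xg_add]),
      show ⁅E.ℓ a t, E.ℓ b u * E.ℓ b u'⁆ = B t u * (E.ℓ b u * B t u' * (E.ℓ b u)⁻¹) by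
        simp only [B, commutatorElement_def]; group,
      (E.commute_congr (v := E.ℓ b u) rfl (hmid t u') (hcb _ _)).eq, mul_inv_cancel_right]
  have hmul : ∀ t u, B t u = B (z * t * u / z) 1 := by
    intro t u
    have h0 : ∀ v, B v 0 = 1 := fun v => left_eq_mul.1 (by rw [← hrr, add_zero] : B v 0 = B v 0 * B v 0)
    have h0' : ∀ v, B 0 v = 1 := fun v => left_eq_mul.1 (by rw [← hl, add_zero] : B 0 v = B 0 v * B 0 v)
    rw [show (z : F) * t * u / z = t * u by field_simp]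
    rcases hF u with rfl | rfl | rfl
    · rw [mul_zero, h0, h0']
    · rw [mul_one]
    · have e1 : B t (-1) * B t 1 = 1 := by rw [← hrr, neg_add_cancel, h0]
      have e2 : B (-t) 1 * B t 1 = 1 := by rw [← hl, add_neg_cancel, h0']
      rw [mul_neg_one]
      exact mul_right_cancel (e1.trans e2.symm)
  refine ⟨fun v => B (v / z) 1, ⟨fun t => ?_, fun t u => ?_, fun g χ hg t => ?_⟩, hmul⟩
  · rw [hπ, mul_one, mul_div_cancel₀ _ hz]
  · show B ((t + u) / z) 1 = _
    rw [add_comm t u, add_div, hl]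
  · have e : g * B (t / z) 1 * g⁻¹ = B (χ a * (t / z)) (χ b * 1) := by
      rw [← MulAut.conj_apply, map_commutatorElement, MulAut.conj_apply, MulAut.conj_apply]
      exact E.comm_congr (hg.conj_ℓ ha _) (hg.conj_ℓ hb _)
    show g * B (t / z) 1 * g⁻¹ = B (χ r * t / z) 1
    have hp : E.π (g * B (t / z) 1 * g⁻¹) = xg D F r (χ r * t) := by
      rw [map_mul, map_mul, map_inv, hπ, mul_one, mul_div_cancel₀ _ hz, hg.conj r hr]
    rw [e, hπ] at hp
    rw [e, hmul, xg_inj hS hr hp]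

/-- the root `r` is moved, or is the single root of the bracket of `pk r` -/
noncomputable def brkK (D : ChevalleyDatum) (A : Acc) (pk : ℕ → ℕ × ℕ) : Bool :=
  commK D A 2 3 true && kallUpTo D.nroots fun r => forceN r fun r =>
    (scalM D 2 r || forceN (pk r).1 fun a => forceN (pk r).2 fun b =>
      Nat.blt a D.nroots && Nat.blt b D.nroots && !(Nat.beq b a) && !(Nat.beq b (A.negf a)) &&
        Nat.beq (commW A a b).length 1 && Nat.beq (headW A a b).1 r &&
        !(zEq ((headW A a b).2.1 % 3) 0) && Nat.beq (headW A a b).2.2.1 1 &&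
        Nat.beq (headW A a b).2.2.2 1 && fixK A a r && fixK A b r) &&
    kallUpTo D.nroots fun s => forceN s fun s =>
      Nat.beq s r || Nat.beq s (A.negf r) ||
        (pairK D A r s && ((commW A r s).isEmpty || sepM D 2 r s ||
          (Nat.beq (commW A r s).length 1 && forceN (headW A r s).1 fun c => !(scalM D 2 c) &&
            ((Nat.beq (pk c).1 s && Nat.beq (pk c).2 r) ||
              (Nat.beq (pk c).1 r && Nat.beq (pk c).2 s)))))

/-- Over the field with three elements there are lifts with all relations. -/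
theorem exists_pre_of_brkK [Fintype F] (hF : Fintype.card F = 3) (hS : DOK D) (hC : CommGood D)
    {pk : ℕ → ℕ × ℕ} (h : brkK D (std D) pk = true) (E : CExt D F Γ) :
    ∃ R : Pre D F Γ, R.π = E.π ∧ R.AllRel := by
  have hD := hS.good
  obtain ⟨h3, hcases⟩ := three_cases hF
  have hp : ∀ z : ℤ, z % 3 ≠ 0 → (z : F) ≠ 0 := by
    intro z hz h0
    rcases (by omega : z % 3 = 1 ∨ z % 3 = 2) with e | e <;>
      rw [← Int.emod_add_mul_ediv z 3, e] at h0 <;> push_cast at h0 <;>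
      rw [h3, zero_mul, add_zero] at h0
    · exact one_ne_zero h0
    · exact one_ne_zero (by linear_combination h3 - h0 : (1 : F) = 0)
  simp only [brkK, kallUpTo_iff, forceN_eq, Bool.and_eq_true, Bool.or_eq_true, List.isEmpty_iff,
    std_negf, commW_std, headW, Bool.not_eq_true', ← Bool.not_eq_true, zEq_iff, Nat.beq_eq,
    Nat.blt_eq, fixK_iff] at h
  have hcomm := comm_of_commK (m := 2) hF hC hp E
    (fun _ r hr u v => commute_of_one E hD hcases hr hr (Commute.refl _) u v) h.1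
  have hex : ∀ r, ∃ y : F → Γ, r < D.nroots → IsLift E r y ∧ (¬ scalM D 2 r = true →
      ∀ t u, ∃ v, ⁅E.ℓ (pk r).1 t, E.ℓ (pk r).2 u⁆ = y v) := by
    intro r
    by_cases hr : r < D.nroots
    swap
    · exact ⟨fun _ => 1, fun e => absurd e hr⟩
    by_cases hs : scalM D 2 r = true
    · obtain ⟨y, hy⟩ := exists_lift_of_scal E hD hr (scal_of_scalM (m := 2) hF hD E hs)
        (hcomm r hr r hr (Or.inl rfl))
      exact ⟨y, fun _ => ⟨hy, fun e => absurd hs e⟩⟩
    · obtain ⟨⟨⟨⟨⟨⟨⟨⟨⟨⟨ha, hb⟩, hba⟩, hbna⟩, hlen⟩, hc1⟩, hz⟩, hi⟩, hj⟩, hfa⟩, hfb⟩ :=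
        (h.2 r hr).1.resolve_left hs
      obtain ⟨⟨c, z, i, j⟩, e⟩ := List.length_eq_one_iff.1 hlen
      simp only [e, List.headD_cons] at hc1 hz hi hj
      subst hc1 hi hj
      obtain ⟨y, hy, hy'⟩ := exists_lift_of_bracket hS hC E hcases ha hb hr hba hbna e (hp z hz)
        (hcomm _ ha _ hr hfa) (hcomm _ hb _ hr hfb)
      exact ⟨y, fun _ => ⟨hy, fun _ t u => ⟨_, hy' t u⟩⟩⟩
  choose y hy using hex
  let R : Pre D F Γ := ⟨E.π, y, fun r hr => (hy r hr).1.1, fun r hr => (hy r hr).1.2.1⟩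
  refine ⟨R, rfl, allRel_of_equivariant E hS hC hcomm R rfl
    (fun g χ hg v hv a => (hy v hv).1.2.2 g χ hg a) (fun r hr s hs h1 h2 he => ?_)
    (fun r hr s hs h1 h2 => (((h.2 r hr).2 s hs).resolve_left fun e => e.elim h1 h2).1)⟩
  rcases (((h.2 r hr).2 s hs).resolve_left fun e => e.elim h1 h2).2 with (he' | hsep) | ⟨hlen, hns, hpk⟩
  · exact absurd he' he
  · exact Or.inl (Or.inl (sep_of_sepM (m := 2) hF hD E hsep))
  refine Or.inr fun t u => ?_
  obtain ⟨⟨c, z, i, j⟩, e⟩ := List.length_eq_one_iff.1 hlen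
  simp only [e, List.headD_cons] at hns hpk
  have hc : c < D.nroots := (hD.commTerms_coef hr hs (c := (c, z, i, j)) (by
    show _ ∈ D.commTerms r s
    rw [e]; exact List.mem_cons_self ..)).1
  obtain ⟨⟨hπc, hadd, -⟩, hbr⟩ := hy c hc
  have hg := hC.xg_comm (F := F) hr hs h1 h2 (-t) (-u)
  rw [mul_assoc] at hg
  have hπ : E.π ⁅R.y s u, R.y r t⁆ = wordG D F (D.commWord F r s (-t) (-u)) := by
    rw [map_commutatorElement, show E.π (R.y s u) = _ from R.π_y s hs u,
      show E.π (R.y r t) = _ from R.π_y r hr t, commutatorElement_def, hD.xg_inv, hD.xg_inv,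
      mul_assoc _ (xg D F s (-u)), hg]
    rw [← mul_assoc (xg D F r (-t)), ← hD.xg_inv r t, ← hD.xg_inv s u]
    group
  obtain ⟨v, hv⟩ : ∃ v, ⁅R.y s u, R.y r t⁆ = y c v := by
    rw [E.comm_congr (v := R.y s u) (v' := E.ℓ s u) (w' := E.ℓ r t)
      (by rw [E.π_ℓ s hs]; exact R.π_y s hs u) (by rw [E.π_ℓ r hr]; exact R.π_y r hr t)]
    rcases hpk with ⟨e1, e2⟩ | ⟨e1, e2⟩
    · have := hbr hns u t
      rwa [e1, e2] at this
    · obtain ⟨v, hv⟩ := hbr hns t u
      rw [e1, e2] at hv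
      refine ⟨-v, ?_⟩
      rw [← commutatorElement_inv, hv]
      refine (eq_inv_of_mul_eq_one_left ?_).symm
      rw [← hadd, neg_add_cancel]
      exact left_eq_mul.1 (by rw [← hadd, add_zero] : y c 0 = y c 0 * y c 0)
  rw [ChevalleyDatum.commWord, e] at hπ ⊢
  simp only [wordG, Pre.word, List.map_cons, List.map_nil, List.prod_cons, List.prod_nil,
    mul_one] at hπ ⊢
  rw [hv, hπc] at hπ
  rw [hv]
  exact congrArg (y c) (xg_inj hS hc hπ)

end Cfsg.Agent.KnownSimple.Steinberg.Gen
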