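import Cfsg.Agent.KnownSimple.Steinberg.Gen.ConjTab
import Cfsg.Agent.Lib.ChevCore.CertB2Table
import Cfsg.Agent.Lib.ChevCore.PackedB2

/-!
The conjugation certificates of type B2 (helper53).
-/

set_option autoImplicit false

namespace Cfsg.Agent.KnownSimple.Steinberg.Gen

open Cfsg.Lie Cfsg.Agent.ChevCore

/-- lists of roots -/
def conjTabB2 : List (List (List ℕ)) :=
  [[[0, 1, 3], [0, 1, 3], [], [0, 1, 3], [4, 6, 7], [], [4, 6, 7], [4, 6, 7]],
   [[0], [1, 2, 0], [1, 2, 0], [], [], [5, 6, 7], [5, 6, 7], [7]]]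

/-- decompositions -/
def decTabB2 : List ((ℕ × ℕ × List ℕ) × (ℕ × ℕ × List ℕ)) :=
  [((1, 7, [4, 1, 2, 0]), (0, 6, [6, 3, 5, 7])),
   ((0, 6, [5, 0, 1, 3]), (0, 5, [6, 0, 2, 4]))]

theorem conjCertB2 : ConjCert chevB2 :=
  conjCert_of_tab chkLinkB2 (show chkAll chevB2 (fast chevB2 packedB2) conjTabB2 decTabB2 = true by
    decide +kernel)

end Cfsg.Agent.KnownSimple.Steinberg.Gen
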