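import Cfsg.Agent.KnownSimple.Steinberg.Gen.ConjTab
import Cfsg.Agent.Lib.ChevCore.CertD4Table
import Cfsg.Agent.Lib.ChevCore.PackedD4

/-!
The conjugation certificates of type D4 (helper53).
-/

set_option autoImplicit false

namespace Cfsg.Agent.KnownSimple.Steinberg.Gen

open Cfsg.Lie Cfsg.Agent.ChevCore

/-- lists of roots -/
def conjTabD4 : List (List (List ℕ)) :=
  [[[0], [1, 6], [2, 7], [3, 8], [4, 9], [], [1, 6], [2, 7], [3, 8], [4, 9], [10], [11], [12], [13], [14, 19], [15, 20], [16, 21], [17, 22], [], [14, 19], [15, 20], [16, 21], [17, 22], [23]],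
   [[0, 1], [0, 1], [2], [3], [4, 5], [4, 5], [6], [7, 10], [8, 11], [], [7, 10], [8, 11], [12, 15], [13, 16], [], [12, 15], [13, 16], [17], [18, 19], [18, 19], [20], [21], [22, 23], [22, 23]],
   [[0], [1, 3], [2, 4], [1, 3], [2, 4], [5], [6, 8], [7, 9], [6, 8], [7, 9], [], [11], [12], [], [14, 16], [15, 17], [14, 16], [15, 17], [18], [19, 21], [20, 22], [19, 21], [20, 22], [23]],
   [[0], [1, 2], [1, 2], [3, 4], [3, 4], [5], [6, 7], [6, 7], [8, 9], [8, 9], [10], [], [], [13], [14, 15], [14, 15], [16, 17], [16, 17], [18], [19, 20], [19, 20], [21, 22], [21, 22], [23]]]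

/-- decompositions -/
def decTabD4 : List ((ℕ × ℕ × List ℕ) × (ℕ × ℕ × List ℕ)) :=
  [((6, 22, [17, 1, 5]), (1, 17, [22, 6, 18])),
   ((1, 23, [22, 0, 9]), (0, 22, [23, 1, 14])),
   ((3, 22, [20, 1, 10]), (1, 20, [22, 3, 13])),
   ((2, 22, [21, 1, 11]), (1, 21, [22, 2, 12]))]

theorem conjCertD4 : ConjCert chevD4 :=
  conjCert_of_tab chkLinkD4 (show chkAll chevD4 (fast chevD4 packedD4) conjTabD4 decTabD4 = true by
    decide +kernel)

end Cfsg.Agent.KnownSimple.Steinberg.Gen
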