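import Cfsg.Agent.KnownSimple.Steinberg.Gen.ConjTab
import Cfsg.Agent.Lib.ChevCore.CertE6Table
import Cfsg.Agent.Lib.ChevCore.PackedE6

/-!
The conjugation certificates of type E6 (helper53).
-/

set_option autoImplicit false

namespace Cfsg.Agent.KnownSimple.Steinberg.Gen

open Cfsg.Lie Cfsg.Agent.ChevCore

/-- lists of roots -/
def conjTabE6 : List (List (List ℕ)) :=
  [[[0], [1], [2], [3], [4], [5, 16], [6, 17], [7, 18], [8, 19], [9, 20], [10, 21], [11, 26], [12, 27], [13, 28], [14, 29], [], [5, 16], [6, 17], [7, 18], [8, 19], [9, 20], [10, 21], [22], [23], [24], [25], [11, 26], [12, 27], [13, 28], [14, 29], [30], [31], [32], [33], [34], [35], [36], [37], [38], [39], [40], [41], [42, 57], [43, 58], [44, 59], [45, 60], [46], [47], [48], [49], [50, 61], [51, 62], [52, 63], [53, 64], [54, 65], [55, 66], [], [42, 57], [43, 58], [44, 59], [45, 60], [50, 61], [51, 62], [52, 63], [53, 64], [54, 65], [55, 66], [67], [68], [69], [70], [71]],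
   [[0, 1], [0, 1], [2], [3], [4], [5], [6], [7], [8, 11], [9, 12], [10, 13], [8, 11], [9, 12], [10, 13], [14], [15], [16], [17], [18], [19, 26], [20, 27], [21, 28], [22, 30], [23, 31], [24, 32], [], [19, 26], [20, 27], [21, 28], [29], [22, 30], [23, 31], [24, 32], [33], [34], [35], [36], [37], [38], [39, 47], [40, 48], [41, 49], [42], [43, 50], [44, 51], [45, 52], [], [39, 47], [40, 48], [41, 49], [43, 50], [44, 51], [45, 52], [53], [54], [55], [56], [57], [58, 61], [59, 62], [60, 63], [58, 61], [59, 62], [60, 63], [64], [65], [66], [67], [68], [69], [70, 71], [70, 71]],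
   [[0], [1], [2, 5], [3, 6], [4, 7], [2, 5], [3, 6], [4, 7], [8], [9], [10], [11], [12], [13], [14, 15], [14, 15], [16], [17], [18], [19, 22], [20, 23], [21, 24], [19, 22], [20, 23], [21, 24], [25], [26, 30], [27, 31], [28, 32], [], [26, 30], [27, 31], [28, 32], [33], [34], [35], [36], [37], [38], [39, 43], [40, 44], [41, 45], [], [39, 43], [40, 44], [41, 45], [46], [47, 50], [48, 51], [49, 52], [47, 50], [48, 51], [49, 52], [53], [54], [55], [56, 57], [56, 57], [58], [59], [60], [61], [62], [63], [64, 67], [65, 68], [66, 69], [64, 67], [65, 68], [66, 69], [70], [71]],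
   [[0], [1, 2], [1, 2], [3], [4], [5], [6, 8], [7, 9], [6, 8], [7, 9], [10], [11], [12], [13, 14], [13, 14], [15], [16], [17, 19], [18, 20], [17, 19], [18, 20], [21], [22], [23], [24, 25], [24, 25], [26], [27], [28, 29], [28, 29], [30, 33], [31, 34], [], [30, 33], [31, 34], [35], [36], [37, 40], [38, 41], [], [37, 40], [38, 41], [42, 43], [42, 43], [44], [45], [46, 47], [46, 47], [48], [49], [50], [51, 53], [52, 54], [51, 53], [52, 54], [55], [56], [57, 58], [57, 58], [59], [60], [61], [62, 64], [63, 65], [62, 64], [63, 65], [66], [67], [68], [69, 70], [69, 70], [71]],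
   [[0], [1], [2, 3], [2, 3], [4], [5, 6], [5, 6], [7], [8], [9, 10], [9, 10], [11], [12, 13], [12, 13], [14], [15], [16, 17], [16, 17], [18], [19], [20, 21], [20, 21], [22], [23, 24], [23, 24], [25], [26], [27, 28], [27, 28], [29], [30], [31, 32], [31, 32], [33, 35], [], [33, 35], [36, 38], [], [36, 38], [39, 40], [39, 40], [41], [42], [43, 44], [43, 44], [45], [46], [47, 48], [47, 48], [49], [50, 51], [50, 51], [52], [53], [54, 55], [54, 55], [56], [57], [58, 59], [58, 59], [60], [61, 62], [61, 62], [63], [64], [65, 66], [65, 66], [67], [68, 69], [68, 69], [70], [71]],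
   [[0], [1], [2], [3, 4], [3, 4], [5], [6, 7], [6, 7], [8, 9], [8, 9], [10], [11, 12], [11, 12], [13], [14], [15], [16], [17, 18], [17, 18], [19, 20], [19, 20], [21], [22, 23], [22, 23], [24], [25], [26, 27], [26, 27], [28], [29], [30, 31], [30, 31], [32], [33, 34], [33, 34], [], [], [37, 38], [37, 38], [39], [40, 41], [40, 41], [42], [43], [44, 45], [44, 45], [46], [47], [48, 49], [48, 49], [50], [51, 52], [51, 52], [53, 54], [53, 54], [55], [56], [57], [58], [59, 60], [59, 60], [61], [62, 63], [62, 63], [64, 65], [64, 65], [66], [67, 68], [67, 68], [69], [70], [71]]]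

/-- decompositions -/
def decTabE6 : List ((ℕ × ℕ × List ℕ) × (ℕ × ℕ × List ℕ)) :=
  [((16, 66, [55, 5, 15]), (5, 55, [66, 16, 56])),
   ((1, 71, [70, 0, 25]), (0, 70, [71, 1, 46])),
   ((5, 69, [66, 2, 29]), (2, 66, [69, 5, 42])),
   ((2, 70, [69, 1, 32]), (1, 69, [70, 2, 39])),
   ((3, 69, [68, 2, 34]), (2, 68, [69, 3, 37])),
   ((4, 68, [67, 3, 35]), (3, 67, [68, 4, 36]))]

theorem conjCertE6 : ConjCert chevE6 :=
  conjCert_of_tab chkLinkE6 (show chkAll chevE6 (fast chevE6 packedE6) conjTabE6 decTabE6 = true by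
    decide +kernel)

end Cfsg.Agent.KnownSimple.Steinberg.Gen
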