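import Cfsg.Agent.KnownSimple.Steinberg.Gen.ConjTab
import Cfsg.Agent.Lib.ChevCore.CertE7Table
import Cfsg.Agent.Lib.ChevCore.PackedE7

/-!
The conjugation certificates of type E7 (helper53).
-/

set_option autoImplicit false

namespace Cfsg.Agent.KnownSimple.Steinberg.Gen

open Cfsg.Lie Cfsg.Agent.ChevCore

/-- lists of roots -/
def conjTabE7 : List (List (List ℕ)) :=
  [[[0, 1], [0, 1], [2], [3], [4], [5], [6], [7], [8], [9], [10], [11], [12], [13], [14], [15], [16], [17, 33], [18, 34], [19, 35], [20, 36], [21, 37], [22, 38], [23, 39], [24, 40], [25, 41], [26, 42], [27, 48], [28, 49], [29, 50], [30, 51], [31, 52], [], [17, 33], [18, 34], [19, 35], [20, 36], [21, 37], [22, 38], [23, 39], [24, 40], [25, 41], [26, 42], [43], [44], [45], [46], [47], [27, 48], [28, 49], [29, 50], [30, 51], [31, 52], [53], [54], [55], [56], [57], [58], [59], [60], [61], [62], [63], [64], [65], [66], [67], [68], [69], [70], [71], [72], [73, 94], [74, 95], [75, 96], [76, 97], [77, 98], [78], [79], [80], [81], [82], [83, 99], [84, 100], [85, 101], [86, 102], [87, 103], [88, 104],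 [89, 105], [90, 106], [91, 107], [92, 108], [], [73, 94], [74, 95], [75, 96], [76, 97], [77, 98], [83, 99], [84, 100], [85, 101], [86, 102], [87, 103], [88, 104], [89, 105], [90, 106], [91, 107], [92, 108], [109], [110], [111], [112], [113], [114], [115], [116], [117], [118], [119], [120], [121], [122], [123], [124, 125], [124, 125]],
   [[0], [1], [2], [3, 7], [4, 8], [5, 9], [6, 10], [3, 7], [4, 8], [5, 9], [6, 10], [11], [12], [13], [14], [15], [16], [17], [18], [19], [20], [21], [22], [23, 27], [24, 28], [25, 29], [26, 30], [23, 27], [24, 28], [25, 29], [26, 30], [31], [32], [33], [34], [35], [36], [37], [38], [39, 48], [40, 49], [41, 50], [42, 51], [43, 53], [44, 54], [45, 55], [46, 56], [], [39, 48], [40, 49], [41, 50], [42, 51], [52], [43, 53], [44, 54], [45, 55], [46, 56], [57], [58], [59], [60], [61], [62], [63], [64], [65], [66], [67], [68], [69, 79], [70, 80], [71, 81], [72, 82], [73], [74, 83], [75, 84], [76, 85], [77, 86], [], [69, 79], [70, 80], [71, 81], [72, 82], [74, 83], [75, 84], [76, 85], [77, 86], [87], [88], [89], [90], [91], [92], [93],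 [94], [95, 99], [96, 100], [97, 101], [98, 102], [95, 99], [96, 100], [97, 101], [98, 102], [103], [104], [105], [106], [107], [108], [109], [110], [111], [112], [113], [114], [115, 119], [116, 120], [117, 121], [118, 122], [115, 119], [116, 120], [117, 121], [118, 122], [123], [124], [125]],
   [[0], [1, 2], [1, 2], [3], [4], [5], [6], [7], [8], [9], [10], [11, 17], [12, 18], [13, 19], [14, 20], [15, 21], [16, 22], [11, 17], [12, 18], [13, 19], [14, 20], [15, 21], [16, 22], [23], [24], [25], [26], [27], [28], [29], [30], [31, 32], [31, 32], [33], [34], [35], [36], [37], [38], [39, 43], [40, 44], [41, 45], [42, 46], [39, 43], [40, 44], [41, 45], [42, 46], [47], [48, 53], [49, 54], [50, 55], [51, 56], [], [48, 53], [49, 54], [50, 55], [51, 56], [57], [58], [59], [60], [61], [62], [63], [64], [65], [66], [67], [68], [69, 74], [70, 75], [71, 76], [72, 77], [], [69, 74], [70, 75], [71, 76], [72, 77], [78], [79, 83], [80, 84], [81, 85], [82, 86], [79, 83], [80, 84], [81, 85], [82, 86], [87], [88], [89], [90], [91], [92], [93, 94], [93, 94], [95], [96], [97], [98],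 [99], [100], [101], [102], [103, 109], [104, 110], [105, 111], [106, 112], [107, 113], [108, 114], [103, 109], [104, 110], [105, 111], [106, 112], [107, 113], [108, 114], [115], [116], [117], [118], [119], [120], [121], [122], [123, 124], [123, 124], [125]],
   [[0], [1], [2, 3], [2, 3], [4], [5], [6], [7], [8, 11], [9, 12], [10, 13], [8, 11], [9, 12], [10, 13], [14], [15], [16], [17], [18], [19], [20, 23], [21, 24], [22, 25], [20, 23], [21, 24], [22, 25], [26], [27], [28], [29], [30, 31], [30, 31], [32], [33], [34], [35], [36, 39], [37, 40], [38, 41], [36, 39], [37, 40], [38, 41], [42], [43], [44], [45], [46, 47], [46, 47], [48], [49], [50], [51, 52], [51, 52], [53, 57], [54, 58], [55, 59], [], [53, 57], [54, 58], [55, 59], [60], [61], [62], [63], [64], [65], [66, 70], [67, 71], [68, 72], [], [66, 70], [67, 71], [68, 72], [73, 74], [73, 74], [75], [76], [77], [78, 79], [78, 79], [80], [81], [82], [83], [84, 87], [85, 88], [86, 89], [84, 87], [85, 88], [86, 89], [90], [91], [92], [93], [94, 95], [94, 95], [96], [97], [98], [99], [100, 103], [101, 104], [102,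 105], [100, 103], [101, 104], [102, 105], [106], [107], [108], [109], [110], [111], [112, 115], [113, 116], [114, 117], [112, 115], [113, 116], [114, 117], [118], [119], [120], [121], [122, 123], [122, 123], [124], [125]],
   [[0], [1], [2], [3, 4], [3, 4], [5], [6], [7, 8], [7, 8], [9], [10], [11], [12, 14], [13, 15], [12, 14], [13, 15], [16], [17], [18, 20], [19, 21], [18, 20], [19, 21], [22], [23], [24], [25, 26], [25, 26], [27], [28], [29, 30], [29, 30], [31], [32], [33], [34, 36], [35, 37], [34, 36], [35, 37], [38], [39], [40], [41, 42], [41, 42], [43], [44], [45, 46], [45, 46], [47], [48], [49], [50, 51], [50, 51], [52], [53], [54], [55, 56], [55, 56], [57, 60], [58, 61], [], [57, 60], [58, 61], [62], [63], [64, 67], [65, 68], [], [64, 67], [65, 68], [69, 70], [69, 70], [71], [72], [73], [74, 75], [74, 75], [76], [77], [78], [79, 80], [79, 80], [81], [82], [83, 84], [83, 84], [85], [86], [87], [88, 90], [89, 91], [88, 90], [89, 91], [92], [93], [94], [95, 96], [95, 96], [97], [98], [99, 100], [99, 100], [101], [102], [103], [104, 106], [105, 107], [104,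 106], [105, 107], [108], [109], [110, 112], [111, 113], [110, 112], [111, 113], [114], [115], [116], [117, 118], [117, 118], [119], [120], [121, 122], [121, 122], [123], [124], [125]],
   [[0], [1], [2], [3], [4, 5], [4, 5], [6], [7], [8, 9], [8, 9], [10], [11, 12], [11, 12], [13], [14], [15, 16], [15, 16], [17, 18], [17, 18], [19], [20], [21, 22], [21, 22], [23], [24, 25], [24, 25], [26], [27], [28, 29], [28, 29], [30], [31], [32], [33, 34], [33, 34], [35], [36], [37, 38], [37, 38], [39], [40, 41], [40, 41], [42], [43], [44, 45], [44, 45], [46], [47], [48], [49, 50], [49, 50], [51], [52], [53], [54, 55], [54, 55], [56], [57], [58, 59], [58, 59], [60, 62], [], [60, 62], [63, 65], [], [63, 65], [66, 67], [66, 67], [68], [69], [70, 71], [70, 71], [72], [73], [74], [75, 76], [75, 76], [77], [78], [79], [80, 81], [80, 81], [82], [83], [84, 85], [84, 85], [86], [87, 88], [87, 88], [89], [90], [91, 92], [91, 92], [93], [94], [95], [96, 97], [96, 97], [98], [99], [100, 101], [100, 101], [102], [103, 104], [103, 104], [105], [106], [107, 108], [107, 108], [109, 110],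 [109, 110], [111], [112], [113, 114], [113, 114], [115], [116, 117], [116, 117], [118], [119], [120, 121], [120, 121], [122], [123], [124], [125]],
   [[0], [1], [2], [3], [4], [5, 6], [5, 6], [7], [8], [9, 10], [9, 10], [11], [12, 13], [12, 13], [14, 15], [14, 15], [16], [17], [18, 19], [18, 19], [20, 21], [20, 21], [22], [23, 24], [23, 24], [25], [26], [27, 28], [27, 28], [29], [30], [31], [32], [33], [34, 35], [34, 35], [36, 37], [36, 37], [38], [39, 40], [39, 40], [41], [42], [43, 44], [43, 44], [45], [46], [47], [48, 49], [48, 49], [50], [51], [52], [53, 54], [53, 54], [55], [56], [57, 58], [57, 58], [59], [60, 61], [60, 61], [], [], [64, 65], [64, 65], [66], [67, 68], [67, 68], [69], [70], [71, 72], [71, 72], [73], [74], [75], [76, 77], [76, 77], [78], [79], [80], [81, 82], [81, 82], [83], [84], [85, 86], [85, 86], [87], [88, 89], [88, 89], [90, 91], [90, 91], [92], [93], [94], [95], [96], [97, 98], [97, 98], [99], [100], [101, 102], [101, 102], [103], [104, 105], [104, 105], [106, 107], [106, 107], [108], [109], [110, 111], [110, 111], [112, 113], [112,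 113], [114], [115, 116], [115, 116], [117], [118], [119, 120], [119, 120], [121], [122], [123], [124], [125]]]

/-- decompositions -/
def decTabE7 : List ((ℕ × ℕ × List ℕ) × (ℕ × ℕ × List ℕ)) :=
  [((1, 125, [124, 0, 32]), (0, 124, [125, 1, 93])),
   ((7, 122, [118, 3, 47]), (3, 118, [122, 7, 78])),
   ((2, 124, [123, 1, 52]), (1, 123, [124, 2, 73])),
   ((3, 123, [122, 2, 56]), (2, 122, [123, 3, 69])),
   ((4, 122, [121, 3, 59]), (3, 121, [122, 4, 66])),
   ((5, 121, [120, 4, 61]), (4, 120, [121, 5, 64])),
   ((6, 120, [119, 5, 62]), (5, 119, [120, 6, 63]))]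

theorem conjCertE7 : ConjCert chevE7 :=
  conjCert_of_tab chkLinkE7 (show chkAll chevE7 (fast chevE7 packedE7) conjTabE7 decTabE7 = true by
    decide +kernel)

end Cfsg.Agent.KnownSimple.Steinberg.Gen
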