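import Cfsg.Agent.KnownSimple.Steinberg.Gen.ConjTab
import Cfsg.Agent.Lib.ChevCore.CertE8Table
import Cfsg.Agent.Lib.ChevCore.PackedE8

/-!
The conjugation certificates of type E8 (helper53).
-/

set_option autoImplicit false

namespace Cfsg.Agent.KnownSimple.Steinberg.Gen

open Cfsg.Lie Cfsg.Agent.ChevCore

/-- lists of roots -/
def conjTabE8 : List (List (List ℕ)) :=
  [[[0], [1], [2], [3], [4], [5], [6, 14], [7], [8, 15], [9, 16], [10, 17], [11, 18], [12, 19], [13, 20], [6, 14], [8, 15], [9, 16], [10, 17], [11, 18], [12, 19], [13, 20], [21], [22], [23], [24], [25], [26], [27], [28], [29], [30], [31], [32], [33], [34], [35], [36], [37], [38], [39], [40], [41], [42], [43], [44], [45], [46], [47], [48], [49], [50], [51], [52], [53], [54], [55], [56, 78], [57, 79], [58, 80], [59, 81], [60, 82], [61, 83], [62, 84], [63, 85], [64, 86], [65, 87], [66, 88], [67, 89], [68, 90], [69, 91], [70, 92], [71, 99], [72, 100], [73, 101], [74, 102], [75, 103], [76, 104], [], [56, 78], [57, 79], [58, 80], [59, 81], [60, 82], [61, 83], [62, 84], [63, 85], [64, 86], [65, 87], [66, 88], [67, 89], [68, 90], [69, 91], [70, 92], [93], [94], [95], [96], [97], [98], [71,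 99], [72, 100], [73, 101], [74, 102], [75, 103], [76, 104], [105], [106], [107], [108], [109], [110], [111], [112], [113], [114], [115], [116], [117], [118], [119], [120], [121], [122], [123], [124], [125], [126], [127], [128], [129], [130], [131], [132], [133], [134], [135, 163], [136, 164], [137, 165], [138, 166], [139, 167], [140, 168], [141], [142], [143], [144], [145], [146], [147, 169], [148, 170], [149, 171], [150, 172], [151, 173], [152, 174], [153, 175], [154, 176], [155, 177], [156, 178], [157, 179], [158, 180], [159, 181], [160, 182], [161, 183], [], [135, 163], [136, 164], [137, 165], [138, 166], [139, 167], [140, 168], [147, 169], [148, 170], [149, 171], [150, 172], [151, 173], [152, 174], [153, 175], [154, 176], [155, 177], [156, 178], [157, 179], [158, 180], [159, 181], [160, 182], [161, 183], [184], [185], [186], [187], [188], [189], [190], [191], [192], [193], [194], [195], [196], [197], [198], [199], [200], [201], [202], [203], [204], [205], [206], [207], [208], [209], [210], [211], [212], [213], [214], [215], [216], [217], [218], [219, 226], [220, 227], [221, 228], [222, 229], [223, 230], [224, 231], [225, 233], [219, 226], [220,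 227], [221, 228], [222, 229], [223, 230], [224, 231], [232], [225, 233], [234], [235], [236], [237], [238], [239]],
   [[0], [1], [2], [3], [4], [5, 7], [6, 8], [5, 7], [6, 8], [9], [10], [11], [12], [13], [14, 15], [14, 15], [16], [17], [18], [19], [20], [21], [22], [23], [24], [25], [26, 36], [27, 37], [28, 38], [29, 39], [30, 40], [31, 41], [32, 42], [33, 43], [34, 44], [35, 45], [26, 36], [27, 37], [28, 38], [29, 39], [30, 40], [31, 41], [32, 42], [33, 43], [34, 44], [35, 45], [46], [47], [48], [49], [50], [51], [52], [53], [54], [55], [56], [57], [58], [59], [60], [61], [62], [63], [64], [65], [66, 71], [67, 72], [68, 73], [69, 74], [70, 75], [66, 71], [67, 72], [68, 73], [69, 74], [70, 75], [76], [77], [78], [79], [80], [81], [82], [83], [84], [85], [86], [87], [88, 99], [89, 100], [90, 101], [91, 102], [92, 103], [93, 105], [94, 106], [95, 107], [96, 108], [97, 109], [], [88, 99], [89, 100], [90, 101], [91, 102], [92, 103], [104], [93, 105], [94, 106], [95, 107], [96, 108], [97, 109], [110], [111], [112], [113], [114], [115], [116], [117], [118], [119], [120], [121], [122], [123], [124], [125], [126], [127], [128], [129], [130, 142], [131,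 143], [132, 144], [133, 145], [134, 146], [135], [136, 147], [137, 148], [138, 149], [139, 150], [140, 151], [], [130, 142], [131, 143], [132, 144], [133, 145], [134, 146], [136, 147], [137, 148], [138, 149], [139, 150], [140, 151], [152], [153], [154], [155], [156], [157], [158], [159], [160], [161], [162], [163], [164, 169], [165, 170], [166, 171], [167, 172], [168, 173], [164, 169], [165, 170], [166, 171], [167, 172], [168, 173], [174], [175], [176], [177], [178], [179], [180], [181], [182], [183], [184], [185], [186], [187], [188], [189], [190], [191], [192], [193], [194, 204], [195, 205], [196, 206], [197, 207], [198, 208], [199, 209], [200, 210], [201, 211], [202, 212], [203, 213], [194, 204], [195, 205], [196, 206], [197, 207], [198, 208], [199, 209], [200, 210], [201, 211], [202, 212], [203, 213], [214], [215], [216], [217], [218], [219], [220], [221], [222], [223], [224, 225], [224, 225], [226], [227], [228], [229], [230], [231, 233], [232, 234], [231, 233], [232, 234], [235], [236], [237], [238], [239]],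
   [[0], [1], [2], [3], [4], [5, 6], [5, 6], [7, 8], [7, 8], [9], [10], [11], [12], [13], [14], [15], [16, 21], [17, 22], [18, 23], [19, 24], [20, 25], [16, 21], [17, 22], [18, 23], [19, 24], [20, 25], [26], [27], [28], [29], [30], [31], [32], [33], [34], [35], [36], [37], [38], [39], [40], [41], [42], [43], [44], [45], [46, 56], [47, 57], [48, 58], [49, 59], [50, 60], [51, 61], [52, 62], [53, 63], [54, 64], [55, 65], [46, 56], [47, 57], [48, 58], [49, 59], [50, 60], [51, 61], [52, 62], [53, 63], [54, 64], [55, 65], [66], [67], [68], [69], [70], [71], [72], [73], [74], [75], [76, 77], [76, 77], [78], [79], [80], [81], [82], [83], [84], [85], [86], [87], [88, 93], [89, 94], [90, 95], [91, 96], [92, 97], [88, 93], [89, 94], [90, 95], [91, 96], [92, 97], [98], [99, 105], [100, 106], [101, 107], [102, 108], [103, 109], [], [99, 105], [100, 106], [101, 107], [102, 108], [103, 109], [110], [111], [112], [113], [114], [115], [116], [117], [118], [119], [120], [121], [122], [123], [124], [125], [126], [127], [128], [129], [130, 136], [131, 137], [132, 138], [133, 139], [134, 140], [], [130, 136], [131, 137], [132, 138], [133, 139], [134, 140], [141], [142,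 147], [143, 148], [144, 149], [145, 150], [146, 151], [142, 147], [143, 148], [144, 149], [145, 150], [146, 151], [152], [153], [154], [155], [156], [157], [158], [159], [160], [161], [162, 163], [162, 163], [164], [165], [166], [167], [168], [169], [170], [171], [172], [173], [174, 184], [175, 185], [176, 186], [177, 187], [178, 188], [179, 189], [180, 190], [181, 191], [182, 192], [183, 193], [174, 184], [175, 185], [176, 186], [177, 187], [178, 188], [179, 189], [180, 190], [181, 191], [182, 192], [183, 193], [194], [195], [196], [197], [198], [199], [200], [201], [202], [203], [204], [205], [206], [207], [208], [209], [210], [211], [212], [213], [214, 219], [215, 220], [216, 221], [217, 222], [218, 223], [214, 219], [215, 220], [216, 221], [217, 222], [218, 223], [224], [225], [226], [227], [228], [229], [230], [231, 232], [231, 232], [233, 234], [233, 234], [235], [236], [237], [238], [239]],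
   [[0], [1], [2], [3], [4, 5], [4, 5], [6], [7], [8, 9], [8, 9], [10], [11], [12], [13], [14], [15, 16], [15, 16], [17], [18], [19], [20], [21], [22, 26], [23, 27], [24, 28], [25, 29], [22, 26], [23, 27], [24, 28], [25, 29], [30], [31], [32], [33], [34], [35], [36], [37], [38], [39], [40, 46], [41, 47], [42, 48], [43, 49], [44, 50], [45, 51], [40, 46], [41, 47], [42, 48], [43, 49], [44, 50], [45, 51], [52], [53], [54], [55], [56], [57], [58], [59], [60], [61], [62, 66], [63, 67], [64, 68], [65, 69], [62, 66], [63, 67], [64, 68], [65, 69], [70], [71], [72], [73], [74], [75, 76], [75, 76], [77], [78], [79], [80], [81], [82], [83], [84, 88], [85, 89], [86, 90], [87, 91], [84, 88], [85, 89], [86, 90], [87, 91], [92], [93], [94], [95], [96], [97, 98], [97, 98], [99], [100], [101], [102], [103, 104], [103, 104], [105, 110], [106, 111], [107, 112], [108, 113], [], [105, 110], [106, 111], [107, 112], [108, 113], [114], [115], [116], [117], [118], [119], [120], [121], [122], [123], [124], [125], [126, 131], [127, 132], [128, 133], [129, 134], [], [126, 131], [127, 132], [128, 133], [129, 134], [135, 136], [135, 136], [137], [138], [139], [140], [141, 142],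 [141, 142], [143], [144], [145], [146], [147], [148, 152], [149, 153], [150, 154], [151, 155], [148, 152], [149, 153], [150, 154], [151, 155], [156], [157], [158], [159], [160], [161], [162], [163, 164], [163, 164], [165], [166], [167], [168], [169], [170, 174], [171, 175], [172, 176], [173, 177], [170, 174], [171, 175], [172, 176], [173, 177], [178], [179], [180], [181], [182], [183], [184], [185], [186], [187], [188, 194], [189, 195], [190, 196], [191, 197], [192, 198], [193, 199], [188, 194], [189, 195], [190, 196], [191, 197], [192, 198], [193, 199], [200], [201], [202], [203], [204], [205], [206], [207], [208], [209], [210, 214], [211, 215], [212, 216], [213, 217], [210, 214], [211, 215], [212, 216], [213, 217], [218], [219], [220], [221], [222], [223, 224], [223, 224], [225], [226], [227], [228], [229], [230, 231], [230, 231], [232], [233], [234, 235], [234, 235], [236], [237], [238], [239]],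
   [[0], [1], [2], [3, 4], [3, 4], [5], [6], [7], [8], [9, 10], [9, 10], [11], [12], [13], [14], [15], [16, 17], [16, 17], [18], [19], [20], [21, 22], [21, 22], [23], [24], [25], [26], [27, 30], [28, 31], [29, 32], [27, 30], [28, 31], [29, 32], [33], [34], [35], [36], [37, 40], [38, 41], [39, 42], [37, 40], [38, 41], [39, 42], [43], [44], [45], [46], [47], [48], [49, 52], [50, 53], [51, 54], [49, 52], [50, 53], [51, 54], [55], [56], [57], [58], [59, 62], [60, 63], [61, 64], [59, 62], [60, 63], [61, 64], [65], [66], [67], [68], [69, 70], [69, 70], [71], [72], [73], [74, 75], [74, 75], [76], [77], [78], [79], [80], [81, 84], [82, 85], [83, 86], [81, 84], [82, 85], [83, 86], [87], [88], [89], [90], [91, 92], [91, 92], [93], [94], [95], [96, 97], [96, 97], [98], [99], [100], [101], [102, 103], [102, 103], [104], [105], [106], [107], [108, 109], [108, 109], [110, 114], [111, 115], [112, 116], [], [110, 114], [111, 115], [112, 116], [117], [118], [119], [120], [121], [122], [123, 127], [124, 128], [125, 129], [], [123, 127], [124, 128], [125, 129], [130, 131], [130, 131], [132], [133], [134], [135], [136, 137], [136, 137], [138], [139], [140], [141], [142,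 143], [142, 143], [144], [145], [146], [147, 148], [147, 148], [149], [150], [151], [152], [153, 156], [154, 157], [155, 158], [153, 156], [154, 157], [155, 158], [159], [160], [161], [162], [163], [164, 165], [164, 165], [166], [167], [168], [169, 170], [169, 170], [171], [172], [173], [174], [175, 178], [176, 179], [177, 180], [175, 178], [176, 179], [177, 180], [181], [182], [183], [184], [185, 188], [186, 189], [187, 190], [185, 188], [186, 189], [187, 190], [191], [192], [193], [194], [195], [196], [197, 200], [198, 201], [199, 202], [197, 200], [198, 201], [199, 202], [203], [204], [205], [206], [207, 210], [208, 211], [209, 212], [207, 210], [208, 211], [209, 212], [213], [214], [215], [216], [217, 218], [217, 218], [219], [220], [221], [222, 223], [222, 223], [224], [225], [226], [227], [228], [229, 230], [229, 230], [231], [232], [233], [234], [235, 236], [235, 236], [237], [238], [239]],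
   [[0], [1], [2, 3], [2, 3], [4], [5], [6], [7], [8], [9], [10, 11], [10, 11], [12], [13], [14], [15], [16], [17, 18], [17, 18], [19], [20], [21], [22, 23], [22, 23], [24], [25], [26, 27], [26, 27], [28], [29], [30], [31, 33], [32, 34], [31, 33], [32, 34], [35], [36, 37], [36, 37], [38], [39], [40], [41, 43], [42, 44], [41, 43], [42, 44], [45], [46], [47, 49], [48, 50], [47, 49], [48, 50], [51], [52], [53], [54, 55], [54, 55], [56], [57, 59], [58, 60], [57, 59], [58, 60], [61], [62], [63], [64, 65], [64, 65], [66], [67], [68, 69], [68, 69], [70], [71], [72], [73, 74], [73, 74], [75], [76], [77], [78], [79, 81], [80, 82], [79, 81], [80, 82], [83], [84], [85], [86, 87], [86, 87], [88], [89], [90, 91], [90, 91], [92], [93], [94], [95, 96], [95, 96], [97], [98], [99], [100], [101, 102], [101, 102], [103], [104], [105], [106], [107, 108], [107, 108], [109], [110], [111], [112, 113], [112, 113], [114, 117], [115, 118], [], [114, 117], [115, 118], [119], [120], [121, 124], [122, 125], [], [121, 124], [122, 125], [126, 127], [126, 127], [128], [129], [130], [131, 132], [131, 132], [133], [134], [135], [136], [137, 138], [137, 138], [139], [140], [141],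 [142], [143, 144], [143, 144], [145], [146], [147], [148, 149], [148, 149], [150], [151], [152, 153], [152, 153], [154], [155], [156], [157, 159], [158, 160], [157, 159], [158, 160], [161], [162], [163], [164], [165, 166], [165, 166], [167], [168], [169], [170, 171], [170, 171], [172], [173], [174, 175], [174, 175], [176], [177], [178], [179, 181], [180, 182], [179, 181], [180, 182], [183], [184, 185], [184, 185], [186], [187], [188], [189, 191], [190, 192], [189, 191], [190, 192], [193], [194], [195, 197], [196, 198], [195, 197], [196, 198], [199], [200], [201], [202, 203], [202, 203], [204], [205, 207], [206, 208], [205, 207], [206, 208], [209], [210], [211], [212, 213], [212, 213], [214], [215], [216, 217], [216, 217], [218], [219], [220], [221, 222], [221, 222], [223], [224], [225], [226], [227], [228, 229], [228, 229], [230], [231], [232], [233], [234], [235], [236, 237], [236, 237], [238], [239]],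
   [[0], [1, 2], [1, 2], [3], [4], [5], [6], [7], [8], [9], [10], [11, 12], [11, 12], [13], [14], [15], [16], [17], [18, 19], [18, 19], [20], [21], [22], [23, 24], [23, 24], [25], [26], [27, 28], [27, 28], [29], [30, 31], [30, 31], [32], [33], [34, 35], [34, 35], [36], [37, 38], [37, 38], [39], [40, 41], [40, 41], [42], [43], [44, 45], [44, 45], [46, 47], [46, 47], [48], [49], [50, 51], [50, 51], [52], [53, 54], [53, 54], [55], [56, 57], [56, 57], [58], [59], [60, 61], [60, 61], [62], [63, 64], [63, 64], [65], [66], [67, 68], [67, 68], [69], [70], [71], [72, 73], [72, 73], [74], [75], [76], [77], [78, 79], [78, 79], [80], [81], [82, 83], [82, 83], [84], [85, 86], [85, 86], [87], [88], [89, 90], [89, 90], [91], [92], [93], [94, 95], [94, 95], [96], [97], [98], [99], [100, 101], [100, 101], [102], [103], [104], [105], [106, 107], [106, 107], [108], [109], [110], [111, 112], [111, 112], [113], [114], [115, 116], [115, 116], [117, 119], [], [117, 119], [120, 122], [], [120, 122], [123, 124], [123, 124], [125], [126], [127, 128], [127, 128], [129], [130], [131], [132, 133], [132, 133], [134], [135], [136], [137], [138, 139], [138, 139], [140], [141],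 [142], [143], [144, 145], [144, 145], [146], [147], [148], [149, 150], [149, 150], [151], [152], [153, 154], [153, 154], [155], [156, 157], [156, 157], [158], [159], [160, 161], [160, 161], [162], [163], [164], [165], [166, 167], [166, 167], [168], [169], [170], [171, 172], [171, 172], [173], [174], [175, 176], [175, 176], [177], [178, 179], [178, 179], [180], [181], [182, 183], [182, 183], [184], [185, 186], [185, 186], [187], [188, 189], [188, 189], [190], [191], [192, 193], [192, 193], [194, 195], [194, 195], [196], [197], [198, 199], [198, 199], [200], [201, 202], [201, 202], [203], [204, 205], [204, 205], [206], [207], [208, 209], [208, 209], [210], [211, 212], [211, 212], [213], [214], [215, 216], [215, 216], [217], [218], [219], [220, 221], [220, 221], [222], [223], [224], [225], [226], [227, 228], [227, 228], [229], [230], [231], [232], [233], [234], [235], [236], [237, 238], [237, 238], [239]],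
   [[0, 1], [0, 1], [2], [3], [4], [5], [6], [7], [8], [9], [10], [11], [12, 13], [12, 13], [14], [15], [16], [17], [18], [19, 20], [19, 20], [21], [22], [23], [24, 25], [24, 25], [26], [27], [28, 29], [28, 29], [30], [31, 32], [31, 32], [33, 34], [33, 34], [35], [36], [37], [38, 39], [38, 39], [40], [41, 42], [41, 42], [43, 44], [43, 44], [45], [46], [47, 48], [47, 48], [49, 50], [49, 50], [51], [52, 53], [52, 53], [54], [55], [56], [57, 58], [57, 58], [59, 60], [59, 60], [61], [62, 63], [62, 63], [64], [65], [66, 67], [66, 67], [68], [69], [70], [71, 72], [71, 72], [73], [74], [75], [76], [77], [78], [79, 80], [79, 80], [81, 82], [81, 82], [83], [84, 85], [84, 85], [86], [87], [88, 89], [88, 89], [90], [91], [92], [93, 94], [93, 94], [95], [96], [97], [98], [99, 100], [99, 100], [101], [102], [103], [104], [105, 106], [105, 106], [107], [108], [109], [110, 111], [110, 111], [112], [113], [114, 115], [114, 115], [116], [117, 118], [117, 118], [], [], [121, 122], [121, 122], [123], [124, 125], [124, 125], [126], [127], [128, 129], [128, 129], [130], [131], [132], [133, 134], [133, 134], [135], [136], [137], [138], [139, 140], [139, 140], [141], [142],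 [143], [144], [145, 146], [145, 146], [147], [148], [149], [150, 151], [150, 151], [152], [153], [154, 155], [154, 155], [156], [157, 158], [157, 158], [159, 160], [159, 160], [161], [162], [163], [164], [165], [166], [167, 168], [167, 168], [169], [170], [171], [172, 173], [172, 173], [174], [175], [176, 177], [176, 177], [178], [179, 180], [179, 180], [181, 182], [181, 182], [183], [184], [185], [186, 187], [186, 187], [188], [189, 190], [189, 190], [191, 192], [191, 192], [193], [194], [195, 196], [195, 196], [197, 198], [197, 198], [199], [200, 201], [200, 201], [202], [203], [204], [205, 206], [205, 206], [207, 208], [207, 208], [209], [210, 211], [210, 211], [212], [213], [214, 215], [214, 215], [216], [217], [218], [219, 220], [219, 220], [221], [222], [223], [224], [225], [226, 227], [226, 227], [228], [229], [230], [231], [232], [233], [234], [235], [236], [237], [238, 239], [238, 239]]]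

/-- decompositions -/
def decTabE8 : List ((ℕ × ℕ × List ℕ) × (ℕ × ℕ × List ℕ)) :=
  [((14, 233, [225, 6, 77]), (6, 225, [233, 14, 162])),
   ((7, 234, [232, 5, 98]), (5, 232, [234, 7, 141])),
   ((6, 234, [233, 5, 104]), (5, 233, [234, 6, 135])),
   ((5, 235, [234, 4, 109]), (4, 234, [235, 5, 130])),
   ((4, 236, [235, 3, 113]), (3, 235, [236, 4, 126])),
   ((3, 237, [236, 2, 116]), (2, 236, [237, 3, 123])),
   ((2, 238, [237, 1, 118]), (1, 237, [238, 2, 121])),
   ((1, 239, [238, 0, 119]), (0, 238, [239, 1, 120]))]

theorem conjCertE8 : ConjCert chevE8 :=
  conjCert_of_tab chkLinkE8 (show chkAll chevE8 (fast chevE8 packedE8) conjTabE8 decTabE8 = true by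
    decide +kernel)

end Cfsg.Agent.KnownSimple.Steinberg.Gen
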