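import Cfsg.Agent.KnownSimple.Steinberg.Gen.ConjTab
import Cfsg.Agent.Lib.ChevCore.CertG2Table
import Cfsg.Agent.Lib.ChevCore.PackedG2

/-!
The conjugation certificates of type G2 (helper53).
-/

set_option autoImplicit false

namespace Cfsg.Agent.KnownSimple.Steinberg.Gen

open Cfsg.Lie Cfsg.Agent.ChevCore

/-- lists of roots -/
def conjTabG2 : List (List (List ℕ)) :=
  [[[0], [1, 2, 3, 5, 0], [1, 2, 3, 5, 0], [1, 2, 3, 5, 0], [], [1, 2, 3, 5, 0], [6, 8, 9, 10, 11], [], [6, 8, 9, 10, 11], [6, 8, 9, 10, 11], [6, 8, 9, 10, 11], [11]],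
   [[0, 1], [0, 1], [2], [3, 4, 2, 0, 1], [3, 4, 2, 0, 1], [], [], [7, 8, 9, 10, 11], [7, 8, 9, 10, 11], [9], [10, 11], [10, 11]]]

/-- decompositions -/
def decTabG2 : List ((ℕ × ℕ × List ℕ) × (ℕ × ℕ × List ℕ)) :=
  [((0, 9, [8, 0, 2, 4, 6, 1]), (0, 8, [9, 0, 3, 7, 10, 5])),
   ((1, 11, [10, 0, 5]), (0, 10, [11, 1, 6]))]

theorem conjCertG2 : ConjCert chevG2 :=
  conjCert_of_tab chkLinkG2 (show chkAll chevG2 (fast chevG2 packedG2) conjTabG2 decTabG2 = true by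
    decide +kernel)

end Cfsg.Agent.KnownSimple.Steinberg.Gen
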