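import Cfsg.Agent.KnownSimple.Steinberg.Gen.Conj

/-!
The certificates for the conjugation from tables (helper53).
-/

set_option autoImplicit false

namespace Cfsg.Agent.KnownSimple.Steinberg.Gen

open Cfsg.Lie Cfsg.Agent.ChevCore

/-- the tables: lists for the roots, and decompositions `(a, b, L)` of `±p` -/
noncomputable def chkTab (D : ChevalleyDatum) (A : Acc) (T : List (List (List ℕ)))
    (S : List ((ℕ × ℕ × List ℕ) × (ℕ × ℕ × List ℕ))) (i : ℕ) : Bool :=
  forceN (D.simple i) fun p => forceN (A.negf p) fun np =>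
    (kallUpTo D.nroots fun s => forceN s fun s =>
      Nat.beq s p || Nat.beq s np || conjK D A i s ((T.getD i []).getD s [])) &&
    (decK D A i p (S.getD i ((0, 0, []), (0, 0, []))).1.1 (S.getD i ((0, 0, []), (0, 0, []))).1.2.1
        (S.getD i ((0, 0, []), (0, 0, []))).1.2.2 &&
      decK D A i np (S.getD i ((0, 0, []), (0, 0, []))).2.1 (S.getD i ((0, 0, []), (0, 0, []))).2.2.1
        (S.getD i ((0, 0, []), (0, 0, []))).2.2.2) &&
    upK D A i

/-- all checks -/
noncomputable def chkAll (D : ChevalleyDatum) (A : Acc) (T : List (List (List ℕ)))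
    (S : List ((ℕ × ℕ × List ℕ) × (ℕ × ℕ × List ℕ))) : Bool :=
  (kallUpTo D.rank fun i => chkTab D A T S i) &&
    ordK D A (List.range' (D.nroots / 2) (D.nroots / 2))

theorem conjCert_of_tab {D : ChevalleyDatum} {P : Packed} {T : List (List (List ℕ))}
    {S : List ((ℕ × ℕ × List ℕ) × (ℕ × ℕ × List ℕ))} (hl : chkLink D P = true)
    (h : chkAll D (fast D P) T S = true) : ConjCert D := by
  rw [(fast_eq_std hl).1] at h
  simp only [chkAll, chkTab, forceN_eq, Bool.and_eq_true, kallUpTo_iff, Bool.or_eq_true,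
    Nat.beq_eq, std_negf] at h
  obtain ⟨h, hpos⟩ := h
  refine ⟨fun i hi s hs h1 h2 => ⟨(T.getD i []).getD s [], ?_⟩, fun i hi q hq => ?_, fun i hi => (h i hi).2, hpos⟩
  · rcases (h i hi).1.1 s hs with (e | e) | e
    exacts [absurd e h1, absurd e h2, e]
  · rcases hq with rfl | rfl
    · exact ⟨_, _, _, (h i hi).1.2.1⟩
    · exact ⟨_, _, _, (h i hi).1.2.2⟩

end Cfsg.Agent.KnownSimple.Steinberg.Gen
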