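import Cfsg.Agent.KnownSimple.Steinberg.Gen.Pack
import Cfsg.Agent.KnownSimple.Steinberg.Gen.Symbol

/-!
Over a finite field the relators (R3) follow from (R1), (R2) (helper53).
-/

set_option autoImplicit false

namespace Cfsg.Agent.KnownSimple.Steinberg.Gen

open Cfsg Cfsg.Lie Cfsg.Agent.ChevCore Cfsg.Agent.ChevGroup

variable {D : ChevalleyDatum} {two : Bool} {F : Type*} [Field F]

theorem stH_eq {Γ : Type*} [Group Γ] (S : StData D F Γ) (hD : Good D) (P : Pack D two) {r : ℕ}
    (hr : r < D.nroots) (t : F) : S.φ (D.stH r t) = (P.base S).hh r t := by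
  simp only [ChevalleyDatum.stH, ChevalleyDatum.stWord, ChevalleyDatum.hWord,
    ChevalleyDatum.nWord, List.map_append, List.map_cons, List.map_nil, List.prod_append,
    List.prod_cons, List.prod_nil, mul_one, map_mul, Base.hh, Base.nn, mul_assoc]
  rfl

theorem hh_mul_cover [Finite F] (P : Pack D two) (hN : NbrOK D) {Γ : Type*} [Group Γ]
    (S : StData D F Γ) {r : ℕ} (hr : r < D.nroots) (a b : Fˣ) :
    (P.base S).hh r (a : F) * (P.base S).hh r (b : F) = (P.base S).hh r ((a : F) * b) := by
  obtain ⟨T⟩ := P.model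
  exact (P.base S).hh_mul_all P.dok ((P.base S).hh_mul P.dok T (closure_pre S) hN) hr a b

theorem cover_equiv [Finite F] (P : Pack D two) (hN : NbrOK D) :
    ∃ e : D.SteinbergCover F ≃* D.SteinbergGroup F,
      ∀ (r : ℕ) (t : F), e (D.scGen F r t) = D.stGen F r t := by
  have hD := P.comm.toGood
  let f := PresentedGroup.toGroup (rels := D.steinbergRelsAB F)
    (f := fun p => PresentedGroup.of (rels := D.steinbergRels F) p) (fun g hg => by
      rw [show FreeGroup.lift (fun p => PresentedGroup.of (rels := D.steinbergRels F) p) =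
        PresentedGroup.mk (D.steinbergRels F) from FreeGroup.ext_hom _ _ fun p => FreeGroup.lift_apply_of]
      exact PresentedGroup.one_of_mem (Or.inl hg))
  let g := PresentedGroup.toGroup (rels := D.steinbergRels F)
    (f := fun p => PresentedGroup.of (rels := D.steinbergRelsAB F) p) (fun w hw => by
      rw [show FreeGroup.lift (fun p => PresentedGroup.of (rels := D.steinbergRelsAB F) p) =
        PresentedGroup.mk (D.steinbergRelsAB F) from FreeGroup.ext_hom _ _ fun p => FreeGroup.lift_apply_of]
      rcases hw with h | ⟨r, a, b, hr, ha, hb, rfl⟩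
      · exact PresentedGroup.one_of_mem h
      · show (scData P.comm).φ _ = 1
        rw [map_mul, map_mul, map_inv, stH_eq _ hD P hr, stH_eq _ hD P hr, stH_eq _ hD P hr,
          ← Units.val_mk0 ha, ← Units.val_mk0 hb, hh_mul_cover P hN _ hr, mul_inv_cancel])
  have h1 : g.comp f = MonoidHom.id _ := PresentedGroup.ext fun x => by
    simp [f, g, PresentedGroup.toGroup.of]
  have h2 : f.comp g = MonoidHom.id _ := PresentedGroup.ext fun x => by
    simp [f, g, PresentedGroup.toGroup.of]
  refine ⟨MonoidHom.toMulEquiv f g h1 h2, fun r t => ?_⟩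
  show f (PresentedGroup.mk _ (D.stX r t)) = PresentedGroup.mk _ (D.stX r t)
  by_cases hr : r < D.nroots
  · rw [ChevalleyDatum.stX, dif_pos hr]
    exact PresentedGroup.toGroup.of _
  · rw [ChevalleyDatum.stX, dif_neg hr, map_one, map_one, map_one]

end Cfsg.Agent.KnownSimple.Steinberg.Gen
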