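import Cfsg.Agent.KnownSimple.Steinberg.Gen.Torus
import Cfsg.Agent.KnownSimple.Steinberg.Kernel

/-!
The torus of a group with Steinberg relations over a finite field, and the bound on the kernel (helper53).
-/

set_option autoImplicit false

namespace Cfsg.Agent.KnownSimple.Steinberg.Gen

open Cfsg.Lie Cfsg.Agent.ChevCore Cfsg.Agent.ChevGroup
open scoped commutatorElement

variable {D : ChevalleyDatum} {F : Type*} [Field F]

namespace Base

variable {Γ : Type*} [Group Γ] (R : Base D F Γ) (hS : DOK D) (T : Model D)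
  (hgen : Subgroup.closure {g | ∃ r t, r < D.nroots ∧ g = R.y r t} = ⊤) [Finite F] (hmul : ∀ i < D.rank, ∀ a b : Fˣ,
    R.hh (D.simple i) (a : F) * R.hh (D.simple i) (b : F) = R.hh (D.simple i) ((a : F) * b))

include hS T hgen hmul

theorem hh_comm {i j : ℕ} (hi : i < D.rank) (hj : j < D.rank) (t u : Fˣ) :
    Commute (R.hh (D.simple j) (u : F)) (R.hh (D.simple i) (t : F)) := by
  have h := R.hh_conj_hh hS hi (hS.good.simple_lt hj) u.ne_zero t.ne_zero
  rw [← Units.val_zpow_eq_zpow_val, mul_comm _ (t : F), ← hmul _ hi,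
    mul_inv_cancel_right] at h
  exact mul_inv_eq_iff_eq_mul.1 h

/-- `c ↦ h_i(c)` -/
noncomputable def hhHom (i : Fin D.rank) : Fˣ →* Γ :=
  MonoidHom.mk' (fun c => R.hh (D.simple i.val) (c : F)) fun a b => by
    rw [Units.val_mul, hmul _ i.isLt]

theorem hhHom_comm : Pairwise fun i j : Fin D.rank =>
    ∀ x y, Commute (R.hhHom hmul i x) (R.hhHom hmul j y) :=
  fun i j _ x y => R.hh_comm hS T hgen hmul j.isLt i.isLt y x

/-- `c ↦ ∏ h_i(c_i)` -/
noncomputable def theta : (Fin D.rank → Fˣ) →* Γ :=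
  MonoidHom.noncommPiCoprod (R.hhHom hmul) (R.hhHom_comm hS T hgen hmul)

theorem theta_single (i : Fin D.rank) (c : Fˣ) :
    R.theta hS T hgen hmul (Pi.mulSingle i c) = R.hh (D.simple i.val) (c : F) := by
  rw [theta, MonoidHom.noncommPiCoprod_mulSingle]
  rfl

theorem hh_simple_mem {i : ℕ} (hi : i < D.rank) {c : F} (hc : c ≠ 0) :
    R.hh (D.simple i) c ∈ (R.theta hS T hgen hmul).range :=
  ⟨Pi.mulSingle ⟨i, hi⟩ (Units.mk0 c hc), R.theta_single hS T hgen hmul _ _⟩

theorem theta_range_eq :
    (R.theta hS T hgen hmul).range = ⨆ i : Fin D.rank, (R.hhHom hmul i).range :=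
  MonoidHom.noncommPiCoprod_range _

theorem nn_conj_theta {i : ℕ} (hi : i < D.rank) {g : Γ} (hg : g ∈ (R.theta hS T hgen hmul).range) :
    R.nn (D.simple i) 1 * g * (R.nn (D.simple i) 1)⁻¹ ∈ (R.theta hS T hgen hmul).range := by
  have hD := hS.good
  have hle : (⨆ j : Fin D.rank, (R.hhHom hmul j).range) ≤
      (R.theta hS T hgen hmul).range.comap (MulAut.conj (R.nn (D.simple i) 1)).toMonoidHom := by
    refine iSup_le fun j => ?_
    rintro _ ⟨c, rfl⟩
    show R.nn (D.simple i) 1 * R.hh (D.simple j.val) (c : F) * (R.nn (D.simple i) 1)⁻¹ ∈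
      (R.theta hS T hgen hmul).range
    set k := D.cartan j.val (D.simple i)
    have key : R.hh (D.simple j.val) (c : F) * R.nn (D.simple i) (((c : F) ^ k)⁻¹) *
        (R.hh (D.simple j.val) (c : F))⁻¹ = R.nn (D.simple i) 1 := by
      have hp := hD.simple_lt hi
      have hq := hD.simple_lt j.isLt
      rw [← MulAut.conj_apply]
      simp only [nn, map_mul, MulAut.conj_apply]
      rw [R.hh_conj hS hq hp c.ne_zero, R.hh_conj hS hq (hD.neg_lt hp) c.ne_zero, hS.pairing_neg hp,
        hD.pairing_simple j.isLt]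
      have hck : (c : F) ^ k ≠ 0 := zpow_ne_zero _ c.ne_zero
      congr 3 <;> simp [zpow_neg, k, hck]
    have e : R.nn (D.simple i) 1 * R.hh (D.simple j.val) (c : F) * (R.nn (D.simple i) 1)⁻¹ =
        R.hh (D.simple j.val) (c : F) * R.hh (D.simple i) (((c : F) ^ k)⁻¹) := by
      conv_lhs => arg 1; arg 1; rw [← key]
      rw [hh, hh, show R.nn (D.simple i) (-1) = (R.nn (D.simple i) 1)⁻¹ from
        (R.nn_inv hS (hD.simple_lt hi) 1).symm]
      group
    rw [e]
    exact mul_mem (R.hh_simple_mem hS T hgen hmul j.isLt c.ne_zero)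
      (R.hh_simple_mem hS T hgen hmul hi (inv_ne_zero (zpow_ne_zero _ c.ne_zero)))
  rw [← R.theta_range_eq hS T hgen hmul] at hle
  exact hle hg

theorem hh_mem_range {r : ℕ} (hr : r < D.nroots) {c : F} (hc : c ≠ 0) :
    R.hh r c ∈ (R.theta hS T hgen hmul).range := by
  have hD := hS.good
  obtain ⟨w, hw, i, hi, rfl⟩ := hD.exists_word hr
  clear hr
  induction w generalizing c with
  | nil => exact R.hh_simple_mem hS T hgen hmul hi hc
  | cons j w ih =>
    have hw' : ∀ k ∈ w, k < D.rank := fun k hk => hw k (by simp [hk])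
    have hj := hw j (by simp)
    set s := actW D w (D.simple i) with hs
    have hsl : s < D.nroots := hD.actW_lt hw' (hD.simple_lt hi)
    rw [actW_cons, ← hs]
    set e : F := (eta D j s : F) with he
    have he2 : e * e = 1 := by rw [he, ← Int.cast_mul, eta_mul_self, Int.cast_one]
    have he0 : e ≠ 0 := left_ne_zero_of_mul_eq_one he2
    have hconj : ∀ x, R.nn (D.reflectRoot j s) x =
        R.nn (D.simple j) 1 * R.nn s (e * x) * (R.nn (D.simple j) 1)⁻¹ := by
      intro x
      rw [show R.nn s (e * x) = R.y s (e * x) * R.y (D.neg s) (-(e * x)⁻¹) * R.y s (e * x) from rfl,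
        ← MulAut.conj_apply, map_mul, map_mul]
      simp only [MulAut.conj_apply]
      rw [R.n_conj hS hj hsl, R.n_conj hS hj (hD.neg_lt hsl), hD.refl_neg hj hsl, hD.eta_neg hj hsl, ← he,
        ← mul_assoc, he2, one_mul, mul_neg, _root_.mul_inv, ← mul_assoc,
        inv_eq_of_mul_eq_one_left he2, he2, one_mul]
      rfl
    rw [hh, hconj, hconj,
      show R.nn (D.simple j) 1 * R.nn s (e * c) * (R.nn (D.simple j) 1)⁻¹ *
          (R.nn (D.simple j) 1 * R.nn s (e * -1) * (R.nn (D.simple j) 1)⁻¹) =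
        R.nn (D.simple j) 1 * (R.hh s (e * c) * (R.hh s e)⁻¹) * (R.nn (D.simple j) 1)⁻¹ by
        rw [hh, hh, mul_neg_one, ← R.nn_inv hS hsl]; group]
    exact R.nn_conj_theta hS T hgen hmul hj (mul_mem (ih (mul_ne_zero he0 hc) hw') (inv_mem (ih he0 hw')))

theorem H_le_range : (R.rootRel hS T).H ≤ (R.theta hS T hgen hmul).range := by
  rw [RootRel.H, Subgroup.closure_le]
  rintro _ ⟨r, c, hc, rfl⟩
  rw [R.rootRel_hr hS T]
  exact R.hh_mem_range hS T hgen hmul (T.lt r) hc

theorem theta_conj (c : Fin D.rank → Fˣ) {s : ℕ} (hs : s < D.nroots) (t : F) :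
    R.theta hS T hgen hmul c * R.y s t * (R.theta hS T hgen hmul c)⁻¹ =
      R.y s (((∏ i : Fin D.rank, c i ^ D.pairing (D.simple i.val) s : Fˣ) : F) * t) := by
  have hD := hS.good
  classical
  suffices h : ∀ S : Finset (Fin D.rank), ∀ t,
      R.theta hS T hgen hmul (∏ i ∈ S, Pi.mulSingle i (c i)) * R.y s t *
        (R.theta hS T hgen hmul (∏ i ∈ S, Pi.mulSingle i (c i)))⁻¹ =
      R.y s (((∏ i ∈ S, c i ^ D.pairing (D.simple i.val) s : Fˣ) : F) * t) by
    simpa [Finset.univ_prod_mulSingle] using h Finset.univ t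
  intro S
  induction S using Finset.induction_on with
  | empty => intro t; simp
  | insert i S hi ih =>
    intro t
    rw [Finset.prod_insert hi, Finset.prod_insert hi, map_mul, R.theta_single,
      show ∀ a b z : Γ, a * b * z * (a * b)⁻¹ = a * (b * z * b⁻¹) * a⁻¹ from fun a b z => by group,
      ih, R.hh_conj hS (hD.simple_lt i.isLt) hs (c i).ne_zero, Units.val_mul,
      Units.val_zpow_eq_zpow_val, mul_assoc]

theorem prod_eq_one {c : Fin D.rank → Fˣ} (hc : R.π (R.theta hS T hgen hmul c) = 1) {j : ℕ}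
    (hj : j < D.rank) : ∏ i : Fin D.rank, c i ^ D.cartan i.val (D.simple j) = 1 := by
  have hD := hS.good
  have hp := hD.simple_lt hj
  have h := congrArg R.π (R.theta_conj hS T hgen hmul c hp 1)
  rw [map_mul, map_mul, map_inv, hc, one_mul, inv_one, mul_one, R.π_y _ hp, R.π_y _ hp,
    mul_one] at h
  have h' := hD.xg_injective hp h
  refine Units.ext ?_
  rw [Units.val_one, h']
  simp only [hD.pairing_simple (Fin.isLt _)]

/-- The kernel is no larger than the solution set of the Cartan equations. -/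
theorem card_ker_le {k m : ℕ} {e : List ℕ} {W : List (List ℤ)} (h : elimB D k m e W = true)
    [Fintype F] (hm : 0 < m) :
    Finite ↥R.π.ker ∧ Nat.card ↥R.π.ker ≤ Nat.gcd m (Fintype.card F - 1) := by
  classical
  simp only [elimB, Bool.and_eq_true, decide_eq_true_eq] at h
  obtain ⟨hk, hW⟩ := h
  have hcomb : ∀ (c : Fin D.rank → Fˣ), R.π (R.theta hS T hgen hmul c) = 1 → ∀ i < D.rank,
      ∏ i' : Fin D.rank, c i' ^ elimV k m e i i'.val = 1 := by
    intro c hc i hi
    calc ∏ i' : Fin D.rank, c i' ^ elimV k m e i i'.val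
        = ∏ i' : Fin D.rank, ∏ j : Fin D.rank,
            c i' ^ (D.cartan i'.val (D.simple j.val) * (W.getD i []).getD j.val 0) := by
          refine Finset.prod_congr rfl fun i' _ => ?_
          rw [← hW i hi i'.val i'.isLt, prod_zpow_sum]
          congr 1
          rw [← List.sum_toFinset _ List.nodup_range, List.toFinset_range, Finset.sum_range]
      _ = ∏ j : Fin D.rank, (∏ i' : Fin D.rank, c i' ^ D.cartan i'.val (D.simple j.val)) ^
            (W.getD i []).getD j.val 0 := by
          rw [Finset.prod_comm]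
          refine Finset.prod_congr rfl fun j _ => ?_
          rw [← Finset.prod_zpow]
          exact Finset.prod_congr rfl fun i' _ => zpow_mul _ _ _
      _ = 1 := Finset.prod_eq_one fun j _ => by rw [R.prod_eq_one hS T hgen hmul hc j.isLt, one_zpow]
  let k' : Fin D.rank := ⟨k, hk⟩
  have hkm : ∀ c : Fin D.rank → Fˣ, R.π (R.theta hS T hgen hmul c) = 1 → c k' ^ m = 1 := by
    intro c hc
    have := hcomb c hc k hk
    rw [Finset.prod_eq_single k'] at this
    · simpa [elimV, k'] using this
    · intro i' _ hne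
      have hne' : i'.val ≠ k := fun e => hne (Fin.ext e)
      simp [elimV, hne']
    · simp
  have hki : ∀ c : Fin D.rank → Fˣ, R.π (R.theta hS T hgen hmul c) = 1 → ∀ i : Fin D.rank, i ≠ k' →
      c i = c k' ^ (e.getD i.val 0) := by
    intro c hc i hne
    have hne' : i.val ≠ k := fun e => hne (Fin.ext e)
    have := hcomb c hc i.val i.isLt
    rw [Fintype.prod_eq_mul i k' hne] at this
    · have hne'' : k ≠ i.val := fun e => hne' e.symm
      simp only [elimV, k', if_neg hne', if_pos, if_neg hne'', sub_zero, zpow_one, zero_sub,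
        zpow_neg, zpow_natCast] at this
      exact mul_inv_eq_one.1 this
    · rintro i' ⟨h1, h2⟩
      have h1' : i'.val ≠ i.val := fun e => h1 (Fin.ext e)
      have h2' : i'.val ≠ k := fun e => h2 (Fin.ext e)
      simp [elimV, hne', h1', h2']
  set g := Nat.gcd m (Fintype.card F - 1)
  let Z := {x : Fˣ // x ^ g = 1}
  let F' : Z → Γ := fun x => R.theta hS T hgen hmul fun i => if i = k' then x.1 else x.1 ^ (e.getD i.val 0)
  have hsub : (R.π.ker : Set Γ) ⊆ Set.range F' := by
    intro z hz
    obtain ⟨c, rfl⟩ := R.H_le_range hS T hgen hmul (R.ker_le_H hS T hgen hz)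
    have hc : R.π (R.theta hS T hgen hmul c) = 1 := hz
    refine ⟨⟨c k', pow_gcd_eq_one.2 ⟨hkm c hc, ?_⟩⟩, congrArg (R.theta hS T hgen hmul) (funext fun i => ?_)⟩
    · rw [← Fintype.card_units]; exact pow_card_eq_one
    · by_cases hik : i = k'
      · simp [hik]
      · simp [hik, hki c hc i hik]
  have hfin : (Set.range F').Finite := Set.finite_range F'
  haveI : Finite ↥R.π.ker := (hfin.subset hsub).to_subtype
  refine ⟨inferInstance, ?_⟩
  calc Nat.card ↥R.π.ker ≤ Nat.card ↥(Set.range F') := Nat.card_mono hfin hsub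
    _ ≤ Nat.card Z := Finite.card_range_le F'
    _ ≤ g := by
        have := IsCyclic.card_pow_eq_one_le (α := Fˣ) (n := g) (Nat.gcd_pos_of_pos_left _ hm)
        rw [Nat.card_eq_fintype_card, Fintype.card_subtype]
        exact this

end Base

end Cfsg.Agent.KnownSimple.Steinberg.Gen
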