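import Cfsg.Agent.KnownSimple.Steinberg.Gen.Lift

/-!
Fields with more than four elements: every central extension has lifts with Steinberg's relations (helper53).
-/

set_option autoImplicit false

namespace Cfsg.Agent.KnownSimple.Steinberg.Gen

open Cfsg.Lie Cfsg.Agent.ChevCore Cfsg.Agent.ChevGroup
open scoped commutatorElement

variable {D : ChevalleyDatum} {F : Type*} [Field F] {Γ : Type*} [Group Γ]

theorem exists_good_scalar (hF : ∃ S : Finset F, 4 < S.card) :
    ∃ a : F, a ≠ 0 ∧ a ≠ 1 ∧ a ^ 2 ≠ 1 ∧ a ^ 3 ≠ 1 := by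
  classical
  obtain ⟨S, hS⟩ := hF
  by_contra hc
  push Not at hc
  have hall : ∀ a : F, a ≠ 0 → a ^ 2 = 1 ∨ a ^ 3 = 1 := fun a ha => by
    by_cases h1 : a = 1
    · exact Or.inl (by rw [h1, one_pow])
    by_cases h2 : a ^ 2 = 1
    · exact Or.inl h2
    · exact Or.inr (hc a ha h1 h2)
  have small : ∀ n : ℕ, 0 < n → n ≤ 3 → ¬ ∀ a : F, a ≠ 0 → a ^ n = 1 := by
    intro n hn hn3 h
    have h1 : S ⊆ insert 0 (Polynomial.nthRootsFinset n (1 : F)) := by
      intro a _
      rw [Finset.mem_insert, Polynomial.mem_nthRootsFinset hn]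
      exact (eq_or_ne a 0).imp_right (h a)
    have h3 : (Polynomial.nthRootsFinset n (1 : F)).card ≤ n := by
      rw [Polynomial.nthRootsFinset_def]
      exact (Multiset.toFinset_card_le _).trans (Polynomial.card_nthRoots n 1)
    have := (Finset.card_le_card h1).trans (Finset.card_insert_le _ _)
    omega
  obtain ⟨x, hx0, hx⟩ : ∃ x : F, x ≠ 0 ∧ x ^ 2 ≠ 1 := by
    by_contra h
    push Not at h
    exact small 2 (by norm_num) (by norm_num) h
  obtain ⟨y, hy0, hy⟩ : ∃ y : F, y ≠ 0 ∧ y ^ 3 ≠ 1 := by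
    by_contra h
    push Not at h
    exact small 3 (by norm_num) le_rfl h
  have hx3 := (hall x hx0).resolve_left hx
  have hy2 := (hall y hy0).resolve_right hy
  rcases hall (x * y) (mul_ne_zero hx0 hy0) with h | h
  · rw [mul_pow, hy2, mul_one] at h; exact hx h
  · rw [mul_pow, hx3, one_mul] at h; exact hy h

/-- the pair of roots is separated by `h_r`, `h_s` over any large field -/
noncomputable def sepK (D : ChevalleyDatum) (r s : ℕ) : Bool :=
  zEq (D.pairing s r) 0 || zEq (4 - D.pairing s r * D.pairing r s) 1 ||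
    zEq (4 - D.pairing s r * D.pairing r s) 2 || zEq (4 - D.pairing s r * D.pairing r s) 3

/-- a bracket witness for the commutation of `x_r` with `x_s` -/
noncomputable def witK (D : ChevalleyDatum) (A : Acc) (ok : ℕ → Bool) (r s a b : ℕ) : Bool :=
  !(Nat.beq b a) && !(Nat.beq b (A.negf a)) &&
  (Nat.beq a r || ((commW A r a).isEmpty && !(Nat.beq a (A.negf r)))) &&
  (Nat.beq b r || ((commW A r b).isEmpty && !(Nat.beq b (A.negf r)))) &&
  Nat.beq ((commW A a b).filter fun c => Nat.beq c.1 s).length 1 &&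
  kall (commW A a b) fun c =>
    bif Nat.beq c.1 s then (zEq c.2.1 1 || zEq c.2.1 (-1)) && (Nat.beq c.2.2.1 1 || Nat.beq c.2.2.2 1)
    else !(Nat.beq c.1 r) && !(Nat.beq c.1 (A.negf r)) && (commW A r c.1).isEmpty && ok c.1

theorem commute_xg (hC : CommGood D) {r s : ℕ} (hr : r < D.nroots) (hs : s < D.nroots)
    (h : s = r ∨ (s ≠ D.neg r ∧ D.commTerms r s = [])) (u v : F) :
    Commute (xg D F r u) (xg D F s v) := by
  by_cases h1 : s = r
  · rw [h1, Commute, SemiconjBy, ← hC.toGood.xg_add, ← hC.toGood.xg_add, add_comm]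
  · obtain ⟨h2, he⟩ := h.resolve_left h1
    have := hC.xg_comm hr hs h1 h2 u v
    rw [ChevalleyDatum.commWord, he, List.map_nil, wordG, List.map_nil, List.prod_nil, mul_one] at this
    exact this.symm

theorem commute_of_witK (hC : CommGood D) (E : CExt D F Γ) {ok : ℕ → Bool} {r s a b : ℕ}
    (hr : r < D.nroots) (hs : s < D.nroots) (ha : a < D.nroots) (hb : b < D.nroots)
    (h : witK D (std D) ok r s a b = true)
    (hok : ∀ c < D.nroots, c ≠ r → c ≠ D.neg r → D.commTerms r c = [] → ok c = true →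
      ∀ u v, Commute (E.ℓ r u) (E.ℓ c v)) (u v : F) : Commute (E.ℓ r u) (E.ℓ s v) := by
  simp only [witK, Bool.and_eq_true, kall_iff, std_negf, commW_std, Bool.not_eq_true',
    Bool.or_eq_true, List.isEmpty_iff, ← Bool.not_eq_true, Nat.beq_eq] at h
  obtain ⟨⟨⟨⟨⟨hba, hbna⟩, hra⟩, hrb⟩, hcnt⟩, hall⟩ := h
  obtain ⟨c0, hc0m⟩ : ∃ c0, c0 ∈ (D.commTerms a b).filter fun c => Nat.beq c.1 s := by
    refine List.exists_mem_of_ne_nil _ fun e => ?_
    rw [e] at hcnt
    simp at hcnt
  rw [List.mem_filter] at hc0m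
  obtain ⟨pre, post, hsplit⟩ := List.append_of_mem hc0m.1
  obtain ⟨c1, z, i, j⟩ := c0
  have hc0q : c1 = s := Nat.eq_of_beq_eq_true hc0m.2
  subst hc0q
  have hco := hall _ hc0m.1
  rw [hc0m.2, cond_true] at hco
  simp only [Bool.and_eq_true, Bool.or_eq_true, zEq_iff, Nat.beq_eq] at hco
  refine commute_of_witness hC hr hs ha hb hba hbna
    (commute_xg hC hr ha (hra.imp id fun h => ⟨h.2, h.1⟩))
    (commute_xg hC hr hb (hrb.imp id fun h => ⟨h.2, h.1⟩)) hsplit hco.1 hco.2 (fun c hc => ?_) u v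
  have hem : c ∈ D.commTerms a b := by
    rw [hsplit]; simp only [List.mem_append, List.mem_cons] at hc ⊢; tauto
  have hne : Nat.beq c.1 c1 = false := by
    rw [← Bool.not_eq_true]
    intro heq
    rw [hsplit, List.filter_append, List.filter_cons_of_pos (by simpa using hc0m.2)] at hcnt
    have : c ∈ (pre.filter fun c => Nat.beq c.1 c1) ++ (post.filter fun c => Nat.beq c.1 c1) := by
      rw [← List.filter_append, List.mem_filter]
      exact ⟨hc, heq⟩
    have := List.length_pos_of_mem this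
    simp only [List.length_append, List.length_cons] at this hcnt
    omega
  have h := hall c hem
  rw [hne, cond_false] at h
  simp only [Bool.and_eq_true, Bool.not_eq_true', List.isEmpty_iff, ← Bool.not_eq_true,
    Nat.beq_eq] at h
  exact hok c.1 (hC.toGood.commTerms_coef ha hb hem).1 h.1.1.1 h.1.1.2 h.1.2 h.2

/-- all roots: scalars or a witness; all pairs: separation and the order conditions -/
noncomputable def bigK (D : ChevalleyDatum) (A : Acc) : Bool :=
  kallUpTo D.nroots fun r => forceN r fun r =>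
    ((kanyUpTo D.nroots fun j => zEq (D.pairing j r) 1 || zEq (D.pairing j r) (-1)) ||
      kanyUpTo D.nroots fun a => kanyUpTo D.nroots fun b =>
        witK D A (fun c => sepK D r c) r r a b) &&
    kallUpTo D.nroots fun s => forceN s fun s =>
      Nat.beq s r || Nat.beq s (A.negf r) || (sepK D r s && pairK D A r s)

theorem sep_of_sepK (hD : Good D) (E : CExt D F Γ) (hF : ∃ S : Finset F, 4 < S.card) {r s : ℕ}
    (hr : r < D.nroots) (hs : s < D.nroots) (h : sepK D r s = true) : Sep E r s := by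
  obtain ⟨a, ha0, ha1, ha2, ha3⟩ := exists_good_scalar hF
  simp only [sepK, Bool.or_eq_true, zEq_iff] at h
  have hss := hD.pairing_self hs
  by_cases h0 : D.pairing s r = 0
  · refine ⟨_, _, isTor_hl E hD hs ha0, Or.inl ⟨?_, ?_⟩⟩
    · show a ^ D.pairing s r = 1
      rw [h0, zpow_zero]
    · show a ^ D.pairing s s ≠ 1
      rw [hss, show (2 : ℤ) = ((2 : ℕ) : ℤ) from rfl, zpow_natCast]
      exact ha2
  · have hb : a ^ (2 : ℤ) ≠ 0 := zpow_ne_zero _ ha0
    have hc : a ^ (-D.pairing s r) ≠ 0 := zpow_ne_zero _ ha0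
    refine ⟨_, _, isTor_mul E (isTor_hl E hD hs hb) (isTor_hl E hD hr hc), Or.inl ⟨?_, ?_⟩⟩
    · show (a ^ (2 : ℤ)) ^ D.pairing s r * (a ^ (-D.pairing s r)) ^ D.pairing r r = 1
      rw [← zpow_mul, ← zpow_mul, ← zpow_add₀ ha0, hD.pairing_self hr,
        show 2 * D.pairing s r + -D.pairing s r * 2 = 0 by ring, zpow_zero]
    · show (a ^ (2 : ℤ)) ^ D.pairing s s * (a ^ (-D.pairing s r)) ^ D.pairing r s ≠ 1
      rw [← zpow_mul, ← zpow_mul, ← zpow_add₀ ha0, hss,
        show (2 : ℤ) * 2 + -D.pairing s r * D.pairing r s = 4 - D.pairing s r * D.pairing r s by ring]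
      rcases h with ((h | h) | h) | h
      · exact absurd h h0
      · rw [h, zpow_one]; exact ha1
      · rw [h, show (2 : ℤ) = ((2 : ℕ) : ℤ) from rfl, zpow_natCast]; exact ha2
      · rw [h, show (3 : ℤ) = ((3 : ℕ) : ℤ) from rfl, zpow_natCast]; exact ha3

/-- Over a field with more than four elements there are lifts with all relations. -/
theorem exists_pre_of_bigK (hS : DOK D) (hC : CommGood D) (h : bigK D (std D) = true)
    (E : CExt D F Γ) (hF : ∃ S : Finset F, 4 < S.card) :
    ∃ R : Pre D F Γ, R.π = E.π ∧ R.AllRel := by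
  have hD := hS.good
  simp only [bigK, kallUpTo_iff, forceN_eq, Bool.and_eq_true, Bool.or_eq_true, kanyUpTo_iff,
    zEq_iff, std_negf, Nat.beq_eq] at h
  obtain ⟨a, ha0, -, ha2, -⟩ := exists_good_scalar hF
  have hscal : ∀ r < D.nroots, Scal E r := fun r hr => ⟨_, _, isTor_hl E hD hr ha0, by
    show a ^ D.pairing r r ≠ 1
    rw [hD.pairing_self hr, show (2 : ℤ) = ((2 : ℕ) : ℤ) from rfl, zpow_natCast]
    exact ha2⟩
  have hsep : ∀ r < D.nroots, ∀ s < D.nroots, s ≠ r → s ≠ D.neg r → Sep E r s :=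
    fun r hr s hs h1 h2 => sep_of_sepK hD E hF hr hs
      (((h r hr).2 s hs).resolve_left fun e => e.elim h1 h2).1
  have hcc : ∀ r < D.nroots, ∀ s < D.nroots, s ≠ r → s ≠ D.neg r → D.commTerms r s = [] →
      ∀ u v, Commute (E.ℓ r u) (E.ℓ s v) := fun r hr s hs h1 h2 he u v =>
    commute_of_sep hr hs (commute_xg hC hr hs (Or.inr ⟨h2, he⟩)) hD (hsep r hr s hs h1 h2) u v
  have hcomm : ∀ r < D.nroots, ∀ s < D.nroots,
      (s = r ∨ (s ≠ D.neg r ∧ D.commTerms r s = [])) → ∀ u v, Commute (E.ℓ r u) (E.ℓ s v) := by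
    intro r hr s hs hrs u v
    by_cases h1 : s = r
    · subst h1
      rcases (h s hr).1 with ⟨j, hj, hjr⟩ | ⟨a, ha, b, hb, hw⟩
      · refine commute_self_of_scalars hD hr (fun c hc => ?_) hF u v
        rcases hjr with e | e
        · exact ⟨_, _, isTor_hl E hD hj hc, by show c ^ D.pairing j s = c; rw [e, zpow_one]⟩
        · exact ⟨_, _, isTor_hl E hD hj (inv_ne_zero hc),
            by show c⁻¹ ^ D.pairing j s = c; rw [e, zpow_neg_one, inv_inv]⟩
      · exact commute_of_witK hC E hr hr ha hb hw (fun c hc n1 n2 he _ => hcc s hr c hc n1 n2 he) u v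
    · obtain ⟨h2, he⟩ := hrs.resolve_left h1
      exact hcc r hr s hs h1 h2 he u v
  exact ⟨canPre E hS hscal hcomm, rfl, canPre_allRel E hS hC hscal hcomm
    (fun r hr s hs h1 h2 _ => hsep r hr s hs h1 h2)
    (fun r hr s hs h1 h2 => (((h r hr).2 s hs).resolve_left fun e => e.elim h1 h2).2)⟩

end Cfsg.Agent.KnownSimple.Steinberg.Gen
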