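import Cfsg.Agent.KnownSimple.Steinberg.Gen.Inj
import Cfsg.Agent.KnownSimple.Steinberg.Gen.Conj
import Cfsg.Agent.KnownSimple.Steinberg.SLE6
import Cfsg.Agent.KnownSimple.Steinberg.SLE7
import Cfsg.Agent.KnownSimple.Steinberg.SLE8

/-!
Simply laced data: the lifts as root elements with all relations (helper53).
-/

set_option autoImplicit false

namespace Cfsg.Agent.KnownSimple.Steinberg.Gen

open Cfsg.Lie Cfsg.Agent.ChevCore
open scoped commutatorElement

theorem exists_pre_of_sld {D : ChevalleyDatum} {F : Type*} [Field F] {Γ : Type*} [Group Γ]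
    (hS : SLD D) (E : CExt D F Γ) : ∃ R : Pre D F Γ, R.π = E.π ∧ R.AllRel := by
  let R := E.relSys hS
  refine ⟨⟨R.π, R.y, R.π_y, R.y_add⟩, rfl, fun r hr s hs _ h2 t u => ?_⟩
  show ⁅R.y s u, R.y r t⁆ = ((D.commWord F r s (-t) (-u)).map fun p => R.y p.1 p.2).prod
  rw [hS.commWord_eq hr hs]
  rcases hS.entry_cases hr hs with e | ⟨c, z, e, -⟩
  · rw [e, List.map_nil, List.map_nil, List.prod_nil, commutatorElement_eq_one_iff_commute]
    exact (R.comm0 r s hr hs h2 e t u).symm
  · rw [R.brk r s c z hr hs e, e]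
    simp only [List.map_cons, List.map_nil, List.prod_cons, List.prod_nil, mul_one]
    congr 1
    ring

end Cfsg.Agent.KnownSimple.Steinberg.Gen
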