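import Cfsg.Agent.KnownSimple.Steinberg.Gen.Seven
import Cfsg.Agent.KnownSimple.Steinberg.Gen.OfSL
import Cfsg.Agent.KnownSimple.Steinberg.Gen.BigG2
import Cfsg.Agent.KnownSimple.Steinberg.Gen.BigB2
import Cfsg.Agent.KnownSimple.Steinberg.Gen.BigD4
import Cfsg.Agent.KnownSimple.Steinberg.Gen.BigF4

/-!
Lifts over large fields for the seven types (helper53).
-/

set_option autoImplicit false

namespace Cfsg.Agent.KnownSimple.Steinberg.Gen

open Cfsg.Lie Cfsg.Agent.ChevCore

theorem exists_pre_of_mem {F : Type*} [Field F] {D : ChevalleyDatum}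
    (hD : D ∈ [chevG2, chevB2, chevD4, chevF4, chevE6, chevE7, chevE8])
    (hF : ∃ S : Finset F, 4 < S.card) {Γ : Type*} [Group Γ] (E : CExt D F Γ) :
    ∃ R : Pre D F Γ, R.π = E.π ∧ R.AllRel := by
  simp only [List.mem_cons, List.not_mem_nil, or_false] at hD
  rcases hD with rfl | rfl | rfl | rfl | rfl | rfl | rfl
  · exact exists_pre_of_bigK packG2.dok packG2.comm bigKG2 E hF
  · exact exists_pre_of_bigK packB2.dok packB2.comm bigKB2 E hF
  · exact exists_pre_of_bigK packD4.dok packD4.comm bigKD4 E hF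
  · exact exists_pre_of_bigK packF4.dok packF4.comm bigKF4 E hF
  · exact exists_pre_of_sld sldE6 E
  · exact exists_pre_of_sld sldE7 E
  · exact exists_pre_of_sld sldE8 E

end Cfsg.Agent.KnownSimple.Steinberg.Gen
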