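import Cfsg.Agent.KnownSimple.Steinberg.Gen.St
import Cfsg.Agent.KnownSimple.Steinberg.Lifts

/-!
In a central extension of a Chevalley group the commutators with lifted torus elements are lifts of the
root elements which satisfy Steinberg's relations, when the torus separates the roots (helper53).
-/

set_option autoImplicit false

namespace Cfsg.Agent.KnownSimple.Steinberg.Gen

open Cfsg.Lie Cfsg.Agent.ChevCore Cfsg.Agent.ChevGroup
open scoped commutatorElement

variable {D : ChevalleyDatum} {F : Type*} [Field F] {Γ : Type*} [Group Γ]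

/-- `g` lies over a diagonal matrix scaling `x_s` by `χ s` -/
structure IsTor (E : CExt D F Γ) (g : Γ) (χ : ℕ → F) : Prop where
  diag : ∃ d : D.Idx → F, (E.π g : Matrix D.Idx D.Idx F) = Matrix.diagonal d
  conj : ∀ s, s < D.nroots → ∀ t, E.π g * xg D F s t * (E.π g)⁻¹ = xg D F s (χ s * t)

/-- some torus element moves `x_r` -/
def Scal (E : CExt D F Γ) (r : ℕ) : Prop := ∃ g χ, IsTor E g χ ∧ χ r ≠ 1

/-- some torus element moves exactly one of `x_r`, `x_s` -/
def Sep (E : CExt D F Γ) (r s : ℕ) : Prop :=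
  ∃ g χ, IsTor E g χ ∧ ((χ r = 1 ∧ χ s ≠ 1) ∨ (χ r ≠ 1 ∧ χ s = 1))

/-- the lift of `h_r(a)` -/
def hl (E : CExt D F Γ) (r : ℕ) (a : F) : Γ :=
  E.ℓ r a * E.ℓ (D.neg r) (-a⁻¹) * E.ℓ r a *
    (E.ℓ r (-1) * E.ℓ (D.neg r) (-(-1)⁻¹) * E.ℓ r (-1))

theorem isTor_hl (E : CExt D F Γ) (hD : Good D) {r : ℕ} (hr : r < D.nroots) {a : F} (ha : a ≠ 0) :
    IsTor E (hl E r a) fun s => a ^ D.pairing r s := by
  have e : E.π (hl E r a) = hg D F r a := by
    simp only [hl, map_mul, E.π_ℓ r hr, E.π_ℓ _ (hD.neg_lt hr), hg, ng]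
  refine ⟨⟨_, by rw [e]; exact hD.hg_eq_diag hr ha⟩, fun s hs t => ?_⟩
  rw [e]
  exact hD.hg_conj_x hr hs ha t

theorem isTor_mul (E : CExt D F Γ) {g h : Γ} {χ ψ : ℕ → F} (hg : IsTor E g χ) (hh : IsTor E h ψ) :
    IsTor E (g * h) fun s => χ s * ψ s := by
  obtain ⟨d, hd⟩ := hg.diag
  obtain ⟨d', hd'⟩ := hh.diag
  refine ⟨⟨fun a => d a * d' a, by rw [map_mul, Units.val_mul, hd, hd', Matrix.diagonal_mul_diagonal]⟩,
    fun s hs t => ?_⟩
  rw [map_mul, show E.π g * E.π h * xg D F s t * (E.π g * E.π h)⁻¹ =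
    E.π g * (E.π h * xg D F s t * (E.π h)⁻¹) * (E.π g)⁻¹ by group, hh.conj s hs, hg.conj s hs,
    mul_assoc]

theorem isTor_one (E : CExt D F Γ) : IsTor E 1 fun _ => 1 :=
  ⟨⟨fun _ => 1, by simp⟩, fun s _ t => by simp⟩

namespace IsTor

variable {E : CExt D F Γ} {g h : Γ} {χ ψ : ℕ → F}

theorem commute (hg : IsTor E g χ) (hh : IsTor E h ψ) : E.π (g * h * g⁻¹) = E.π h := by
  obtain ⟨d, hd⟩ := hg.diag
  obtain ⟨d', hd'⟩ := hh.diag
  have : E.π g * E.π h = E.π h * E.π g := by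
    refine Units.ext ?_
    rw [Units.val_mul, Units.val_mul, hd, hd', Matrix.diagonal_mul_diagonal,
      Matrix.diagonal_mul_diagonal]
    congr 1
    funext a
    exact mul_comm _ _
  rw [map_mul, map_mul, map_inv, this, mul_inv_cancel_right]

theorem conj_ℓ (hg : IsTor E g χ) {s : ℕ} (hs : s < D.nroots) (t : F) :
    E.π (g * E.ℓ s t * g⁻¹) = E.π (E.ℓ s (χ s * t)) := by
  rw [map_mul, map_mul, map_inv, E.π_ℓ s hs, E.π_ℓ s hs, hg.conj s hs]

end IsTor

section commuting

variable {E : CExt D F Γ} {r s : ℕ} (hr : r < D.nroots) (hs : s < D.nroots)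
  (hG : ∀ u v, Commute (xg D F r u) (xg D F s v))
include hr hs hG

theorem bracket_central (u v : F) : ⁅E.ℓ r u, E.ℓ s v⁆ ∈ Subgroup.center Γ := by
  apply E.central
  rw [MonoidHom.mem_ker, map_commutatorElement, E.π_ℓ r hr, E.π_ℓ s hs,
    commutatorElement_eq_one_iff_commute]
  exact hG u v

theorem bracket_add_left (hD : Good D) (u u' v : F) :
    ⁅E.ℓ r (u + u'), E.ℓ s v⁆ = ⁅E.ℓ r u, E.ℓ s v⁆ * ⁅E.ℓ r u', E.ℓ s v⁆ := by
  rw [E.comm_congr (v' := E.ℓ r u * E.ℓ r u') (w' := E.ℓ s v)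
    (by rw [map_mul, E.π_ℓ r hr, E.π_ℓ r hr, E.π_ℓ r hr, hD.xg_add]) rfl]
  have h := Subgroup.mem_center_iff.1 (bracket_central (E := E) hr hs hG u' v) (E.ℓ r u)
  calc ⁅E.ℓ r u * E.ℓ r u', E.ℓ s v⁆
      = E.ℓ r u * ⁅E.ℓ r u', E.ℓ s v⁆ * (E.ℓ r u)⁻¹ * ⁅E.ℓ r u, E.ℓ s v⁆ := by
        simp only [commutatorElement_def]; group
    _ = ⁅E.ℓ r u', E.ℓ s v⁆ * ⁅E.ℓ r u, E.ℓ s v⁆ := by rw [h, mul_inv_cancel_right]
    _ = _ := (Subgroup.mem_center_iff.1 (bracket_central (E := E) hr hs hG u' v) _).symm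

theorem bracket_add_right (hD : Good D) (u v v' : F) :
    ⁅E.ℓ r u, E.ℓ s (v + v')⁆ = ⁅E.ℓ r u, E.ℓ s v⁆ * ⁅E.ℓ r u, E.ℓ s v'⁆ := by
  rw [E.comm_congr (v' := E.ℓ r u) (w' := E.ℓ s v * E.ℓ s v') rfl
    (by rw [map_mul, E.π_ℓ s hs, E.π_ℓ s hs, E.π_ℓ s hs, hD.xg_add])]
  have h := Subgroup.mem_center_iff.1 (bracket_central (E := E) hr hs hG u v') (E.ℓ s v)
  calc ⁅E.ℓ r u, E.ℓ s v * E.ℓ s v'⁆
      = ⁅E.ℓ r u, E.ℓ s v⁆ * (E.ℓ s v * ⁅E.ℓ r u, E.ℓ s v'⁆ * (E.ℓ s v)⁻¹) := by
        simp only [commutatorElement_def]; group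
    _ = _ := by rw [h, mul_inv_cancel_right]

theorem bracket_scale {g : Γ} {χ : ℕ → F} (hg : IsTor E g χ) (u v : F) :
    ⁅E.ℓ r (χ r * u), E.ℓ s (χ s * v)⁆ = ⁅E.ℓ r u, E.ℓ s v⁆ := by
  rw [← E.comm_congr (hg.conj_ℓ hr u) (hg.conj_ℓ hs v), ← MulAut.conj_apply, ← MulAut.conj_apply,
    ← map_commutatorElement, MulAut.conj_apply,
    Subgroup.mem_center_iff.1 (bracket_central (E := E) hr hs hG u v) g, mul_inv_cancel_right]

/-- separated commuting root elements have commuting lifts -/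
theorem commute_of_sep (hD : Good D) (h : Sep E r s) (u v : F) : Commute (E.ℓ r u) (E.ℓ s v) := by
  rw [← commutatorElement_eq_one_iff_commute]
  obtain ⟨g, χ, hg, ⟨h1, h2⟩ | ⟨h1, h2⟩⟩ := h
  · obtain ⟨w, rfl⟩ : ∃ w, v = (χ s - 1) * w :=
      ⟨v / (χ s - 1), by field_simp [sub_ne_zero.2 h2]⟩
    have e := bracket_scale hr hs hG hg u w
    rw [h1, one_mul, show χ s * w = (χ s - 1) * w + w by ring,
      bracket_add_right (E := E) hr hs hG hD] at e
    exact mul_eq_right.1 e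
  · obtain ⟨w, rfl⟩ : ∃ w, u = (χ r - 1) * w :=
      ⟨u / (χ r - 1), by field_simp [sub_ne_zero.2 h1]⟩
    have e := bracket_scale hr hs hG hg w v
    rw [h2, one_mul, show χ r * w = (χ r - 1) * w + w by ring,
      bracket_add_left (E := E) hr hs hG hD] at e
    exact mul_eq_right.1 e

end commuting

/-- all scalars on `x_r` come from the torus and there are five of them -/
theorem commute_self_of_scalars {E : CExt D F Γ} (hD : Good D) {r : ℕ} (hr : r < D.nroots)
    (hall : ∀ a : F, a ≠ 0 → ∃ g χ, IsTor E g χ ∧ χ r = a) (hF : ∃ S : Finset F, 4 < S.card)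
    (u v : F) : Commute (E.ℓ r u) (E.ℓ r v) := by
  classical
  have hG : ∀ u v, Commute (xg D F r u) (xg D F r v) := fun u v => by
    rw [Commute, SemiconjBy, ← hD.xg_add, ← hD.xg_add, add_comm]
  let C := fun u v => ⁅E.ℓ r u, E.ℓ r v⁆
  have hcen : ∀ u v, C u v ∈ Subgroup.center Γ := bracket_central hr hr hG
  have hl : ∀ a b w, C (a + b) w = C a w * C b w := bracket_add_left hr hr hG hD
  have hrr : ∀ w a b, C w (a + b) = C w a * C w b := bracket_add_right hr hr hG hD
  have hinv : ∀ a : F, a ≠ 0 → ∀ u v, C (a * u) (a * v) = C u v := fun a ha u v => by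
    obtain ⟨g, χ, hg, rfl⟩ := hall a ha
    exact bracket_scale hr hr hG hg u v
  have key : ∀ a : F, a ≠ 0 → a ≠ 1 → ∀ u v, C u v = C (a * u) v * C u (a * v) := by
    intro a ha ha1 u v
    have e1 := hinv (1 - a) (sub_ne_zero.2 (Ne.symm ha1)) u v
    have h0 : ∀ w x, C w x = C ((1 - a) * w) x * C (a * w) x := fun w x => by
      rw [← hl]; congr 1; ring
    have h0' : ∀ w x, C w x = C w ((1 - a) * x) * C w (a * x) := fun w x => by
      rw [← hrr]; congr 1; ring
    have h1 : C u v = C ((1 - a) * u) ((1 - a) * v) * C ((1 - a) * u) (a * v) * C (a * u) v := by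
      conv_lhs => rw [h0 u v, h0' ((1 - a) * u) v]
    have h3 : C ((1 - a) * u) (a * v) * C (a * u) v = 1 := mul_eq_left.1 (by
      rw [← mul_assoc, ← h1, e1] : C ((1 - a) * u) ((1 - a) * v) *
        (C ((1 - a) * u) (a * v) * C (a * u) v) = C ((1 - a) * u) ((1 - a) * v))
    have h4 : C u (a * v) = C ((1 - a) * u) (a * v) * C u v := by
      rw [h0 u (a * v), hinv a ha]
    rw [h4, ← mul_assoc, Subgroup.mem_center_iff.1 (hcen ((1 - a) * u) (a * v)) (C (a * u) v),
      h3, one_mul]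
  obtain ⟨S, hS⟩ := hF
  have hpick : ∀ T : Finset F, T.card ≤ 4 → ∃ x, x ∉ T := fun T hT => by
    obtain ⟨x, -, hx⟩ := Finset.exists_mem_notMem_of_card_lt_card (hT.trans_lt hS)
    exact ⟨x, hx⟩
  obtain ⟨a, ha⟩ := hpick {0, 1} (le_trans Finset.card_le_two (by norm_num))
  simp only [Finset.mem_insert, Finset.mem_singleton, not_or] at ha
  obtain ⟨b, hb⟩ := hpick {0, 1, -a, 1 - a} (le_trans (Finset.card_insert_le _ _)
    (Nat.add_le_add_right Finset.card_le_three 1))
  simp only [Finset.mem_insert, Finset.mem_singleton, not_or] at hb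
  have hab0 : a + b ≠ 0 := fun h => hb.2.2.1 (eq_neg_of_add_eq_zero_right h)
  have hab1 : a + b ≠ 1 := fun h => hb.2.2.2 (eq_sub_of_add_eq' h)
  rw [← commutatorElement_eq_one_iff_commute]
  have e := key (a + b) hab0 hab1 u v
  rw [add_mul, add_mul, hl, hrr] at e
  have e' : C u v = C u v * C u v := by
    calc C u v = C (a * u) v * C (b * u) v * (C u (a * v) * C u (b * v)) := e
      _ = C (a * u) v * (C (b * u) v * C u (a * v)) * C u (b * v) := by simp only [mul_assoc]
      _ = C (a * u) v * (C u (a * v) * C (b * u) v) * C u (b * v) := by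
          rw [Subgroup.mem_center_iff.1 (hcen (b * u) v) (C u (a * v))]
      _ = C (a * u) v * C u (a * v) * (C (b * u) v * C u (b * v)) := by simp only [mul_assoc]
      _ = C u v * C u v := by rw [← key a ha.1 ha.2 u v, ← key b hb.1 hb.2.1 u v]
  exact mul_eq_left.1 e'.symm

/-- `x_s` lies in a bracket whose lift commutes with that of `x_r`, and other letters with commuting
lifts -/
theorem commute_of_bracket {E : CExt D F Γ} (hC : CommGood D) {r s a b : ℕ}
    (hs : s < D.nroots) (ha : a < D.nroots) (hb : b < D.nroots) (hba : b ≠ a) (hbna : b ≠ D.neg a)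
    {pre post : List (ℕ × ℤ × ℕ × ℕ)} {z : ℤ} {i j : ℕ}
    (hsplit : D.commTerms a b = pre ++ (s, z, i, j) :: post) (hz : (z : F) ≠ 0)
    (hij : i = 1 ∨ j = 1) {u : F}
    (hmid : ∀ t' u', Commute (E.ℓ r u) ⁅(E.ℓ b u')⁻¹, (E.ℓ a t')⁻¹⁆)
    (hoth : ∀ c ∈ pre ++ post, ∀ u v, Commute (E.ℓ r u) (E.ℓ c.1 v)) (v : F) :
    Commute (E.ℓ r u) (E.ℓ s v) := by
  have hD := hC.toGood
  obtain ⟨t', u', ht⟩ : ∃ t' u' : F, (z : F) * (-t') ^ i * u' ^ j = v := by
    rcases hij with e | e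
    · exact ⟨-(v / z), 1, by rw [e, neg_neg, pow_one, one_pow, mul_one, mul_div_cancel₀ _ hz]⟩
    · exact ⟨-1, v / z, by rw [e, neg_neg, pow_one, one_pow, mul_one, mul_div_cancel₀ _ hz]⟩
  let f : ℕ × ℤ × ℕ × ℕ → Γ := fun e => E.ℓ e.1 ((e.2.1 : F) * (-t') ^ e.2.2.1 * u' ^ e.2.2.2)
  have hmem : ∀ c ∈ pre ++ post, c.1 < D.nroots := by
    intro c hc
    refine (hD.commTerms_coef ha hb (c := c) ?_).1
    show c ∈ D.commTerms a b
    rw [hsplit]; simp only [List.mem_append, List.mem_cons] at hc ⊢; tauto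
  have hπ : ∀ L : List (ℕ × ℤ × ℕ × ℕ), (∀ c ∈ L, c ∈ pre ++ post) → E.π (L.map f).prod =
      wordG D F (L.map fun e => (e.1, (e.2.1 : F) * (-t') ^ e.2.2.1 * u' ^ e.2.2.2)) := by
    intro L hL
    rw [map_list_prod, wordG, List.map_map, List.map_map]
    exact congrArg List.prod (List.map_congr_left fun c hc => E.π_ℓ _ (hmem c (hL c hc)) _)
  have hg := hC.xg_comm ha hb hba hbna t' u'
  have hw : wordG D F (D.commWord F a b t' u') =
      E.π (pre.map f).prod * E.π (E.ℓ s v) * E.π (post.map f).prod := by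
    rw [hπ pre (fun c hc => List.mem_append_left _ hc),
      hπ post (fun c hc => List.mem_append_right _ hc), E.π_ℓ s hs, ← ht, ChevalleyDatum.commWord,
      hsplit, wordG, wordG, wordG, List.map_append, List.map_cons, List.map_append, List.map_cons,
      List.prod_append, List.prod_cons, ← mul_assoc]
  rw [hw] at hg
  set B := E.ℓ b u'
  set A := E.ℓ a t'
  have hsπ : E.π (E.ℓ s v) =
      E.π ((pre.map f).prod⁻¹ * ⁅B⁻¹, A⁻¹⁆ * (post.map f).prod⁻¹) := by
    rw [map_mul, map_mul, map_inv, map_inv, map_commutatorElement, map_inv, map_inv,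
      show E.π B = xg D F b u' from E.π_ℓ b hb u', show E.π A = xg D F a t' from E.π_ℓ a ha t',
      commutatorElement_def, inv_inv, inv_inv, mul_assoc _ (xg D F b u'), hg]
    group
  refine E.commute_congr rfl hsπ ((Commute.mul_right (Commute.mul_right (Commute.inv_right ?_) ?_))
    (Commute.inv_right ?_))
  · exact Commute.list_prod_right _ _ fun g hg' => by
      obtain ⟨c, hc, rfl⟩ := List.mem_map.1 hg'
      exact hoth c (List.mem_append_left _ hc) _ _
  · exact hmid t' u'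
  · exact Commute.list_prod_right _ _ fun g hg' => by
      obtain ⟨c, hc, rfl⟩ := List.mem_map.1 hg'
      exact hoth c (List.mem_append_right _ hc) _ _

/-- `x_s` lies in a bracket of two root elements commuting with `x_r`, and other letters with commuting
lifts -/
theorem commute_of_witness {E : CExt D F Γ} (hC : CommGood D) {r s a b : ℕ} (hr : r < D.nroots)
    (hs : s < D.nroots) (ha : a < D.nroots) (hb : b < D.nroots) (hba : b ≠ a) (hbna : b ≠ D.neg a)
    (hra : ∀ u v, Commute (xg D F r u) (xg D F a v)) (hrb : ∀ u v, Commute (xg D F r u) (xg D F b v))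
    {pre post : List (ℕ × ℤ × ℕ × ℕ)} {z : ℤ} {i j : ℕ}
    (hsplit : D.commTerms a b = pre ++ (s, z, i, j) :: post) (hz : z = 1 ∨ z = -1)
    (hij : i = 1 ∨ j = 1)
    (hoth : ∀ c ∈ pre ++ post, ∀ u v, Commute (E.ℓ r u) (E.ℓ c.1 v)) (u v : F) :
    Commute (E.ℓ r u) (E.ℓ s v) := by
  have hD := hC.toGood
  refine commute_of_bracket hC hs ha hb hba hbna hsplit ?_ hij (fun t' u' => ?_) hoth v
  · rcases hz with e | e <;> simp [e]
  · have h1 : ∀ x ∈ ({b, a} : Set ℕ), ∀ w, E.π (E.ℓ r u * (E.ℓ x w)⁻¹ * (E.ℓ r u)⁻¹) =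
        E.π (E.ℓ x w)⁻¹ := by
      intro x hx w
      have hxl : x < D.nroots := by rcases hx with rfl | rfl <;> assumption
      have hc : Commute (xg D F r u) (xg D F x w) := by rcases hx with rfl | rfl
                                                        exacts [hrb u w, hra u w]
      rw [map_mul, map_mul, map_inv, map_inv, E.π_ℓ r hr, E.π_ℓ x hxl, hc.inv_right.eq,
        mul_inv_cancel_right]
    show E.ℓ r u * _ = _ * E.ℓ r u
    refine mul_inv_eq_iff_eq_mul.1 ?_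
    rw [← MulAut.conj_apply, map_commutatorElement, MulAut.conj_apply, MulAut.conj_apply]
    exact E.comm_congr (h1 b (Or.inl rfl) u') (h1 a (Or.inr rfl) t')

/-- the certificate of one pair of roots -/
noncomputable def pairK (D : ChevalleyDatum) (A : Acc) (r s : ℕ) : Bool :=
  forceP (commW A r s) fun w => w.isEmpty ||
    (ordK D A (r :: kmap Prod.fst w) && ordK D A (s :: kmap Prod.fst w) &&
      kall (r :: kmap Prod.fst w) (fun v => kall (r :: kmap Prod.fst w) fun x =>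
        Nat.beq x v || Nat.beq x (A.negf v) || Nat.blt (commW A v x).length w.length) &&
      kall (s :: kmap Prod.fst w) (fun v => kall (s :: kmap Prod.fst w) fun x =>
        Nat.beq x v || Nat.beq x (A.negf v) || Nat.blt (commW A v x).length w.length))

variable (E : CExt D F Γ) (hS : DOK D) (hC : CommGood D) (hscal : ∀ r < D.nroots, Scal E r)
  (hcomm : ∀ r < D.nroots, ∀ s < D.nroots, (s = r ∨ (s ≠ D.neg r ∧ D.commTerms r s = [])) →
    ∀ u v, Commute (E.ℓ r u) (E.ℓ s v))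

/-- the canonical lift of `x_r(t)` -/
noncomputable def canY (r : ℕ) (t : F) : Γ :=
  if hr : r < D.nroots then
    ⁅(hscal r hr).choose,
      E.ℓ r (t / ((hscal r hr).choose_spec.choose r - 1))⁆
  else 1

theorem π_canY {r : ℕ} (hr : r < D.nroots) (hD : Good D) (t : F) :
    E.π (canY E hscal r t) = xg D F r t := by
  obtain ⟨hg, h1⟩ := (hscal r hr).choose_spec.choose_spec
  rw [canY, dif_pos hr]
  set g := (hscal r hr).choose
  set χ := (hscal r hr).choose_spec.choose
  have hne : χ r - 1 ≠ 0 := sub_ne_zero.2 h1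
  rw [map_commutatorElement, commutatorElement_def, E.π_ℓ r hr, hg.conj r hr,
    hD.xg_inv, ← hD.xg_add]
  congr 1
  field_simp
  ring

include hS hcomm in
theorem canY_add {r : ℕ} (hr : r < D.nroots) (t u : F) :
    canY E hscal r (t + u) = canY E hscal r t * canY E hscal r u := by
  have hD := hS.good
  set g := (hscal r hr).choose
  set c := (hscal r hr).choose_spec.choose r - 1
  have hy : ∀ x, canY E hscal r x = ⁅g, E.ℓ r (x / c)⁆ := fun x => by rw [canY, dif_pos hr]
  rw [hy, hy t, hy u, E.comm_congr (v' := g) (w' := E.ℓ r (t / c) * E.ℓ r (u / c)) rfl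
    (by rw [map_mul, E.π_ℓ r hr, E.π_ℓ r hr, E.π_ℓ r hr, ← hD.xg_add, add_div])]
  have hc : Commute (E.ℓ r (t / c)) ⁅g, E.ℓ r (u / c)⁆ := by
    rw [← hy]
    exact E.commute_congr rfl (by rw [π_canY E hscal hr hD, E.π_ℓ r hr])
      (hcomm r hr r hr (Or.inl rfl) (t / c) u)
  calc ⁅g, E.ℓ r (t / c) * E.ℓ r (u / c)⁆
      = ⁅g, E.ℓ r (t / c)⁆ * (E.ℓ r (t / c) * ⁅g, E.ℓ r (u / c)⁆ * (E.ℓ r (t / c))⁻¹) := by
        simp only [commutatorElement_def]; group
    _ = _ := by rw [hc.eq, mul_inv_cancel_right]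

theorem canY_conj {r : ℕ} (hr : r < D.nroots) {g : Γ} {χ : ℕ → F} (hg : IsTor E g χ) (t : F) :
    g * canY E hscal r t * g⁻¹ = canY E hscal r (χ r * t) := by
  obtain ⟨hH, -⟩ := (hscal r hr).choose_spec.choose_spec
  rw [canY, dif_pos hr, canY, dif_pos hr, ← MulAut.conj_apply, map_commutatorElement,
    MulAut.conj_apply, MulAut.conj_apply]
  exact E.comm_congr (hg.commute hH) (by rw [hg.conj_ℓ hr, mul_div_assoc])

/-- The canonical lifts as root elements. -/
noncomputable def canPre : Pre D F Γ where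
  π := E.π
  y := canY E hscal
  π_y _ hr t := π_canY E hscal hr hS.good t
  y_add _ hr t u := canY_add E hS hscal hcomm hr t u

include hS hC hcomm in
/-- Equivariant lifts satisfy the commutator formula on separated pairs. -/
theorem allRel_of_equivariant (R : Pre D F Γ) (hπ : R.π = E.π)
    (hconjR : ∀ g χ, IsTor E g χ → ∀ v < D.nroots, ∀ a, g * R.y v a * g⁻¹ = R.y v (χ v * a))
    (hsep : ∀ r < D.nroots, ∀ s < D.nroots, s ≠ r → s ≠ D.neg r → D.commTerms r s ≠ [] →
      (Sep E r s ∨ ∃ p : ℕ, (p : F) = 0 ∧ ∀ z, E.π z = 1 → z ^ p = 1 → z = 1) ∨ R.Rel r s)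
    (hpair : ∀ r < D.nroots, ∀ s < D.nroots, s ≠ r → s ≠ D.neg r → pairK D (std D) r s = true) :
    R.AllRel := by
  have hD := hS.good
  suffices h : ∀ k, ∀ r < D.nroots, ∀ s < D.nroots, s ≠ r → s ≠ D.neg r →
      (D.commTerms r s).length = k → R.Rel r s by
    exact fun r hr s hs h1 h2 => h _ r hr s hs h1 h2 rfl
  intro k
  induction k using Nat.strong_induction_on with
  | _ k ih =>
  intro r hr s hs h1 h2 hk t u
  by_cases he : D.commTerms r s = []
  · rw [ChevalleyDatum.commWord, he, List.map_nil]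
    show ⁅R.y s u, R.y r t⁆ = 1
    rw [commutatorElement_eq_one_iff_commute]
    exact E.commute_congr (by rw [← hπ, R.π_y s hs, hπ, E.π_ℓ s hs])
      (by rw [← hπ, R.π_y r hr, hπ, E.π_ℓ r hr]) (hcomm r hr s hs (Or.inr ⟨h2, he⟩) t u).symm
  rcases hsep r hr s hs h1 h2 he with hsep' | hrel
  swap
  · exact hrel t u
  have hp := hpair r hr s hs h1 h2
  simp only [pairK, forceP_eq, commW_std, Bool.or_eq_true, List.isEmpty_iff, Bool.and_eq_true,
    kall_iff, std_negf, Nat.beq_eq, Nat.blt_eq, kmap_eq] at hp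
  obtain ⟨⟨⟨hor, hos⟩, hlr⟩, hls⟩ := hp.resolve_left he
  set ls := (D.commTerms r s).map Prod.fst
  have hinj : ∀ x ∈ [r, s], ∀ {a b : Γ}, a ∈ R.W (x :: ls) → b ∈ R.W (x :: ls) →
      R.π a = R.π b → a = b := by
    intro x hx a b ha hb hab
    have key : ∀ {L : List ℕ}, ordK D (std D) L = true →
        (∀ v ∈ L, ∀ w ∈ L, (w = v ∨ w = D.neg v) ∨ (D.commTerms v w).length < (D.commTerms r s).length) →
        ∀ v ∈ L, ∀ w ∈ L, w ≠ v → w ≠ D.neg v → R.Rel v w := fun {L} hL hlt v hv w hw n1 n2 =>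
      ih _ (hk ▸ (hlt v hv w hw).resolve_left (fun h => h.elim n1 n2)) v (ordK_lt hL v hv) w
        (ordK_lt hL w hw) n1 n2 rfl
    rcases List.mem_cons.1 hx with rfl | hx
    · exact R.eq_of_W hS hor (key hor hlr) ha hb hab
    · rw [List.mem_singleton] at hx
      subst hx
      exact R.eq_of_W hS hos (key hos hls) ha hb hab
  let P : F → F → Γ := fun t u => R.word (D.commWord F r s (-t) (-u))
  have hPW : ∀ x t u, P t u ∈ R.W (x :: ls) := fun x t u => R.word_mem_W (Pre.word_letters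
    (fun c hc => List.mem_cons_of_mem _ (List.mem_map_of_mem hc)) _ _)
  have hπP : ∀ t u, R.π (P t u) = R.π ⁅R.y s u, R.y r t⁆ := by
    intro t u
    have hg := hC.xg_comm (F := F) hr hs h1 h2 (-t) (-u)
    rw [map_commutatorElement, R.π_y s hs, R.π_y r hr]
    show R.π (R.word _) = _
    rw [Pre.word, map_list_prod, List.map_map,
      show List.map (R.π ∘ fun p : ℕ × F => R.y p.1 p.2) (D.commWord F r s (-t) (-u)) =
        (D.commWord F r s (-t) (-u)).map fun p => xg D F p.1 p.2 from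
      List.map_congr_left fun p hp => by
        obtain ⟨c, hc, rfl⟩ := List.mem_map.1 hp
        exact R.π_y _ (hD.commTerms_coef hr hs hc).1 _]
    rw [wordG] at hg
    rw [commutatorElement_def, hD.xg_inv, hD.xg_inv,
      show xg D F s u = (xg D F s (-u))⁻¹ by rw [hD.xg_inv, neg_neg],
      show xg D F r t = (xg D F r (-t))⁻¹ by rw [hD.xg_inv, neg_neg], mul_assoc _ (xg D F s (-u)), hg]
    group
  let C : F → F → Γ := fun t u => ⁅R.y s u, R.y r t⁆ * (P t u)⁻¹
  have hCc : ∀ t u, C t u ∈ Subgroup.center Γ := fun t u => E.central (by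
    show E.π (C t u) = 1
    rw [← hπ]
    rw [map_mul, map_inv, hπP, mul_inv_cancel])
  have hcP : ∀ t u, ⁅R.y s u, R.y r t⁆ = C t u * P t u := fun t u => by simp [C]
  have hπC : ∀ t u, R.π (C t u) = 1 := fun t u => by
    rw [map_mul, map_inv, hπP, mul_inv_cancel]
  have hfin : ∀ x ∈ [r, s], ∀ {c c' p p' : Γ}, R.π c = 1 → R.π c' = 1 → p ∈ R.W (x :: ls) →
      p' ∈ R.W (x :: ls) → c * p = c' * p' → c = c' := by
    intro x hx c c' p p' hc hc' hp hp' e
    have h := congrArg R.π e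
    rw [map_mul, map_mul, hc, hc', one_mul, one_mul] at h
    rw [hinj x hx hp hp' h] at e
    exact mul_right_cancel e
  have haddl : ∀ t t' u, C (t + t') u = C t u * C t' u := by
    intro t t' u
    refine hfin r (by simp) (hπC _ _) (by rw [map_mul, hπC, hπC, mul_one])
      (p := P (t + t') u) (p' := P t u * (R.y r t * P t' u * (R.y r t)⁻¹)) (hPW r (t + t') u)
      (mul_mem (hPW r t u) (mul_mem (mul_mem (R.y_mem_W (List.mem_cons_self ..) t) (hPW r t' u))
        (inv_mem (R.y_mem_W (List.mem_cons_self ..) t)))) ?_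
    rw [← hcP, R.y_add r hr,
      show ⁅R.y s u, R.y r t * R.y r t'⁆ =
        ⁅R.y s u, R.y r t⁆ * (R.y r t * ⁅R.y s u, R.y r t'⁆ * (R.y r t)⁻¹) by
        simp only [commutatorElement_def]; group, hcP, hcP]
    have h := Subgroup.mem_center_iff.1 (hCc t' u)
    rw [← mul_assoc (R.y r t) (C t' u), h (R.y r t)]
    simp only [mul_assoc]
    rw [← mul_assoc (P t u) (C t' u), h (P t u)]
    simp only [mul_assoc]
  have haddr : ∀ t u u', C t (u + u') = C t u' * C t u := by
    intro t u u'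
    refine hfin s (by simp) (hπC _ _) (by rw [map_mul, hπC, hπC, mul_one])
      (p := P t (u + u')) (p' := R.y s u * P t u' * (R.y s u)⁻¹ * P t u) (hPW s t (u + u'))
      (mul_mem (mul_mem (mul_mem (R.y_mem_W (List.mem_cons_self ..) u) (hPW s t u'))
        (inv_mem (R.y_mem_W (List.mem_cons_self ..) u))) (hPW s t u)) ?_
    rw [← hcP, R.y_add s hs,
      show ⁅R.y s u * R.y s u', R.y r t⁆ =
        R.y s u * ⁅R.y s u', R.y r t⁆ * (R.y s u)⁻¹ * ⁅R.y s u, R.y r t⁆ by
        simp only [commutatorElement_def]; group, hcP, hcP]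
    have h := Subgroup.mem_center_iff.1 (hCc t u')
    have h' := Subgroup.mem_center_iff.1 (hCc t u)
    rw [← mul_assoc (R.y s u) (C t u'), h (R.y s u)]
    simp only [mul_assoc]
    congr 1
    rw [← mul_assoc (R.y s u)⁻¹, h' (R.y s u)⁻¹]
    simp only [← mul_assoc]
    rw [h' (R.y s u * P t u')]
    simp only [mul_assoc]
  suffices hone : ∀ t u, C t u = 1 by
    show ⁅R.y s u, R.y r t⁆ = P t u
    rw [hcP, hone, one_mul]
  rcases hsep' with hsep' | ⟨p, hp0, htor⟩
  swap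
  · intro t u
    have hk : ∀ k : ℕ, C t u ^ k = C (k * t) u := fun k => by
      induction k with
      | zero =>
        rw [pow_zero, Nat.cast_zero, zero_mul]
        exact (left_eq_mul.1 (by rw [← haddl, add_zero] : C 0 u = C 0 u * C 0 u)).symm
      | succ k ihk => rw [pow_succ, ihk, ← haddl, Nat.cast_succ, add_one_mul]
    refine htor _ (by rw [← hπ]; exact hπC t u) ?_
    rw [hk, hp0, zero_mul]
    exact left_eq_mul.1 (by rw [← haddl, add_zero] : C 0 u = C 0 u * C 0 u)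
  obtain ⟨g, χ, hg, hχ⟩ := hsep'
  have hconj : ∀ v a, v < D.nroots → g * R.y v a * g⁻¹ = R.y v (χ v * a) := fun v a hv =>
    hconjR g χ hg v hv a
  have hscale : ∀ t u, C (χ r * t) (χ s * u) = C t u := by
    intro t u
    have hgP : g * P t u * g⁻¹ ∈ R.W (r :: ls) := by
      show g * R.word _ * g⁻¹ ∈ _
      rw [Pre.word, ← MulAut.conj_apply, map_list_prod, List.map_map]
      refine Subgroup.list_prod_mem _ fun a ha => ?_
      obtain ⟨p, hp, rfl⟩ := List.mem_map.1 ha
      obtain ⟨c, hc, rfl⟩ := List.mem_map.1 hp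
      show g * R.y c.1 _ * g⁻¹ ∈ _
      rw [hconj _ _ (hD.commTerms_coef hr hs hc).1]
      exact R.y_mem_W (List.mem_cons_of_mem _ (List.mem_map_of_mem hc)) _
    refine hfin r (by simp) (hπC _ _) (hπC t u) (p := P (χ r * t) (χ s * u)) (hPW r _ _) hgP ?_
    rw [← hcP, ← hconj s u hs, ← hconj r t hr, ← MulAut.conj_apply, ← MulAut.conj_apply,
      ← map_commutatorElement, hcP, map_mul, MulAut.conj_apply, MulAut.conj_apply,
      Subgroup.mem_center_iff.1 (hCc t u) g, mul_inv_cancel_right]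
  intro t u
  rcases hχ with ⟨e1, e2⟩ | ⟨e1, e2⟩
  · obtain ⟨w, rfl⟩ : ∃ w, u = (χ s - 1) * w :=
      ⟨u / (χ s - 1), by field_simp [sub_ne_zero.2 e2]⟩
    have e := hscale t w
    rw [e1, one_mul, show χ s * w = (χ s - 1) * w + w by ring, haddr] at e
    exact mul_eq_left.1 e
  · obtain ⟨w, rfl⟩ : ∃ w, t = (χ r - 1) * w :=
      ⟨t / (χ r - 1), by field_simp [sub_ne_zero.2 e1]⟩
    have e := hscale w u
    rw [e2, one_mul, show χ r * w = (χ r - 1) * w + w by ring, haddl] at e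
    exact mul_eq_right.1 e

include hC in
/-- The canonical lifts satisfy the commutator formula. -/
theorem canPre_allRel
    (hsep : ∀ r < D.nroots, ∀ s < D.nroots, s ≠ r → s ≠ D.neg r → D.commTerms r s ≠ [] → Sep E r s)
    (hpair : ∀ r < D.nroots, ∀ s < D.nroots, s ≠ r → s ≠ D.neg r → pairK D (std D) r s = true) :
    (canPre E hS hscal hcomm).AllRel :=
  allRel_of_equivariant E hS hC hcomm _ rfl (fun _ _ hg _ hv a => canY_conj E hscal hv hg a)
    (fun r hr s hs h1 h2 he => Or.inl (Or.inl (hsep r hr s hs h1 h2 he))) hpair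

end Cfsg.Agent.KnownSimple.Steinberg.Gen
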