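import Cfsg.Agent.KnownSimple.Steinberg.Gen.Bound
import Cfsg.Agent.KnownSimple.Steinberg.Gen.Nbr
import Cfsg.Agent.KnownSimple.Steinberg.Gen.PackG2
import Cfsg.Agent.KnownSimple.Steinberg.Gen.BigG2

/-!
The Schur multiplier of type G2 over fields with more than four elements (helper53).
-/

set_option autoImplicit false

namespace Cfsg.Agent.KnownSimple.Steinberg.Gen

open Cfsg Cfsg.Lie Cfsg.Agent.ChevCore Cfsg.Agent.ChevGroup

theorem elimG2 : elimB chevG2 0 1 [1, 0] [[2, 1], [3, 2]] = true := by decide +kernel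

theorem multiplierG2 {F : Type*} [Field F] [Fintype F] (hF : 5 ≤ Fintype.card F) :
    HasCyclicSchurMultiplier ↥(chevG2.group F) 1 :=
  hasCyclicSchurMultiplier_one packG2.dok packG2.cert (nbrOK_of_mem (by simp)) TypeG2.model elimG2
    fun _ _ _ E => exists_pre_of_bigK packG2.dok packG2.comm bigKG2 E
      ⟨Finset.univ, by rw [Finset.card_univ]; omega⟩

end Cfsg.Agent.KnownSimple.Steinberg.Gen
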