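import Cfsg.Agent.KnownSimple.Steinberg.Gen.LargeAll

/-!
Central extensions whose kernel has no `p`-torsion, `p` the characteristic: the root elements have unique
lifts of order dividing `p`, and these satisfy (R1), (R2). In particular projective representations in
the natural characteristic lift (helper53).
-/

set_option autoImplicit false

namespace Cfsg.Agent.KnownSimple.Steinberg.Gen

open Cfsg Cfsg.Lie Cfsg.Agent.ChevCore Cfsg.Agent.ChevGroup
open scoped commutatorElement

variable {D : ChevalleyDatum} {F : Type*} [Field F] {Γ : Type*} [Group Γ]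

theorem commute_of_pow_eq_one (E : CExt D F Γ) {p : ℕ}
    (htor : ∀ z, E.π z = 1 → z ^ p = 1 → z = 1) {A B : Γ} (hB : B ^ p = 1)
    (h : Commute (E.π A) (E.π B)) : Commute A B := by
  rw [← commutatorElement_eq_one_iff_commute]
  have hz : E.π ⁅A, B⁆ = 1 := by
    rw [map_commutatorElement, commutatorElement_eq_one_iff_commute]; exact h
  refine htor _ hz ?_
  have hc := E.central hz
  have e : MulAut.conj A B = ⁅A, B⁆ * B := by simp [commutatorElement_def]
  have e2 : (MulAut.conj A B) ^ p = ⁅A, B⁆ ^ p * B ^ p := by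
    rw [e, Commute.mul_pow (Subgroup.mem_center_iff.1 hc B).symm]
  rwa [← map_pow, hB, map_one, mul_one, eq_comm] at e2

theorem eq_of_pow_eq_one (E : CExt D F Γ) {p : ℕ}
    (htor : ∀ z, E.π z = 1 → z ^ p = 1 → z = 1) {A B : Γ} (hA : A ^ p = 1) (hB : B ^ p = 1)
    (h : E.π A = E.π B) : A = B := by
  refine mul_inv_eq_one.1 (htor _ (by rw [map_mul, map_inv, h, mul_inv_cancel]) ?_)
  rw [Commute.mul_pow (commute_of_pow_eq_one E htor hB (by rw [h])).inv_right, hA, inv_pow, hB,
    inv_one, mul_one]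

/-- lifts of order dividing `p` satisfy all relations -/
theorem exists_pre_of_rootlift (hS : DOK D) (hC : CommGood D) (E : CExt D F Γ) {p : ℕ}
    (hp : (p : F) = 0) (htor : ∀ z, E.π z = 1 → z ^ p = 1 → z = 1)
    (hroot : ∀ r < D.nroots, ∀ t, ∃ y, E.π y = xg D F r t ∧ y ^ p = 1)
    (hpair : ∀ r < D.nroots, ∀ s < D.nroots, s ≠ r → s ≠ D.neg r → pairK D (std D) r s = true) :
    ∃ R : Pre D F Γ, R.π = E.π ∧ R.AllRel := by
  have hD := hS.good
  have hex : ∀ r t, ∃ y : Γ, r < D.nroots → E.π y = xg D F r t ∧ y ^ p = 1 := fun r t => by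
    by_cases hr : r < D.nroots
    · obtain ⟨y, hy⟩ := hroot r hr t; exact ⟨y, fun _ => hy⟩
    · exact ⟨1, fun e => absurd e hr⟩
  choose y hy using hex
  have hyc : ∀ {r s : ℕ}, r < D.nroots → s < D.nroots → ∀ {t u : F},
      Commute (xg D F r t) (xg D F s u) → Commute (y r t) (y s u) := fun {r s} hr hs {t u} h =>
    commute_of_pow_eq_one E htor (hy s u hs).2 (by rwa [(hy r t hr).1, (hy s u hs).1])
  let R : Pre D F Γ := ⟨E.π, y, fun r hr t => (hy r t hr).1, fun r hr t u => by
    refine eq_of_pow_eq_one E htor (hy r _ hr).2 ?_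
      (by rw [map_mul, (hy r _ hr).1, (hy r t hr).1, (hy r u hr).1, hD.xg_add])
    rw [Commute.mul_pow (hyc hr hr (commute_xg hC hr hr (Or.inl rfl) t u)), (hy r t hr).2,
      (hy r u hr).2, one_mul]⟩
  have hcomm : ∀ r < D.nroots, ∀ s < D.nroots,
      (s = r ∨ (s ≠ D.neg r ∧ D.commTerms r s = [])) → ∀ u v, Commute (E.ℓ r u) (E.ℓ s v) :=
    fun r hr s hs hrs u v => E.commute_congr (by rw [E.π_ℓ r hr, (hy r u hr).1])
      (by rw [E.π_ℓ s hs, (hy s v hs).1]) (hyc hr hs (commute_xg hC hr hs hrs u v))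
  refine ⟨R, rfl, allRel_of_equivariant E hS hC hcomm R rfl (fun g χ hg v hv a => ?_)
    (fun _ _ _ _ _ _ _ => Or.inl (Or.inr ⟨p, hp, htor⟩)) hpair⟩
  refine eq_of_pow_eq_one E htor ?_ (hy v _ hv).2 ?_
  · rw [← MulAut.conj_apply, ← map_pow, (hy v a hv).2, map_one]
  · rw [map_mul, map_mul, map_inv, (hy v a hv).1, (hy v _ hv).1, hg.conj v hv]

theorem pairK_of_bigK (h : bigK D (std D) = true) :
    ∀ r < D.nroots, ∀ s < D.nroots, s ≠ r → s ≠ D.neg r → pairK D (std D) r s = true := by
  simp only [bigK, kallUpTo_iff, forceN_eq, Bool.and_eq_true, Bool.or_eq_true, std_negf,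
    Nat.beq_eq] at h
  exact fun r hr s hs h1 h2 => (((h r hr).2 s hs).resolve_left fun e => e.elim h1 h2).2

/-- Root elements with all relations define a homomorphism from the cover. -/
theorem exists_cover_hom (hC : CommGood D) (R : Pre D F Γ) (hrel : R.AllRel) :
    ∃ τ : D.SteinbergCover F →* Γ, R.π.comp τ = (scData (F := F) hC).π := by
  have hD := hC.toGood
  let f := fun x : Fin D.nroots × F => R.y x.1.val x.2
  have hX : ∀ {r : ℕ}, r < D.nroots → ∀ t, FreeGroup.lift f (D.stX r t) = R.y r t := fun hr t => by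
    rw [ChevalleyDatum.stX, dif_pos hr, FreeGroup.lift_apply_of]
  have hrels : ∀ w ∈ D.steinbergRelsAB F, FreeGroup.lift f w = 1 := by
    rintro w (⟨r, t, u, hr, rfl⟩ | ⟨r, s, t, u, hr, hs, h1, h2, rfl⟩)
    · rw [map_mul, map_mul, map_inv, hX hr, hX hr, hX hr, R.y_add r hr, mul_inv_cancel]
    · simp only [map_mul, map_inv, hX hr, hX hs]
      rw [mul_inv_eq_one, ChevalleyDatum.stWord, map_list_prod, List.map_map]
      have h := hrel r hr s hs h1 h2 (-t) (-u)
      rw [commutatorElement_def, R.y_neg hr, R.y_neg hs, inv_inv, inv_inv, neg_neg, neg_neg] at h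
      rw [h, Pre.word]
      refine congrArg List.prod (List.map_congr_left fun e he => ?_)
      obtain ⟨c, hc', rfl⟩ := List.mem_map.1 he
      exact (hX (hD.commTerms_coef hr hs hc').1 _).symm
  refine ⟨PresentedGroup.toGroup hrels, PresentedGroup.ext fun x => ?_⟩
  rw [MonoidHom.comp_apply, PresentedGroup.toGroup.of, R.π_y _ x.1.isLt]
  exact ((scData (F := F) hC).π_of _ _).symm

/-- a lift of an element of order `p` may be taken of order dividing `p` -/
theorem exists_pow_eq_one {H : Type*} [Group H] (π : Γ →* H) {p : ℕ} (hp : p.Prime)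
    (htor : ∀ z, π z = 1 → z ^ p = 1 → z = 1) {w : Γ} (hw : π w ^ p = 1) {N : ℕ} (hN : 0 < N)
    (hwN : w ^ N = 1) : ∃ y, π y = π w ∧ y ^ p = 1 := by
  obtain ⟨k, m, hm, hkm⟩ : ∃ k m, ¬ p ∣ m ∧ N = p ^ k * m :=
    Nat.exists_eq_pow_mul_and_not_dvd hN.ne' p hp.ne_one
  have hc : Nat.Coprime (p ^ (k + 1)) m :=
    Nat.Coprime.pow_left _ (hp.coprime_iff_not_dvd.2 hm)
  obtain ⟨e, he1, he2⟩ := Nat.chineseRemainder hc 1 0
  obtain ⟨c, rfl⟩ := (Nat.modEq_zero_iff_dvd.1 he2 : m ∣ e)
  have hy : (w ^ (m * c)) ^ (p ^ k) = 1 := by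
    rw [← pow_mul, show m * c * p ^ k = N * c by rw [hkm]; ring, pow_mul, hwN, one_pow]
  have hπ : π (w ^ (m * c)) = π w := by
    have h1 : m * c % p = 1 := by
      rw [Nat.ModEq.of_dvd (dvd_pow_self p k.succ_ne_zero) he1]
      exact Nat.one_mod_eq_one.2 hp.ne_one
    rw [map_pow, pow_eq_pow_mod _ hw, h1, pow_one]
  refine ⟨_, hπ, ?_⟩
  set y := w ^ (m * c)
  have hπy : π (y ^ p) = 1 := by rw [map_pow, hπ, hw]
  have key : ∀ j, y ^ (p ^ (j + 1)) = 1 → y ^ p = 1 := by
    intro j
    induction j with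
    | zero => intro h; rwa [pow_one] at h
    | succ j ih =>
      intro h
      refine ih (htor _ ?_ ?_)
      · rw [map_pow, pow_succ', pow_mul, ← map_pow, hπy, one_pow]
      · rwa [← pow_mul, ← pow_succ]
  cases k with
  | zero => rw [pow_zero, pow_one] at hy; rw [hy, one_pow]
  | succ k => exact key k hy

/-- A projective representation in the natural characteristic lifts to the cover. -/
theorem exists_lift_natural {two : Bool} (P : Pack D two)
    (hK : two = true → ∃ x : F, x ≠ 0 ∧ x ≠ 1)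
    {p : ℕ} [hp : Fact p.Prime] [CharP F p] {L : Type*} [Field L] [CharP L p] {n : ℕ}
    (hlift : ∀ (P₀ : Subgroup (GL (Fin n) L × ↥(D.group F))) (X : CExt D F ↥P₀),
      (∀ z, X.π z = 1 → z ^ p = 1 → z = 1) →
      (∀ r < D.nroots, ∀ t, ∃ y, X.π y = xg D F r t ∧ y ^ p = 1) →
      ∃ R : Pre D F ↥P₀, R.π = X.π ∧ R.AllRel)
    (φ : ↥(D.group F) →* GL (Fin n) L ⧸ Subgroup.center (GL (Fin n) L)) :
    ∃ ψ : D.SteinbergCover F →* GL (Fin n) L,
      (QuotientGroup.mk' (Subgroup.center (GL (Fin n) L))).comp ψ =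
        φ.comp (toGroup (scData (F := F) P.comm) P.comm.toGood) := by
  have hD := P.comm.toGood
  set S := scData (F := F) P.comm
  set mk := QuotientGroup.mk' (Subgroup.center (GL (Fin n) L))
  set P₀ : Subgroup (GL (Fin n) L × ↥(D.group F)) :=
    (mk.comp (MonoidHom.fst _ _)).eqLocus (φ.comp (MonoidHom.snd _ _))
  let q : ↥P₀ →* ↥(D.group F) := (MonoidHom.snd _ _).comp P₀.subtype
  have hqs : Function.Surjective q := fun g => by
    obtain ⟨M, hM⟩ := QuotientGroup.mk'_surjective (Subgroup.center (GL (Fin n) L)) (φ g)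
    exact ⟨⟨(M, g), hM⟩, rfl⟩
  have hker : ∀ z : ↥P₀, q z = 1 → z.1.1 ∈ Subgroup.center (GL (Fin n) L) := fun z h => by
    have e : mk z.1.1 = φ (q z) := z.2
    rwa [h, map_one, QuotientGroup.mk'_apply, QuotientGroup.eq_one_iff] at e
  let X : CExt D F ↥P₀ :=
    { π := (D.group F).subtype.comp q
      central := fun z h => by
        have hz : q z = 1 := Subtype.ext h
        refine Subgroup.mem_center_iff.2 fun g => Subtype.ext (Prod.ext ?_ ?_)
        · exact Subgroup.mem_center_iff.1 (hker z hz) _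
        · show q g * q z = q z * q g
          rw [hz, mul_one, one_mul]
      ℓ := fun r t => if hr : r < D.nroots then
        Function.surjInv hqs ⟨xg D F r t, xg_mem_group hD hr t⟩ else 1
      π_ℓ := fun r hr t => by
        rw [dif_pos hr, MonoidHom.comp_apply, Function.surjInv_eq hqs]; rfl }
  have hscal : ∀ z : ↥P₀, X.π z = 1 → ∃ a : Lˣ, Matrix.GeneralLinearGroup.scalar (Fin n) a = z.1.1 := by
    intro z hz
    have h := hker z (Subtype.ext hz)
    rwa [Matrix.GeneralLinearGroup.center_eq_range_scalar] at h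
  have htor : ∀ z, X.π z = 1 → z ^ p = 1 → z = 1 := by
    intro z hz hzp
    refine Subtype.ext (Prod.ext ?_ (Subtype.ext hz))
    obtain ⟨a, ha⟩ := hscal z hz
    rcases Nat.eq_zero_or_pos n with rfl | hn
    · exact Units.ext (Matrix.ext fun i => i.elim0)
    have h1 : Matrix.GeneralLinearGroup.scalar (Fin n) (a ^ p) = 1 := by
      rw [map_pow, ha]; exact congrArg (fun x : ↥P₀ => x.1.1) hzp
    have h2 : (a : L) ^ p = 1 := by
      have := congrArg (fun g : GL (Fin n) L => (g : Matrix (Fin n) (Fin n) L) ⟨0, hn⟩ ⟨0, hn⟩) h1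
      simpa [Matrix.diagonal_pow] using this
    have h3 : a = 1 := Units.ext (frobenius_inj L p (by simpa [frobenius_def] using h2))
    rw [← ha, h3, map_one]
    rfl
  have hperf : commutator (D.SteinbergCover F) = ⊤ := P.perfect S hK
  have hperfG : commutator ↥(D.group F) = ⊤ := by
    rw [← top_le_iff, ← Subgroup.map_top_of_surjective _ (toGroup_surjective S hD), ← hperf,
      commutator_def, commutator_def, Subgroup.map_commutator,
      Subgroup.map_top_of_surjective _ (toGroup_surjective S hD)]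
  have hroot : ∀ r < D.nroots, ∀ t, ∃ y, X.π y = xg D F r t ∧ y ^ p = 1 := by
    intro r hr t
    obtain ⟨w, hw, e⟩ : (⟨xg D F r t, xg_mem_group hD hr t⟩ : ↥(D.group F)) ∈
        (commutator ↥P₀).map q := by
      rw [commutator_def, Subgroup.map_commutator, Subgroup.map_top_of_surjective q hqs,
        ← commutator_def, hperfG]
      exact Subgroup.mem_top _
    have hwπ : X.π w = xg D F r t := congrArg Subtype.val e
    have hdet : Matrix.GeneralLinearGroup.det w.1.1 = 1 := by
      have := Abelianization.commutator_subset_ker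
        (Matrix.GeneralLinearGroup.det.comp ((MonoidHom.fst _ _).comp P₀.subtype)) hw
      exact this
    have hwp : X.π w ^ p = 1 := by
      rw [hwπ]
      have hk : ∀ k : ℕ, xg D F r t ^ k = xg D F r (k * t) := fun k => by
        induction k with
        | zero => simp [hD.xg_zero]
        | succ k ih => rw [pow_succ, ih, ← hD.xg_add, Nat.cast_succ, add_one_mul]
      rw [hk, CharP.cast_eq_zero, zero_mul, hD.xg_zero]
    obtain ⟨a, ha⟩ := hscal (w ^ p) (by rw [map_pow, hwp])
    have hpn : w ^ (p * max n 1) = 1 := by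
      rw [pow_mul]
      refine Subtype.ext (Prod.ext ?_ (Subtype.ext ?_))
      · show (w ^ p).1.1 ^ max n 1 = 1
        rcases Nat.eq_zero_or_pos n with rfl | hn
        · exact Units.ext (Matrix.ext fun i => i.elim0)
        rw [max_eq_left hn, ← ha, ← map_pow]
        have h := congrArg Matrix.GeneralLinearGroup.det ha
        rw [show (w ^ p).1.1 = w.1.1 ^ p from rfl, map_pow, hdet, one_pow] at h
        have h' : a ^ n = 1 := Units.ext (by simpa using congrArg Units.val h)
        rw [h', map_one]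
      · show X.π ((w ^ p) ^ max n 1) = 1
        rw [map_pow, map_pow, hwp, one_pow]
    obtain ⟨y, hy1, hy2⟩ := exists_pow_eq_one X.π hp.out htor hwp
      (Nat.mul_pos hp.out.pos (by omega)) hpn
    exact ⟨y, hy1.trans hwπ, hy2⟩
  obtain ⟨R, hR, hrel⟩ := hlift P₀ X htor hroot
  obtain ⟨τ, hτ⟩ := exists_cover_hom P.comm R hrel
  refine ⟨((MonoidHom.fst _ _).comp P₀.subtype).comp τ, MonoidHom.ext fun x => ?_⟩
  have h : mk (τ x).1.1 = φ (τ x).1.2 := (τ x).2
  rw [MonoidHom.comp_apply, MonoidHom.comp_apply, MonoidHom.comp_apply, MonoidHom.comp_apply]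
  refine h.trans (congrArg φ (Subtype.ext ?_))
  have := DFunLike.congr_fun hτ x
  rw [hR] at this
  exact this

end Cfsg.Agent.KnownSimple.Steinberg.Gen
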