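import Cfsg.Agent.KnownSimple.Steinberg.Gen.Perfect

/-!
All facts of a type used for the presented Steinberg groups (helper53).
-/

set_option autoImplicit false

namespace Cfsg.Agent.KnownSimple.Steinberg.Gen

open Cfsg Cfsg.Lie Cfsg.Agent.ChevCore Cfsg.Agent.ChevGroup

/-- The facts of one type; `two` says that the field of two elements is left out. -/
structure Pack (D : ChevalleyDatum) (two : Bool) : Prop where
  comm : CommGood D
  shape : Mat.shapeB D = true
  cert : ConjCert D
  model : Nonempty (Model D)
  br : ∀ i < D.rank, (two = true ∧ unitPairK D (D.simple i) = true) ∨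
    ∃ a b, brK D (std D) (D.simple i) a b two = true

namespace Pack

variable {D : ChevalleyDatum} {two : Bool} (P : Pack D two) {F : Type*} [Field F]
include P

theorem dok : DOK D := ⟨P.comm.toGood, P.shape⟩

/-- a group with the relations as a base structure -/
noncomputable def base {Γ : Type*} [Group Γ] (S : StData D F Γ) : Base D F Γ :=
  (pre S).toBase P.dok (pre_allRel S) P.cert

theorem perfect {Γ : Type*} [Group Γ] (S : StData D F Γ)
    (hK : two = true → ∃ x : F, x ≠ 0 ∧ x ≠ 1) : commutator Γ = ⊤ :=
  (pre S).perfect P.dok (pre_allRel S) P.cert hK P.br (closure_pre S)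

theorem ker_le_center {Γ : Type*} [Group Γ] (S : StData D F Γ) :
    S.π.ker ≤ Subgroup.center Γ := by
  obtain ⟨T⟩ := P.model
  exact (P.base S).ker_le_center P.dok T (closure_pre S)

theorem exists_cover_hom :
    ∃ θ : D.SteinbergCover F →* ↥(D.group F), Function.Surjective θ ∧
      θ.ker ≤ Subgroup.center (D.SteinbergCover F) ∧
      ∀ (r : ℕ) (t : F), r < D.nroots →
        ((θ (D.scGen F r t) : GL D.Idx F) : Matrix D.Idx D.Idx F) = D.x F r t := by
  refine ⟨toGroup (scData P.comm) P.comm.toGood, toGroup_surjective _ _, ?_, fun r t hr => ?_⟩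
  · rw [ker_toGroup]
    exact P.ker_le_center _
  · show (((scData P.comm).π ((scData P.comm).gen r t) : GL D.Idx F) : Matrix D.Idx D.Idx F) = _
    rw [(scData P.comm).π_gen hr, P.comm.toGood.val_xg]

end Pack

end Cfsg.Agent.KnownSimple.Steinberg.Gen
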