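import Cfsg.Agent.KnownSimple.Steinberg.Gen.Pack
import Cfsg.Agent.KnownSimple.Steinberg.Gen.ConjB2
import Cfsg.Agent.Lib.ChevCore.CommAll
import Cfsg.Agent.ChevGroup.Mat.B2

/-!
The facts of type B2 for the presented groups (helper53).
-/

set_option autoImplicit false

namespace Cfsg.Agent.KnownSimple.Steinberg.Gen

open Cfsg.Lie Cfsg.Agent.ChevCore Cfsg.Agent.ChevGroup

theorem packB2 : Pack chevB2 true := by
  refine ⟨commGoodB2, TypeB2.shape, conjCertB2, ⟨TypeB2.model⟩, fun i hi => ?_⟩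
  match i, hi with
  | 0, _ => exact Or.inl ⟨rfl, by decide +kernel⟩
  | 1, _ => exact Or.inr ⟨0, 6, by decide +kernel⟩
  | _ + 2, h => exact absurd h (by simp [chevB2])

end Cfsg.Agent.KnownSimple.Steinberg.Gen
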