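import Cfsg.Agent.KnownSimple.Steinberg.Gen.Pack
import Cfsg.Agent.KnownSimple.Steinberg.Gen.ConjE7
import Cfsg.Agent.Lib.ChevCore.CommAll
import Cfsg.Agent.ChevGroup.Mat.E7

/-!
The facts of type E7 for the presented groups (helper53).
-/

set_option autoImplicit false

namespace Cfsg.Agent.KnownSimple.Steinberg.Gen

open Cfsg.Lie Cfsg.Agent.ChevCore Cfsg.Agent.ChevGroup

theorem packE7 : Pack chevE7 false := by
  refine ⟨commGoodE7, TypeE7.shape, conjCertE7, ⟨TypeE7.model⟩, fun i hi => ?_⟩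
  match i, hi with
  | 0, _ => exact Or.inr ⟨1, 125, by decide +kernel⟩
  | 1, _ => exact Or.inr ⟨7, 122, by decide +kernel⟩
  | 2, _ => exact Or.inr ⟨2, 124, by decide +kernel⟩
  | 3, _ => exact Or.inr ⟨3, 123, by decide +kernel⟩
  | 4, _ => exact Or.inr ⟨4, 122, by decide +kernel⟩
  | 5, _ => exact Or.inr ⟨5, 121, by decide +kernel⟩
  | 6, _ => exact Or.inr ⟨6, 120, by decide +kernel⟩
  | _ + 7, h => exact absurd h (by simp [chevE7])

end Cfsg.Agent.KnownSimple.Steinberg.Gen
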