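import Cfsg.Agent.KnownSimple.Steinberg.Gen.St

/-!
Perfectness of a group generated by root elements with the relations (helper53).
-/

set_option autoImplicit false

namespace Cfsg.Agent.KnownSimple.Steinberg.Gen

open Cfsg.Lie Cfsg.Agent.ChevCore Cfsg.Agent.ChevGroup
open scoped commutatorElement

variable {D : ChevalleyDatum} {F : Type*} [Field F]

/-- some root has Cartan integer `±1` with `q` -/
noncomputable def unitPairK (D : ChevalleyDatum) (q : ℕ) : Bool :=
  kanyUpTo D.nroots fun j => zEq (D.pairing j q) 1 || zEq (D.pairing j q) (-1)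

/-- `q` is a bracket, up to elements with unit Cartan integers or nothing else -/
noncomputable def brK (D : ChevalleyDatum) (A : Acc) (q a b : ℕ) (two : Bool) : Bool :=
  Nat.blt a D.nroots && Nat.blt b D.nroots && !(Nat.beq b a) && !(Nat.beq b (A.negf a)) &&
    Nat.beq ((commW A a b).filter fun c => Nat.beq c.1 q).length 1 &&
    kall (commW A a b) fun c =>
      bif Nat.beq c.1 q then (zEq c.2.1 1 || zEq c.2.1 (-1)) && (Nat.beq c.2.2.1 1 || Nat.beq c.2.2.2 1)
      else two && unitPairK D c.1

namespace Base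

variable {Γ : Type*} [Group Γ] (R : Base D F Γ) (hS : DOK D)
include hS

theorem y_mem_of_unit (hK : ∃ x : F, x ≠ 0 ∧ x ≠ 1) {q : ℕ} (hq : q < D.nroots)
    (h : unitPairK D q = true) (t : F) : R.y q t ∈ commutator Γ := by
  simp only [unitPairK, kanyUpTo_iff, Bool.or_eq_true, zEq_iff] at h
  obtain ⟨j, hj, hjq⟩ := h
  obtain ⟨x, hx0, hx1⟩ := hK
  set d := x ^ D.pairing j q with hd
  have hd1 : d - 1 ≠ 0 := by
    rw [sub_ne_zero, hd]
    rcases hjq with e | e <;> simp [e, hx1]
  have h := R.hh_conj hS hj hq hx0 (t / (d - 1))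
  rw [show R.y q t = ⁅R.hh j x, R.y q (t / (d - 1))⁆ by
    rw [commutatorElement_def, h, ← R.y_neg hq, ← R.y_add q hq, ← hd]
    congr 1
    field_simp
    ring]
  exact Subgroup.commutator_mem_commutator (Subgroup.mem_top _) (Subgroup.mem_top _)

end Base

namespace Pre

variable {Γ : Type*} [Group Γ] (R : Pre D F Γ)

theorem perfect (hS : DOK D) (hR : R.AllRel) (hc : ConjCert D) {two : Bool}
    (hK : two = true → ∃ x : F, x ≠ 0 ∧ x ≠ 1)
    (hbr : ∀ i < D.rank, (two = true ∧ unitPairK D (D.simple i) = true) ∨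
      ∃ a b, brK D (std D) (D.simple i) a b two = true)
    (hgen : Subgroup.closure {g | ∃ r t, r < D.nroots ∧ g = R.y r t} = ⊤) :
    commutator Γ = ⊤ := by
  have hD := hS.good
  set B := R.toBase hS hR hc
  have hsimple : ∀ i < D.rank, ∀ t, R.y (D.simple i) t ∈ commutator Γ := by
    intro i hi t
    rcases hbr i hi with ⟨h2, hu⟩ | ⟨a, b, h⟩
    · exact B.y_mem_of_unit hS (hK h2) (hD.simple_lt hi) hu t
    set q := D.simple i
    simp only [brK, Bool.and_eq_true, kall_iff, Nat.blt_eq, std_negf, commW_std, Bool.not_eq_true',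
      ← Bool.not_eq_true, Nat.beq_eq] at h
    obtain ⟨⟨⟨⟨⟨ha, hb⟩, hba⟩, hbna⟩, hcnt⟩, hall⟩ := h
    obtain ⟨c0, hc0m⟩ : ∃ c0, c0 ∈ (D.commTerms a b).filter fun c => Nat.beq c.1 q := by
      refine List.exists_mem_of_ne_nil _ fun e => ?_
      rw [e] at hcnt
      simp at hcnt
    rw [List.mem_filter] at hc0m
    obtain ⟨pre, post, hsplit⟩ := List.append_of_mem hc0m.1
    have hc0q : c0.1 = q := Nat.eq_of_beq_eq_true hc0m.2
    have hco := hall c0 hc0m.1
    rw [hc0m.2, cond_true] at hco
    simp only [Bool.and_eq_true, Bool.or_eq_true, zEq_iff, Nat.beq_eq] at hco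
    obtain ⟨hz, hij⟩ := hco
    have hz2 : (c0.2.1 : F) * c0.2.1 = 1 := by
      rcases hz with e | e <;> simp [e]
    obtain ⟨t', u', ht⟩ : ∃ t' u' : F,
        (c0.2.1 : F) * (- -t') ^ c0.2.2.1 * (-u') ^ c0.2.2.2 = t := by
      rcases hij with e | e
      · exact ⟨(c0.2.1 : F) * t, -1, by rw [e]; simp [← mul_assoc, hz2]⟩
      · exact ⟨1, -((c0.2.1 : F) * t), by rw [e]; simp [← mul_assoc, hz2]⟩
    have hrel := hR a ha b hb hba hbna t' u'
    let f : ℕ × ℤ × ℕ × ℕ → Γ := fun e =>
      R.y e.1 ((e.2.1 : F) * (- -t') ^ e.2.2.1 * (-u') ^ e.2.2.2)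
    have hword : R.word (D.commWord F a b (-t') (-u')) =
        (pre.map f).prod * R.y q t * (post.map f).prod := by
      rw [word, ChevalleyDatum.commWord, List.map_map, hsplit, List.map_append, List.map_cons,
        List.prod_append, List.prod_cons, ← mul_assoc]
      simp only [Function.comp_def]
      rw [hc0q, ht]
    rw [hword] at hrel
    have hlet : ∀ e ∈ pre ++ post, f e ∈ commutator Γ := by
      intro e he
      have hem : e ∈ D.commTerms a b := by
        rw [hsplit]; simp only [List.mem_append, List.mem_cons] at he ⊢; tauto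
      have h := hall e hem
      have hne : Nat.beq e.1 q = false := by
        rw [← Bool.not_eq_true]
        intro heq
        rw [hsplit, List.filter_append, List.filter_cons_of_pos (by simpa using hc0m.2)] at hcnt
        have : e ∈ (pre.filter fun c => Nat.beq c.1 q) ++ (post.filter fun c => Nat.beq c.1 q) := by
          rw [← List.filter_append, List.mem_filter]
          exact ⟨he, heq⟩
        have := List.length_pos_of_mem this
        simp only [List.length_append, List.length_cons] at this hcnt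
        omega
      rw [hne, cond_false, Bool.and_eq_true] at h
      exact B.y_mem_of_unit hS (hK h.1) (hD.commTerms_coef ha hb hem).1 h.2 _
    rw [show R.y q t = (pre.map f).prod⁻¹ * ⁅R.y b u', R.y a t'⁆ * (post.map f).prod⁻¹ by
      rw [hrel]; group]
    refine mul_mem (mul_mem (inv_mem (Subgroup.list_prod_mem _ ?_))
      (Subgroup.commutator_mem_commutator (Subgroup.mem_top _) (Subgroup.mem_top _)))
      (inv_mem (Subgroup.list_prod_mem _ ?_))
    · intro g hg
      obtain ⟨e, he, rfl⟩ := List.mem_map.1 hg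
      exact hlet e (List.mem_append_left _ he)
    · intro g hg
      obtain ⟨e, he, rfl⟩ := List.mem_map.1 hg
      exact hlet e (List.mem_append_right _ he)
  rw [eq_top_iff, ← hgen, Subgroup.closure_le]
  rintro x ⟨r, t, hr, rfl⟩
  obtain ⟨w, hw, i, hi, rfl⟩ := hD.exists_word hr
  have hp := hD.simple_lt hi
  set e : F := (etaWord D w (D.simple i) : F)
  have h := (inferInstance : (commutator Γ).Normal).conj_mem _ (hsimple i hi (e * t)) (B.nW w)
  have e2 := B.nW_conj hS hw hp (e * t)
  change B.nW w * R.y (D.simple i) (e * t) * (B.nW w)⁻¹ = _ at e2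
  rwa [e2, ← mul_assoc, etaWord_mul_self, one_mul] at h

end Pre

end Cfsg.Agent.KnownSimple.Steinberg.Gen
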