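import Cfsg.Agent.KnownSimple.Steinberg.Gen.PackG2
import Cfsg.Agent.KnownSimple.Steinberg.Gen.PackB2
import Cfsg.Agent.KnownSimple.Steinberg.Gen.PackD4
import Cfsg.Agent.KnownSimple.Steinberg.Gen.PackF4
import Cfsg.Agent.KnownSimple.Steinberg.Gen.PackE6
import Cfsg.Agent.KnownSimple.Steinberg.Gen.PackE7
import Cfsg.Agent.KnownSimple.Steinberg.Gen.PackE8

/-!
The seven tabulated types together (helper53).
-/

set_option autoImplicit false

namespace Cfsg.Agent.KnownSimple.Steinberg.Gen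

open Cfsg.Lie

theorem pack_of_mem {K : Type*} [Field K] {D : ChevalleyDatum}
    (hD : D ∈ [chevG2, chevB2, chevD4, chevF4, chevE6, chevE7, chevE8])
    (hK : D ∈ [chevB2, chevG2] → ∃ x : K, x ≠ 0 ∧ x ≠ 1) :
    ∃ two, Pack D two ∧ (two = true → ∃ x : K, x ≠ 0 ∧ x ≠ 1) := by
  simp only [List.mem_cons, List.not_mem_nil, or_false] at hD
  rcases hD with rfl | rfl | rfl | rfl | rfl | rfl | rfl
  · exact ⟨_, packG2, fun _ => hK (by simp)⟩
  · exact ⟨_, packB2, fun _ => hK (by simp)⟩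
  · exact ⟨_, packD4, fun h => nomatch h⟩
  · exact ⟨_, packF4, fun h => nomatch h⟩
  · exact ⟨_, packE6, fun h => nomatch h⟩
  · exact ⟨_, packE7, fun h => nomatch h⟩
  · exact ⟨_, packE8, fun h => nomatch h⟩

end Cfsg.Agent.KnownSimple.Steinberg.Gen
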