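import Cfsg.Agent.KnownSimple.Steinberg.Gen.Bracket
import Cfsg.Agent.Lib.ChevCore.CertB2Table
import Cfsg.Agent.Lib.ChevCore.PackedB2

/-!
The certificates of lifts over the fields with three and four elements for type B2 (helper53).
-/

set_option autoImplicit false

namespace Cfsg.Agent.KnownSimple.Steinberg.Gen

open Cfsg.Lie Cfsg.Agent.ChevCore

/-- the short roots whose bracket gives each long root -/
def pkB2 (r : ℕ) : ℕ × ℕ :=
  bif Nat.beq r 0 then (2, 1) else bif Nat.beq r 3 then (1, 5) else bif Nat.beq r 4 then (2, 6)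
  else (5, 6)

theorem witSmallK3B2 : witSmallK chevB2 (std chevB2) 3 2 = true := by
  rw [← (fast_eq_std chkLinkB2).1]
  decide +kernel

theorem brkKB2 : brkK chevB2 (std chevB2) pkB2 = true := by
  rw [← (fast_eq_std chkLinkB2).1]
  decide +kernel

end Cfsg.Agent.KnownSimple.Steinberg.Gen
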