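import Cfsg.Agent.KnownSimple.Steinberg.Gen.LargeAll
import Cfsg.Agent.KnownSimple.Steinberg.Gen.SmallB2
import Cfsg.Agent.KnownSimple.Steinberg.Gen.SmallD4

/-!
Types B2 and D4 over every finite field with more than two elements: lifts with all relations (helper53).
-/

set_option autoImplicit false

namespace Cfsg.Agent.KnownSimple.Steinberg.Gen

open Cfsg.Lie Cfsg.Agent.ChevCore

theorem exists_pre_B2D4 {F : Type*} [Field F] [Fintype F] (hF : Fintype.card F ≠ 2)
    {D : ChevalleyDatum} (hD : D = chevB2 ∨ D = chevD4) {Γ : Type*} [Group Γ] (E : CExt D F Γ) :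
    ∃ R : Pre D F Γ, R.π = E.π ∧ R.AllRel := by
  have h1 := Fintype.one_lt_card (α := F)
  by_cases h5 : 4 < Fintype.card F
  · exact exists_pre_of_mem (by rcases hD with rfl | rfl <;> simp) ⟨Finset.univ, h5⟩ E
  rcases (by omega : Fintype.card F = 2 + 1 ∨ Fintype.card F = 3 + 1) with h | h
  · rcases hD with rfl | rfl
    · exact exists_pre_of_brkK h packB2.dok packB2.comm brkKB2 E
    · exact exists_pre_of_threeK h packD4.dok packD4.comm threeKD4 E
  · rcases hD with rfl | rfl
    · refine exists_pre_of_witSmallK (p := 2) h (fun z hz h0 => ?_) packB2.dok packB2.comm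
        witSmallK3B2 E
      have h4 : (2 : F) * 2 = 0 := by
        have := Nat.cast_card_eq_zero F
        rw [h, Nat.cast_add, Nat.cast_one] at this
        norm_num at this ⊢
        exact this
      have h2 : (2 : F) = 0 := mul_self_eq_zero.1 h4
      rw [← Int.emod_add_mul_ediv z (2 : ℕ), show z % ((2 : ℕ) : ℤ) = 1 by omega] at h0
      push_cast at h0
      rw [h2, zero_mul, add_zero] at h0
      exact one_ne_zero h0
    · exact exists_pre_of_smallK h packD4.dok packD4.comm smallK3D4 E

end Cfsg.Agent.KnownSimple.Steinberg.Gen
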