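import Cfsg.Agent.KnownSimple.Steinberg.Gen.Conj
import Cfsg.Agent.KnownSimple.Steinberg.StRel

/-!
The presented Steinberg groups of a datum with its commutator formula (helper53).
-/

set_option autoImplicit false

namespace Cfsg.Agent.KnownSimple.Steinberg.Gen

open Cfsg Cfsg.Lie Cfsg.Agent.ChevCore Cfsg.Agent.ChevGroup
open scoped commutatorElement

variable {D : ChevalleyDatum} {F : Type*} [Field F]

theorem liftAB (hC : CommGood D) {g : FreeGroup (Fin D.nroots × F)} (hg : g ∈ D.steinbergRelsAB F) :
    FreeGroup.lift (fun p : Fin D.nroots × F => xg D F p.1.val p.2) g = 1 := by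
  have hD := hC.toGood
  rcases hg with ⟨r, t, u, hr, rfl⟩ | ⟨r, s, t, u, hr, hs, h1, h2, rfl⟩
  · rw [map_mul, map_mul, map_inv, lift_stX r hr, lift_stX r hr, lift_stX r hr, hD.xg_add,
      mul_inv_cancel]
  · simp only [map_mul, map_inv, lift_stX r hr, lift_stX s hs]
    rw [mul_inv_eq_one, mul_assoc _ (xg D F s u) (xg D F r t), hC.xg_comm hr hs h1 h2,
      mul_assoc (xg D F r t), mul_assoc, inv_mul_cancel_left, inv_mul_cancel_left,
      ChevalleyDatum.stWord, map_list_prod, List.map_map, wordG]
    refine congrArg List.prod (List.map_congr_left fun p hp => ?_)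
    obtain ⟨e, he, rfl⟩ := List.mem_map.1 hp
    exact (lift_stX _ (hD.commTerms_coef hr hs he).1 _).symm

theorem liftABC (hC : CommGood D) {g : FreeGroup (Fin D.nroots × F)} (hg' : g ∈ D.steinbergRels F) :
    FreeGroup.lift (fun p : Fin D.nroots × F => xg D F p.1.val p.2) g = 1 := by
  rcases hg' with h | ⟨r, a, b, hr, ha, hb, rfl⟩
  · exact liftAB hC h
  · have hD := hC.toGood
    rw [map_mul, map_mul, map_inv, lift_stH hD hr, lift_stH hD hr, lift_stH hD hr,
      hD.hg_mul hr ha hb, mul_inv_cancel]

/-- Steinberg's presented group. -/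
noncomputable def stData (hC : CommGood D) : StData D F (D.SteinbergGroup F) where
  φ := PresentedGroup.mk (D.steinbergRels F)
  surj := PresentedGroup.mk_surjective _
  rels g hg := PresentedGroup.one_of_mem (Or.inl hg)
  π := PresentedGroup.toGroup (f := fun p : Fin D.nroots × F => xg D F p.1.val p.2)
    fun _ h => liftABC hC h
  π_of _ _ := PresentedGroup.toGroup.of _

/-- The group presented by (R1), (R2). -/
noncomputable def scData (hC : CommGood D) : StData D F (D.SteinbergCover F) where
  φ := PresentedGroup.mk (D.steinbergRelsAB F)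
  surj := PresentedGroup.mk_surjective _
  rels g hg := PresentedGroup.one_of_mem hg
  π := PresentedGroup.toGroup (f := fun p : Fin D.nroots × F => xg D F p.1.val p.2)
    fun _ h => liftAB hC h
  π_of _ _ := PresentedGroup.toGroup.of _

/-- The root elements with their relations. -/
noncomputable def pre {Γ : Type*} [Group Γ] (S : StData D F Γ) : Pre D F Γ where
  π := S.π
  y := S.gen
  π_y _ hr t := S.π_gen hr t
  y_add _ hr t u := S.gen_add hr t u

theorem pre_allRel {Γ : Type*} [Group Γ] (S : StData D F Γ) : (pre S).AllRel :=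
  fun _ hr _ hs h1 h2 t u => S.gen_comm hr hs h1 h2 t u

theorem closure_pre {Γ : Type*} [Group Γ] (S : StData D F Γ) :
    Subgroup.closure {g | ∃ r t, r < D.nroots ∧ g = S.gen r t} = ⊤ := by
  rw [eq_top_iff]
  rintro g -
  obtain ⟨w, rfl⟩ := S.surj g
  induction w using FreeGroup.induction_on with
  | C1 => simp
  | of p =>
    refine Subgroup.subset_closure ⟨p.1.val, p.2, p.1.isLt, ?_⟩
    show S.φ (FreeGroup.of p) = S.φ (D.stX p.1.val p.2)
    rw [ChevalleyDatum.stX, dif_pos p.1.isLt]
  | inv_of p hp => rw [map_inv]; exact inv_mem hp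
  | mul x y hx hy => rw [map_mul]; exact mul_mem hx hy

theorem π_mem {Γ : Type*} [Group Γ] (S : StData D F Γ) (hD : Good D) (g : Γ) : S.π g ∈ D.group F := by
  have h := closure_pre S ▸ Subgroup.mem_top g
  induction h using Subgroup.closure_induction with
  | mem x hx =>
    obtain ⟨r, t, hr, rfl⟩ := hx
    rw [S.π_gen hr]
    exact xg_mem_group hD hr t
  | one => simp
  | mul a b _ _ ha hb => rw [map_mul]; exact mul_mem ha hb
  | inv a _ ha => rw [map_inv]; exact inv_mem ha

/-- The projection onto the Chevalley group. -/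
def toGroup {Γ : Type*} [Group Γ] (S : StData D F Γ) (hD : Good D) : Γ →* ↥(D.group F) :=
  S.π.codRestrict (D.group F) (π_mem S hD)

theorem toGroup_surjective {Γ : Type*} [Group Γ] (S : StData D F Γ) (hD : Good D) :
    Function.Surjective (toGroup S hD) := by
  rintro ⟨g, hg⟩
  have h : g ∈ S.π.range := by
    rw [group_eq_closure_xg hD] at hg
    refine (Subgroup.closure_le _).2 ?_ hg
    rintro x ⟨r, t, hr, rfl⟩
    exact ⟨S.gen r t, S.π_gen hr t⟩
  obtain ⟨a, rfl⟩ := h
  exact ⟨a, rfl⟩

theorem ker_toGroup {Γ : Type*} [Group Γ] (S : StData D F Γ) (hD : Good D) :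
    (toGroup S hD).ker = S.π.ker := MonoidHom.ker_codRestrict _ _ _

end Cfsg.Agent.KnownSimple.Steinberg.Gen
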