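import Cfsg.Agent.KnownSimple.Steinberg.Gen.Universal
import Cfsg.Agent.KnownSimple.Steinberg.Gen.CoverIso
import Cfsg.Agent.Lib.Schur.Basic

/-!
The presented universal group over a finite field has trivial Schur multiplier as soon as central extensions
have lifts with (R1), (R2) (helper53).
-/

set_option autoImplicit false

namespace Cfsg.Agent.KnownSimple.Steinberg.Gen

open Cfsg Cfsg.Lie Cfsg.Agent.ChevCore Cfsg.Agent.ChevGroup
open scoped commutatorElement

universe u

variable {D : ChevalleyDatum} {two : Bool} {F : Type u} [Field F] [Finite F]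

theorem finite_steinberg (P : Pack D two) (hN : NbrOK D) : Finite (D.SteinbergGroup F) := by
  obtain ⟨T⟩ := P.model
  haveI := Fintype.ofFinite F
  classical
  set S := stData (F := F) P.comm
  set B := P.base S
  have hgen : Subgroup.closure {g | ∃ r t, r < D.nroots ∧ g = B.y r t} = ⊤ := closure_pre S
  have hmul := B.hh_mul P.dok T hgen hN
  have hsub : (S.π.ker : Set (D.SteinbergGroup F)) ⊆ Set.range (B.theta P.dok T hgen hmul) :=
    fun z hz => B.H_le_range P.dok T hgen hmul (B.ker_le_H P.dok T hgen hz)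
  have h1 : Finite ↥S.π.ker := ((Set.finite_range _).subset hsub).to_subtype
  have h2 : Finite (D.SteinbergGroup F ⧸ S.π.ker) :=
    Finite.of_equiv _ (QuotientGroup.quotientKerEquivRange S.π).symm.toEquiv
  exact Finite.of_subgroup_quotient S.π.ker

theorem hasCyclicSchurMultiplier_steinberg (P : Pack D two)
    (hK : two = true → ∃ x : F, x ≠ 0 ∧ x ≠ 1) (hN : NbrOK D)
    (hlift : ∀ (Γ : Type u) [Group Γ] [Finite Γ] (X : CExt D F Γ),
      ∃ R : Pre D F Γ, R.π = X.π ∧ R.AllRel) :
    HasCyclicSchurMultiplier (D.SteinbergGroup F) 1 := by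
  haveI := finite_steinberg (F := F) P hN
  refine Schur.hasCyclicSchurMultiplier_one_of_forall fun Γ _ _ τ hτ => ?_
  obtain ⟨hsurj, hcen, hcom⟩ := hτ
  obtain ⟨T⟩ := P.model
  have hD := P.comm.toGood
  set S := stData (F := F) P.comm
  have hperfS : commutator (D.SteinbergGroup F) = ⊤ := P.perfect S hK
  have hperf : commutator Γ = ⊤ := by
    rw [eq_top_iff]
    intro g _
    obtain ⟨a, ha, e⟩ : τ g ∈ (commutator Γ).map τ := by
      rw [commutator_def, Subgroup.map_commutator, Subgroup.map_top_of_surjective τ hsurj,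
        ← commutator_def, hperfS]
      exact Subgroup.mem_top _
    have := mul_mem ha (hcom (show a⁻¹ * g ∈ τ.ker by
      rw [MonoidHom.mem_ker, map_mul, map_inv, e, inv_mul_cancel]))
    rwa [mul_inv_cancel_left] at this
  have hcen' : (S.π.comp τ).ker ≤ Subgroup.center Γ := by
    intro z hz
    have hzc : τ z ∈ Subgroup.center (D.SteinbergGroup F) := P.ker_le_center S hz
    have hc' : ∀ g : Γ, ⁅z, g⁆ ∈ Subgroup.center Γ := fun g => hcen (by
      rw [MonoidHom.mem_ker, map_commutatorElement, commutatorElement_eq_one_iff_commute]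
      exact (Subgroup.mem_center_iff.1 hzc (τ g)).symm)
    let φ : Γ →* Subgroup.center Γ := MonoidHom.mk' (fun g => ⟨⁅z, g⁆, hc' g⟩) fun g g' =>
      Subtype.ext (by
        show ⁅z, g * g'⁆ = ⁅z, g⁆ * ⁅z, g'⁆
        rw [show ⁅z, g * g'⁆ = ⁅z, g⁆ * (g * ⁅z, g'⁆ * g⁻¹) by
          simp only [commutatorElement_def]; group,
          Subgroup.mem_center_iff.1 (hc' g') g, mul_inv_cancel_right])
    have hle : commutator Γ ≤ φ.ker := by
      rw [commutator_def, Subgroup.commutator_le]
      intro a _ b _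
      rw [MonoidHom.mem_ker, map_commutatorElement, commutatorElement_eq_one_iff_commute]
      exact Subtype.ext (Subgroup.mem_center_iff.1 (φ b).2 (φ a : Γ))
    rw [Subgroup.mem_center_iff]
    intro g
    have h1 : ⁅z, g⁆ = 1 := congrArg Subtype.val (hle (hperf ▸ Subgroup.mem_top g))
    exact (commutatorElement_eq_one_iff_commute.1 h1).eq.symm
  let X : CExt D F Γ :=
    { π := S.π.comp τ
      central := hcen'
      ℓ := fun r t => Function.surjInv hsurj (S.gen r t)
      π_ℓ := fun r hr t => by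
        rw [MonoidHom.comp_apply, Function.surjInv_eq hsurj, S.π_gen hr] }
  obtain ⟨R, hR, hrel⟩ := hlift Γ X
  set B := R.toBase P.dok hrel P.cert
  set K := Subgroup.closure {g | ∃ r t, r < D.nroots ∧ g = R.y r t} with hK'
  have hKtop : K = ⊤ := by
    have hKmap : ∀ g : Γ, ∃ a ∈ K, ∃ z ∈ (S.π.comp τ).ker, g = a * z := by
      intro g
      have hle : (D.group F) ≤ K.map (S.π.comp τ) := by
        rw [group_eq_closure_xg hD, Subgroup.closure_le]
        rintro x ⟨r, t, hr, rfl⟩
        exact ⟨R.y r t, Subgroup.subset_closure ⟨r, t, hr, rfl⟩, by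
          show X.π (R.y r t) = _
          rw [← hR, R.π_y r hr]⟩
      obtain ⟨a, ha, e⟩ := hle (π_mem S hD (τ g))
      exact ⟨a, ha, a⁻¹ * g, by
        rw [MonoidHom.mem_ker, map_mul, map_inv, e]
        exact inv_mul_cancel _, by group⟩
    rw [eq_top_iff, ← hperf, commutator_def, Subgroup.commutator_le]
    intro g _ g' _
    obtain ⟨a, ha, z, hz, rfl⟩ := hKmap g
    obtain ⟨b, hb, w, hw, rfl⟩ := hKmap g'
    rw [X.comm_congr (v' := a) (w' := b)
      (by rw [map_mul]; exact mul_eq_left.2 hz) (by rw [map_mul]; exact mul_eq_left.2 hw)]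
    exact mul_mem (mul_mem (mul_mem ha hb) (inv_mem ha)) (inv_mem hb)
  have hmul := B.hh_mul P.dok T hKtop hN
  let f := fun x : Fin D.nroots × F => R.y x.1.val x.2
  have hX : ∀ {r : ℕ}, r < D.nroots → ∀ t, FreeGroup.lift f (D.stX r t) = R.y r t := fun hr t => by
    rw [ChevalleyDatum.stX, dif_pos hr, FreeGroup.lift_apply_of]
  have hH : ∀ {r : ℕ}, r < D.nroots → ∀ t, FreeGroup.lift f (D.stH r t) = B.hh r t := by
    intro r hr t
    simp only [ChevalleyDatum.stH, ChevalleyDatum.stWord, ChevalleyDatum.hWord,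
      ChevalleyDatum.nWord, List.map_append, List.map_cons, List.map_nil, List.prod_append,
      List.prod_cons, List.prod_nil, mul_one, map_mul, hX hr, hX (hD.neg_lt hr), Base.hh, Base.nn,
      mul_assoc]
    rfl
  have hrels : ∀ w ∈ D.steinbergRels F, FreeGroup.lift f w = 1 := by
    rintro w ((⟨r, t, u, hr, rfl⟩ | ⟨r, s, t, u, hr, hs, h1, h2, rfl⟩) | ⟨r, a, b, hr, ha, hb, rfl⟩)
    · rw [map_mul, map_mul, map_inv, hX hr, hX hr, hX hr, R.y_add r hr, mul_inv_cancel]
    · simp only [map_mul, map_inv, hX hr, hX hs]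
      rw [mul_inv_eq_one, ChevalleyDatum.stWord, map_list_prod, List.map_map]
      have h := hrel r hr s hs h1 h2 (-t) (-u)
      rw [commutatorElement_def, R.y_neg hr, R.y_neg hs, inv_inv, inv_inv, neg_neg, neg_neg] at h
      rw [h, Pre.word]
      refine congrArg List.prod (List.map_congr_left fun e he => ?_)
      obtain ⟨c, hc', rfl⟩ := List.mem_map.1 he
      exact (hX (hD.commTerms_coef hr hs hc').1 _).symm
    · rw [map_mul, map_mul, map_inv, hH hr, hH hr, hH hr, ← Units.val_mk0 ha, ← Units.val_mk0 hb,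
        B.hh_mul_all P.dok hmul hr, mul_inv_cancel]
  let s₀ : D.SteinbergGroup F →* Γ := PresentedGroup.toGroup hrels
  have hid : τ.comp s₀ = MonoidHom.id _ := by
    refine hom_eq_of_perfect hperfS S.π (P.ker_le_center S) _ _ (PresentedGroup.ext fun x => ?_)
    show X.π (s₀ (PresentedGroup.of x)) = S.π (PresentedGroup.of x)
    rw [show s₀ (PresentedGroup.of x) = R.y x.1.val x.2 from PresentedGroup.toGroup.of _, ← hR,
      R.π_y _ x.1.isLt]
    exact (S.π_of _ _).symm
  have hs₀ : Function.Surjective s₀ := by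
    intro g
    have hg : g ∈ K := hKtop ▸ Subgroup.mem_top g
    refine ((Subgroup.closure_le s₀.range).2 ?_) hg
    rintro x ⟨r, t, hr, rfl⟩
    exact ⟨PresentedGroup.of (⟨r, hr⟩, t), PresentedGroup.toGroup.of _⟩
  rw [eq_bot_iff]
  intro z hz
  obtain ⟨x, rfl⟩ := hs₀ z
  have e : τ (s₀ x) = x := DFunLike.congr_fun hid x
  rw [MonoidHom.mem_ker, e] at hz
  rw [Subgroup.mem_bot, hz, map_one]

end Cfsg.Agent.KnownSimple.Steinberg.Gen
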