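import Cfsg.Agent.KnownSimple.Steinberg.Gen.Pack

/-!
The group presented by (R1), (R2) is universal among central extensions (helper53).
-/

set_option autoImplicit false

namespace Cfsg.Agent.KnownSimple.Steinberg.Gen

open Cfsg Cfsg.Lie Cfsg.Agent.ChevCore Cfsg.Agent.ChevGroup
open scoped commutatorElement

/-- Homomorphisms out of a perfect group agreeing modulo the centre are equal. -/
theorem hom_eq_of_perfect {A B C : Type*} [Group A] [Group B] [Group C] (hA : commutator A = ⊤)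
    (p : B →* C) (hp : p.ker ≤ Subgroup.center B) (τ τ' : A →* B) (h : p.comp τ = p.comp τ') :
    τ = τ' := by
  have hz : ∀ a, ∃ z ∈ Subgroup.center B, τ' a = τ a * z := fun a =>
    ⟨(τ a)⁻¹ * τ' a, hp (by
      rw [MonoidHom.mem_ker, map_mul, map_inv, inv_mul_eq_one]
      exact DFunLike.congr_fun h a), by group⟩
  have hle : commutator A ≤ τ.eqLocus τ' := by
    rw [commutator_def, Subgroup.commutator_le]
    intro a _ b _
    show τ ⁅a, b⁆ = τ' ⁅a, b⁆
    obtain ⟨x, hx, ea⟩ := hz a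
    obtain ⟨y, hy, eb⟩ := hz b
    rw [map_commutatorElement, map_commutatorElement, ea, eb]
    rw [Subgroup.mem_center_iff] at hx hy
    simp only [commutatorElement_def]
    calc τ a * τ b * (τ a)⁻¹ * (τ b)⁻¹
        = τ a * (τ b * x) * x⁻¹ * (τ a)⁻¹ * (τ b)⁻¹ := by group
      _ = τ a * x * τ b * x⁻¹ * (τ a)⁻¹ * (τ b)⁻¹ := by rw [hx (τ b)]; group
      _ = τ a * x * τ b * (x⁻¹ * (τ a)⁻¹ * y) * y⁻¹ * (τ b)⁻¹ := by group
      _ = _ := by rw [hy (x⁻¹ * (τ a)⁻¹)]; group
  refine MonoidHom.ext fun a => ?_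
  have : a ∈ τ.eqLocus τ' := hle (hA ▸ Subgroup.mem_top a)
  exact this

variable {D : ChevalleyDatum} {two : Bool} {F : Type*} [Field F]

theorem existsUnique_lift (P : Pack D two) (hK : two = true → ∃ x : F, x ≠ 0 ∧ x ≠ 1)
    {G₁ E : Type*} [Group G₁] [Group E] (π₁ : E →* G₁) (hπ : Function.Surjective π₁)
    (hc : π₁.ker ≤ Subgroup.center E) (σ : D.SteinbergCover F →* G₁)
    (hlift : ∀ (P₀ : Subgroup (E × D.SteinbergCover F)) (K : Subgroup ↥P₀) (X : CExt D F ↥K),
      ∃ R : Pre D F ↥K, R.π = X.π ∧ R.AllRel) :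
    ∃! τ : D.SteinbergCover F →* E, π₁.comp τ = σ := by
  have hD := P.comm.toGood
  set S := scData (F := F) P.comm
  have hperf : commutator (D.SteinbergCover F) = ⊤ := P.perfect S hK
  suffices hex : ∃ τ : D.SteinbergCover F →* E, π₁.comp τ = σ by
    obtain ⟨τ, hτ⟩ := hex
    exact ⟨τ, hτ, fun τ' hτ' => hom_eq_of_perfect hperf π₁ hc τ' τ (hτ'.trans hτ.symm)⟩
  let P₀ : Subgroup (E × D.SteinbergCover F) :=
    (π₁.comp (MonoidHom.fst _ _)).eqLocus (σ.comp (MonoidHom.snd _ _))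
  let q : ↥P₀ →* D.SteinbergCover F := (MonoidHom.snd _ _).comp P₀.subtype
  have hqs : Function.Surjective q := fun x => by
    obtain ⟨e, he⟩ := hπ (σ x)
    exact ⟨⟨(e, x), he⟩, rfl⟩
  have hqc : ∀ z : ↥P₀, q z = 1 → ∀ g : ↥P₀, g * z = z * g := by
    rintro ⟨⟨e, x⟩, hz⟩ (h : x = 1) ⟨⟨e', x'⟩, hg⟩
    subst h
    have he : π₁ e = σ 1 := hz
    rw [map_one] at he
    refine Subtype.ext (Prod.ext ?_ ?_)
    · exact Subgroup.mem_center_iff.1 (hc he) e'
    · show x' * 1 = 1 * x'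
      rw [mul_one, one_mul]
  set K := commutator ↥P₀ with hKdef
  have hmap : K.map q = ⊤ := by
    rw [hKdef, commutator_def, Subgroup.map_commutator, Subgroup.map_top_of_surjective q hqs,
      ← commutator_def, hperf]
  let p : ↥K →* D.SteinbergCover F := q.comp K.subtype
  have hps : Function.Surjective p := fun x => by
    obtain ⟨g, hg, e⟩ : x ∈ K.map q := hmap ▸ Subgroup.mem_top x
    exact ⟨⟨g, hg⟩, e⟩
  have hKK : K ≤ ⁅K, K⁆ := by
    conv_lhs => rw [hKdef, commutator_def]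
    rw [Subgroup.commutator_le]
    intro a _ b _
    have hdec : ∀ a : ↥P₀, ∃ a' ∈ K, ∃ z : ↥P₀, (∀ g, g * z = z * g) ∧ a = a' * z := fun a => by
      obtain ⟨a', ha', e⟩ : q a ∈ K.map q := hmap ▸ Subgroup.mem_top _
      exact ⟨a', ha', a'⁻¹ * a, hqc _ (by rw [map_mul, map_inv, e, inv_mul_cancel]), by group⟩
    obtain ⟨a', ha', z, hz, rfl⟩ := hdec a
    obtain ⟨b', hb', w, hw, rfl⟩ := hdec b
    have : ⁅a' * z, b' * w⁆ = ⁅a', b'⁆ := by
      simp only [commutatorElement_def]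
      calc a' * z * (b' * w) * (a' * z)⁻¹ * (b' * w)⁻¹
          = a' * z * b' * (w * (z⁻¹ * a'⁻¹) * w⁻¹) * b'⁻¹ := by group
        _ = a' * (z * b') * z⁻¹ * a'⁻¹ * b'⁻¹ := by rw [← hw (z⁻¹ * a'⁻¹)]; group
        _ = _ := by rw [← hz b']; group
    rw [this]
    exact Subgroup.commutator_mem_commutator ha' hb'
  have hKperf : commutator ↥K = ⊤ := by
    refine Subgroup.map_injective K.subtype_injective ?_
    rw [Subgroup.map_subtype_commutator, ← MonoidHom.range_eq_map, Subgroup.range_subtype]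
    exact le_antisymm (Subgroup.commutator_le_self K) hKK
  have hcen : (S.π.comp p).ker ≤ Subgroup.center ↥K := by
    intro z hz
    have hzc : p z ∈ Subgroup.center (D.SteinbergCover F) := P.ker_le_center S hz
    rw [Subgroup.mem_center_iff]
    have hc' : ∀ g : ↥K, ∀ x, x * (⁅z, g⁆ : ↥K) = ⁅z, g⁆ * x := fun g x => Subtype.ext (by
      refine hqc _ ?_ _
      show p ⁅z, g⁆ = 1
      rw [map_commutatorElement, commutatorElement_eq_one_iff_commute]
      exact (Subgroup.mem_center_iff.1 hzc (p g)).symm)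
    let φ : ↥K →* Subgroup.center ↥K :=
      MonoidHom.mk' (fun g => ⟨⁅z, g⁆, Subgroup.mem_center_iff.2 (hc' g)⟩) fun g g' => Subtype.ext (by
        show ⁅z, g * g'⁆ = ⁅z, g⁆ * ⁅z, g'⁆
        rw [show ⁅z, g * g'⁆ = ⁅z, g⁆ * (g * ⁅z, g'⁆ * g⁻¹) by
          simp only [commutatorElement_def]; group, hc' g' g, mul_inv_cancel_right])
    intro g
    have : g ∈ φ.ker := by
      have hle : commutator ↥K ≤ φ.ker := by
        rw [commutator_def, Subgroup.commutator_le]
        intro a _ b _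
        rw [MonoidHom.mem_ker, map_commutatorElement, commutatorElement_eq_one_iff_commute]
        exact Subtype.ext (Subgroup.mem_center_iff.1 (φ b).2 (φ a : ↥K))
      exact hle (hKperf ▸ Subgroup.mem_top g)
    have h1 : ⁅z, g⁆ = 1 := congrArg Subtype.val this
    exact (commutatorElement_eq_one_iff_commute.1 h1).eq.symm
  let X : CExt D F ↥K :=
    { π := S.π.comp p
      central := hcen
      ℓ := fun r t => Function.surjInv hps (S.gen r t)
      π_ℓ := fun r hr t => by
        rw [MonoidHom.comp_apply, Function.surjInv_eq hps, S.π_gen hr] }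
  obtain ⟨R, hR, hrel⟩ := hlift P₀ K X
  let f := fun x : Fin D.nroots × F => R.y x.1.val x.2
  have hX : ∀ {r : ℕ}, r < D.nroots → ∀ t, FreeGroup.lift f (D.stX r t) = R.y r t := fun hr t => by
    rw [ChevalleyDatum.stX, dif_pos hr, FreeGroup.lift_apply_of]
  have hrels : ∀ w ∈ D.steinbergRelsAB F, FreeGroup.lift f w = 1 := by
    rintro w (⟨r, t, u, hr, rfl⟩ | ⟨r, s, t, u, hr, hs, h1, h2, rfl⟩)
    · rw [map_mul, map_mul, map_inv, hX hr, hX hr, hX hr, R.y_add r hr, mul_inv_cancel]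
    · simp only [map_mul, map_inv, hX hr, hX hs]
      rw [mul_inv_eq_one, ChevalleyDatum.stWord, map_list_prod, List.map_map]
      have h := hrel r hr s hs h1 h2 (-t) (-u)
      rw [commutatorElement_def, R.y_neg hr, R.y_neg hs, inv_inv, inv_inv, neg_neg, neg_neg] at h
      rw [h, Pre.word]
      refine congrArg List.prod (List.map_congr_left fun e he => ?_)
      obtain ⟨c, hc', rfl⟩ := List.mem_map.1 he
      exact (hX (hD.commTerms_coef hr hs hc').1 _).symm
  let τ₀ : D.SteinbergCover F →* ↥K := PresentedGroup.toGroup hrels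
  have hid : p.comp τ₀ = MonoidHom.id _ := by
    refine hom_eq_of_perfect hperf S.π (P.ker_le_center S) _ _ (PresentedGroup.ext fun x => ?_)
    show X.π (τ₀ (PresentedGroup.of x)) = S.π (PresentedGroup.of x)
    rw [show τ₀ (PresentedGroup.of x) = R.y x.1.val x.2 from PresentedGroup.toGroup.of _, ← hR,
      R.π_y _ x.1.isLt]
    exact (S.π_of _ _).symm
  refine ⟨((MonoidHom.fst _ _).comp P₀.subtype).comp (K.subtype.comp τ₀), MonoidHom.ext fun x => ?_⟩
  have h := (K.subtype (τ₀ x)).2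
  change π₁ _ = σ (p (τ₀ x)) at h
  rw [show p (τ₀ x) = x from DFunLike.congr_fun hid x] at h
  exact h

end Cfsg.Agent.KnownSimple.Steinberg.Gen
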