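import Cfsg.Agent.KnownSimple.Steinberg.Gen.Small

/-!
A witness for the commutation of two lifts in which the conjugation may move one of the two roots of the
bracket (helper53).
-/

set_option autoImplicit false

namespace Cfsg.Agent.KnownSimple.Steinberg.Gen

open Cfsg.Lie Cfsg.Agent.ChevCore Cfsg.Agent.ChevGroup
open scoped commutatorElement

variable {D : ChevalleyDatum} {F : Type*} [Field F] {Γ : Type*} [Group Γ]

/-- equal or with commuting root elements -/
noncomputable def fixK (A : Acc) (x y : ℕ) : Bool :=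
  Nat.beq y x || (!(Nat.beq y (A.negf x)) && (commW A x y).isEmpty)

theorem fixK_iff {x y : ℕ} :
    fixK (std D) x y = true ↔ y = x ∨ (y ≠ D.neg x ∧ D.commTerms x y = []) := by
  simp only [fixK, Bool.or_eq_true, Bool.and_eq_true, Nat.beq_eq, Bool.not_eq_true', std_negf,
    commW_std, List.isEmpty_iff, ← Bool.not_eq_true]

/-- `x_r` fixes `x_a`, and the letters of its bracket with `x_b` have lifts commuting with that of `x_a` -/
noncomputable def moveK (A : Acc) (ok : ℕ → ℕ → Bool) (r a b : ℕ) : Bool :=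
  fixK A r a && (fixK A r b || (!(Nat.beq b r) && !(Nat.beq b (A.negf r)) &&
    kall (commW A r b) fun c => fixK A a c.1 && ok a c.1))

/-- a witness with one moved root, coefficient prime to `p` -/
noncomputable def witM (A : Acc) (p : ℕ) (ok : ℕ → ℕ → Bool) (r s a b : ℕ) : Bool :=
  !(Nat.beq b a) && !(Nat.beq b (A.negf a)) &&
  Nat.beq ((commW A a b).filter fun c => Nat.beq c.1 s).length 1 &&
  kall (commW A a b) (fun c =>
    bif Nat.beq c.1 s then !(zEq (c.2.1 % (p : ℤ)) 0) && (Nat.beq c.2.2.1 1 || Nat.beq c.2.2.2 1)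
    else fixK A r c.1 && ok r c.1) &&
  (moveK A ok r a b || moveK A ok r b a)

theorem π_conj_moved (hC : CommGood D) (E : CExt D F Γ) {r b : ℕ} (hr : r < D.nroots)
    (hb : b < D.nroots) (h1 : b ≠ r) (h2 : b ≠ D.neg r) (u v : F) :
    E.π (E.ℓ r u * E.ℓ b v * (E.ℓ r u)⁻¹) =
      E.π (E.ℓ b v * ((D.commWord F r b (-u) v).map fun p => E.ℓ p.1 p.2).prod) := by
  have hD := hC.toGood
  have hg := hC.xg_comm (F := F) hr hb h1 h2 (-u) v
  rw [mul_assoc] at hg
  rw [map_mul, map_mul, map_inv, map_mul, map_list_prod, List.map_map, E.π_ℓ r hr, E.π_ℓ b hb,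
    hD.xg_inv, mul_assoc, hg, ← mul_assoc (xg D F r u), ← hD.xg_add, add_neg_cancel, hD.xg_zero,
    one_mul, wordG]
  refine congrArg (fun L => _ * List.prod L) (List.map_congr_left fun p hp => ?_)
  obtain ⟨c, hc, rfl⟩ := List.mem_map.1 hp
  exact (E.π_ℓ _ (hD.commTerms_coef hr hb hc).1 _).symm

theorem commute_mid (hC : CommGood D) (E : CExt D F Γ) {ok : ℕ → ℕ → Bool}
    (hok : ∀ x < D.nroots, ∀ y < D.nroots, (y = x ∨ (y ≠ D.neg x ∧ D.commTerms x y = [])) →
      ok x y = true → ∀ u v, Commute (E.ℓ x u) (E.ℓ y v))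
    {r a b : ℕ} (hr : r < D.nroots) (ha : a < D.nroots) (hb : b < D.nroots)
    (h : moveK (std D) ok r a b = true) (u : F) (t t' : F) :
    Commute (E.ℓ r u) ⁅(E.ℓ b t)⁻¹, (E.ℓ a t')⁻¹⁆ := by
  have hD := hC.toGood
  simp only [moveK, Bool.and_eq_true, Bool.or_eq_true, fixK_iff, kall_iff, Bool.not_eq_true',
    std_negf, commW_std, ← Bool.not_eq_true, Nat.beq_eq] at h
  obtain ⟨hra, hmove⟩ := h
  have hA : E.π (E.ℓ r u * (E.ℓ a t')⁻¹ * (E.ℓ r u)⁻¹) = E.π (E.ℓ a t')⁻¹ := by
    rw [map_mul, map_mul, map_inv, map_inv, E.π_ℓ r hr, E.π_ℓ a ha,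
      (commute_xg hC hr ha hra u t').inv_right.eq, mul_inv_cancel_right]
  show E.ℓ r u * _ = _ * E.ℓ r u
  refine mul_inv_eq_iff_eq_mul.1 ?_
  rw [← MulAut.conj_apply, map_commutatorElement, MulAut.conj_apply, MulAut.conj_apply]
  rcases hmove with hrb | ⟨⟨h1, h2⟩, hlet⟩
  · refine E.comm_congr ?_ hA
    rw [map_mul, map_mul, map_inv, map_inv, E.π_ℓ r hr, E.π_ℓ b hb,
      (commute_xg hC hr hb hrb u t).inv_right.eq, mul_inv_cancel_right]
  · set Ω := ((D.commWord F r b (-u) (-t)).map fun p => E.ℓ p.1 p.2).prod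
    have hB : E.π (E.ℓ r u * (E.ℓ b t)⁻¹ * (E.ℓ r u)⁻¹) = E.π ((E.ℓ b t)⁻¹ * Ω) := by
      rw [map_mul, map_mul, map_mul, map_inv, map_inv, E.π_ℓ r hr, E.π_ℓ b hb, hD.xg_inv b t,
        ← E.π_ℓ b hb, ← E.π_ℓ r hr, ← map_inv E.π, ← map_mul, ← map_mul, ← map_mul,
        π_conj_moved hC E hr hb h1 h2]
    have hΩ : Commute Ω (E.ℓ a t')⁻¹ := by
      refine (Commute.list_prod_left _ _ fun g hg => ?_).inv_right
      obtain ⟨p, hp, rfl⟩ := List.mem_map.1 hg
      obtain ⟨c, hc, rfl⟩ := List.mem_map.1 hp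
      obtain ⟨hf, hk⟩ := hlet c hc
      exact (hok a ha c.1 (hD.commTerms_coef hr hb hc).1 hf hk _ _).symm
    rw [E.comm_congr hB hA, commutatorElement_def, commutatorElement_def,
      mul_inv_rev, mul_assoc (E.ℓ b t)⁻¹ Ω, hΩ.eq]
    group

theorem commute_of_witM (hC : CommGood D) (E : CExt D F Γ) {p : ℕ}
    (hp : ∀ z : ℤ, z % (p : ℤ) ≠ 0 → (z : F) ≠ 0) {ok : ℕ → ℕ → Bool}
    (hok : ∀ x < D.nroots, ∀ y < D.nroots, (y = x ∨ (y ≠ D.neg x ∧ D.commTerms x y = [])) →
      ok x y = true → ∀ u v, Commute (E.ℓ x u) (E.ℓ y v))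
    {r s a b : ℕ} (hr : r < D.nroots) (hs : s < D.nroots) (ha : a < D.nroots) (hb : b < D.nroots)
    (h : witM (std D) p ok r s a b = true) (u v : F) : Commute (E.ℓ r u) (E.ℓ s v) := by
  simp only [witM, Bool.and_eq_true, Bool.or_eq_true, kall_iff, std_negf, commW_std,
    Bool.not_eq_true', ← Bool.not_eq_true, Nat.beq_eq] at h
  obtain ⟨⟨⟨⟨hba, hbna⟩, hcnt⟩, hall⟩, hmove⟩ := h
  obtain ⟨c0, hc0m⟩ : ∃ c0, c0 ∈ (D.commTerms a b).filter fun c => Nat.beq c.1 s := by
    refine List.exists_mem_of_ne_nil _ fun e => ?_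
    rw [e] at hcnt
    simp at hcnt
  rw [List.mem_filter] at hc0m
  obtain ⟨pre, post, hsplit⟩ := List.append_of_mem hc0m.1
  obtain ⟨c1, z, i, j⟩ := c0
  have hc0q : c1 = s := Nat.eq_of_beq_eq_true hc0m.2
  subst hc0q
  have hco := hall _ hc0m.1
  rw [hc0m.2, cond_true] at hco
  simp only [Bool.and_eq_true, Bool.or_eq_true, Bool.not_eq_true', ← Bool.not_eq_true, zEq_iff,
    Nat.beq_eq] at hco
  refine commute_of_bracket hC hs ha hb hba hbna hsplit (hp z hco.1) hco.2 (fun t' u' => ?_)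
    (fun c hc => ?_) v
  · rcases hmove with hm | hm
    · exact commute_mid hC E hok hr ha hb hm u u' t'
    · rw [← commutatorElement_inv]
      exact (commute_mid hC E hok hr hb ha hm u t' u').inv_right
  · have hem : c ∈ D.commTerms a b := by
      rw [hsplit]; simp only [List.mem_append, List.mem_cons] at hc ⊢; tauto
    have hne : Nat.beq c.1 c1 = false := by
      rw [← Bool.not_eq_true]
      intro heq
      rw [hsplit, List.filter_append, List.filter_cons_of_pos (by simpa using hc0m.2)] at hcnt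
      have : c ∈ (pre.filter fun c => Nat.beq c.1 c1) ++ (post.filter fun c => Nat.beq c.1 c1) := by
        rw [← List.filter_append, List.mem_filter]
        exact ⟨hc, heq⟩
      have := List.length_pos_of_mem this
      simp only [List.length_append, List.length_cons] at this hcnt
      omega
    have h := hall c hem
    rw [hne, cond_false] at h
    simp only [Bool.and_eq_true, fixK_iff] at h
    exact hok r hr c.1 (hC.toGood.commTerms_coef ha hb hem).1 h.1 h.2

/-- commuting pairs: separated, self pairs (for `self`), or a witness -/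
noncomputable def commK (D : ChevalleyDatum) (A : Acc) (m p : ℕ) (self : Bool) : Bool :=
  kallUpTo D.nroots fun r => forceN r fun r => kallUpTo D.nroots fun s => forceN s fun s =>
    !(fixK A r s) || (sepM D m r s || (self && Nat.beq s r)) ||
      kanyUpTo D.nroots fun a => kanyUpTo D.nroots fun b =>
        witM A p (fun x y => sepM D m x y || (self && Nat.beq y x)) r s a b

theorem comm_of_commK [Fintype F] {m p : ℕ} (hm : Fintype.card F = m + 1) (hC : CommGood D)
    (hp : ∀ z : ℤ, z % (p : ℤ) ≠ 0 → (z : F) ≠ 0) {self : Bool} (E : CExt D F Γ)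
    (hself : self = true → ∀ r < D.nroots, ∀ u v, Commute (E.ℓ r u) (E.ℓ r v))
    (h : commK D (std D) m p self = true) :
    ∀ r < D.nroots, ∀ s < D.nroots, (s = r ∨ (s ≠ D.neg r ∧ D.commTerms r s = [])) →
      ∀ u v, Commute (E.ℓ r u) (E.ℓ s v) := by
  have hD := hC.toGood
  have hok : ∀ x < D.nroots, ∀ y < D.nroots, (y = x ∨ (y ≠ D.neg x ∧ D.commTerms x y = [])) →
      (sepM D m x y || (self && Nat.beq y x)) = true → ∀ u v, Commute (E.ℓ x u) (E.ℓ y v) := by
    intro x hx y hy hxy hk u v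
    simp only [Bool.or_eq_true, Bool.and_eq_true, Nat.beq_eq] at hk
    rcases hk with hk | ⟨hs, rfl⟩
    · exact commute_of_sep hx hy (commute_xg hC hx hy hxy) hD (sep_of_sepM hm hD E hk) u v
    · exact hself hs y hx u v
  intro r hr s hs hrs u v
  simp only [commK, kallUpTo_iff, forceN_eq, Bool.or_eq_true, kanyUpTo_iff] at h
  rcases h r hr s hs with (h | h) | ⟨a, ha, b, hb, h⟩
  · rw [Bool.not_eq_true', ← Bool.not_eq_true] at h
    exact absurd (fixK_iff.2 hrs) h
  · exact hok r hr s hs hrs (by simpa only [Bool.or_eq_true] using h) u v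
  · exact commute_of_witM hC E hp hok hr hs ha hb h u v

end Cfsg.Agent.KnownSimple.Steinberg.Gen
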